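import Cfsg.Agent.Lib.LocalChar.Core

/-!
The L-Lemma.

For a `p`-subgroup `A` of the group `K`, minimal over its Sylow subgroup `B`, take a `p`-subgroup
`R` generated by conjugates of `A` and `O_p(K)` that is maximal among those lying in two proper
subgroups generating `K`.  The normalizer of `R` lies in a unique conjugate `M₀` of the maximal
subgroup over `B`; in a subgroup not inside `M₀` the group `R` is weakly closed, which produces a
smaller configuration.
-/

set_option autoImplicit false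

namespace Cfsg.Agent.Lib.LocalChar

open Subgroup
open scoped commutatorElement Pointwise

universe u

variable {G : Type u} [Group G]

/-- `K` is minimal over its Sylow `p`-subgroup `B`, with `N` containing every proper overgroup. -/
def IsMinimalData (p : ℕ) (K B N : Subgroup G) : Prop :=
  B ≤ N ∧ N < K ∧ IsPGroup p ↥B ∧
    (∀ S : Subgroup G, S ≤ K → IsPGroup p ↥S → ∃ c ∈ K, S.map (MulAut.conj c).toMonoidHom ≤ B) ∧
    (∀ X : Subgroup G, B ≤ X → X < K → X ≤ N) ∧ ¬ K ≤ normalizer (N : Set G)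

/-- The conclusion of the L-Lemma inside `K`. -/
def IsLLemmaConclusion (p : ℕ) (K N A L : Subgroup G) : Prop :=
  A ⊔ pCoreOf p K ≤ L ∧ L ≤ K ∧ ∃ L₀ : Subgroup G, A ⊔ pCoreOf p L ≤ L₀ ∧ L₀ < L ∧
    (∀ X : Subgroup G, A ⊔ pCoreOf p L ≤ X → X < L → X ≤ L₀) ∧
    (∃ g ∈ K, L₀ = L ⊓ N.map (MulAut.conj g).toMonoidHom) ∧
    ∀ x ∈ L, x ∉ L₀ → A ⊔ A.map (MulAut.conj x).toMonoidHom ⊔ pCoreOf p L = L

theorem conj_map_of_mem {K : Subgroup G} {c : G} (hc : c ∈ K) :
    K.map (MulAut.conj c).toMonoidHom = K :=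
  conj_map_eq_of_mem (Subgroup.le_normalizer hc)

theorem conj_map_lt_iff {X Y : Subgroup G} {c : G} :
    X.map (MulAut.conj c).toMonoidHom < Y.map (MulAut.conj c).toMonoidHom ↔ X < Y :=
  Subgroup.map_lt_map_iff_of_injective (MulAut.conj c).injective

variable [Finite G] {p : ℕ} [hp : Fact p.Prime]

theorem conj_map_pCoreOf_le (L : Subgroup G) (c : G) :
    (pCoreOf p L).map (MulAut.conj c).toMonoidHom ≤
      pCoreOf p (L.map (MulAut.conj c).toMonoidHom) := by
  refine CharP.le_pCoreOf (map_mono (CharP.pCoreOf_le L)) ((CharP.pCoreOf_isPGroup L).map _) ?_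
  rw [normalizer_conj_map]
  exact map_mono (CharP.le_normalizer_pCoreOf L)

theorem IsMinimalData.conj {K B N : Subgroup G} (h : IsMinimalData p K B N) (d : G) :
    IsMinimalData p (K.map (MulAut.conj d).toMonoidHom) (B.map (MulAut.conj d).toMonoidHom)
      (N.map (MulAut.conj d).toMonoidHom) := by
  obtain ⟨h1, h2, h3, h4, h5, h6⟩ := h
  refine ⟨map_mono h1, conj_map_lt_iff.mpr h2, h3.map _, fun S hS hSp => ?_, fun X hBX hX => ?_, ?_⟩
  · obtain ⟨c, hc, hcS⟩ := h4 (S.map (MulAut.conj d⁻¹).toMonoidHom)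
      (by rw [conj_map_le_iff, inv_inv]; exact hS) (hSp.map _)
    refine ⟨d * c * d⁻¹, conj_mem_conj_map hc, ?_⟩
    have := map_mono (f := (MulAut.conj d).toMonoidHom) hcS
    rwa [conj_map_conj_map, conj_map_conj_map] at this
  · have hX' : X.map (MulAut.conj d⁻¹).toMonoidHom < K := by
      rw [← conj_map_lt_iff (c := d), conj_map_conj_map, mul_inv_cancel, conj_map_one]
      exact hX
    have h7 := h5 _ (conj_map_le_iff.mp hBX) hX'
    rwa [conj_map_le_iff, inv_inv] at h7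
  · intro hle
    rw [normalizer_conj_map] at hle
    exact h6 ((map_le_map_iff_of_injective (MulAut.conj d).injective).mp hle)

omit hp in
theorem le_of_inf_normalizer_le {S N₁ : Subgroup G} (hS : Group.IsNilpotent ↥S) (hle : N₁ ≤ S)
    (h : S ⊓ normalizer (N₁ : Set G) ≤ N₁) : S ≤ N₁ := by
  by_contra hne
  have hlt : N₁.subgroupOf S < ⊤ :=
    lt_top_iff_ne_top.mpr fun e => hne (subgroupOf_eq_top.mp e)
  obtain ⟨x, hx, hxn⟩ := SetLike.exists_of_lt
    ((Group.normalizerCondition_of_isNilpotent (h := hS)) _ hlt)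
  rw [← subgroupOf_normalizer_eq hle] at hx
  exact hxn (h ⟨x.2, hx⟩)

/-- Sylow conjugacy inside a subgroup. -/
theorem exists_conj_le_sylow_map {L : Subgroup G} (P : Sylow p ↥L) {S : Subgroup G} (hS : S ≤ L)
    (hSp : IsPGroup p ↥S) : ∃ c ∈ L,
      S.map (MulAut.conj c).toMonoidHom ≤ (P : Subgroup ↥L).map L.subtype := by
  obtain ⟨Q, hQ⟩ := (hSp.comap_subtype (K := L)).exists_le_sylow
  obtain ⟨x, rfl⟩ := MulAction.exists_smul_eq ↥L Q P
  refine ⟨x, x.2, ?_⟩
  rintro _ ⟨s, hs, rfl⟩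
  refine ⟨x * ⟨s, hS hs⟩ * x⁻¹, ?_, rfl⟩
  rw [Sylow.coe_subgroup_smul]
  exact Subgroup.smul_mem_pointwise_smul _ (MulAut.conj x) _
    (hQ (show (⟨s, hS hs⟩ : ↥L) ∈ S.subgroupOf L from hs))

/-- The base case: only one maximal subgroup over `A O_p(K)`. -/
theorem lLemma_base {K B N A : Subgroup G} (hD : IsMinimalData p K B N) (hA : A ≤ B)
    (huniq : ∀ X : Subgroup G, A ⊔ pCoreOf p K ≤ X → X < K → X ≤ N) :
    IsLLemmaConclusion p K N A K := by
  obtain ⟨hBN, hNK, -, hSyl, hover, hnn⟩ := hD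
  have hEB : pCoreOf p K ≤ B := by
    obtain ⟨c, hc, hcS⟩ := hSyl _ (CharP.pCoreOf_le K) (CharP.pCoreOf_isPGroup K)
    rwa [conj_map_eq_of_mem (CharP.le_normalizer_pCoreOf K hc)] at hcS
  have hAE : A ⊔ pCoreOf p K ≤ N := sup_le (hA.trans hBN) (hEB.trans hBN)
  have hNn : K ⊓ normalizer (N : Set G) ≤ N := by
    refine hover _ (le_inf (hBN.trans hNK.le) (hBN.trans Subgroup.le_normalizer)) ?_
    exact lt_of_le_of_ne inf_le_left fun h => hnn (inf_eq_left.mp h)
  refine ⟨hAE.trans hNK.le, le_rfl, N, hAE, hNK, huniq, ⟨1, one_mem K, ?_⟩, fun x hx hxN => ?_⟩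
  · rw [conj_map_one, inf_eq_right.mpr hNK.le]
  have hAK : A ≤ K := hA.trans (hBN.trans hNK.le)
  set Y := A ⊔ A.map (MulAut.conj x).toMonoidHom ⊔ pCoreOf p K with hY
  have hYK : Y ≤ K :=
    sup_le (sup_le hAK ((map_mono hAK).trans (conj_map_of_mem hx).le)) (CharP.pCoreOf_le K)
  by_contra hne
  have hYN : Y ≤ N :=
    huniq Y (sup_le (le_sup_left.trans le_sup_left) le_sup_right) (lt_of_le_of_ne hYK hne)
  have hxA : A.map (MulAut.conj x).toMonoidHom ≤ N := (le_sup_right.trans le_sup_left).trans hYN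
  have h2 : A ⊔ pCoreOf p K ≤ N.map (MulAut.conj x⁻¹).toMonoidHom := by
    refine sup_le (conj_map_le_iff.mp hxA) ?_
    rw [← conj_map_eq_of_mem (CharP.le_normalizer_pCoreOf K (inv_mem hx))]
    exact map_mono (hEB.trans hBN)
  have h3 : N.map (MulAut.conj x⁻¹).toMonoidHom < K := by
    conv_rhs => rw [← conj_map_of_mem (inv_mem hx)]
    exact conj_map_lt_iff.mpr hNK
  exact hxN (inv_mem_iff.mp (hNn (mem_inf.mpr ⟨inv_mem hx,
    mem_normalizer_of_conj_map_le (huniq _ h2 h3)⟩)))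

/-- **L-Lemma** inside a subgroup. -/
theorem lLemma : ∀ (n : ℕ) (K B N A : Subgroup G), Nat.card ↥K ≤ n → IsMinimalData p K B N →
    A ≤ B → ¬ A ≤ pCoreOf p K → ∃ L : Subgroup G, IsLLemmaConclusion p K N A L := by
  intro n
  induction n with
  | zero => exact fun K _ _ _ hn _ _ _ => absurd hn (Nat.card_pos (α := ↥K)).not_ge
  | succ n ih =>
    intro K B N A hn hD hA hAE
    by_cases huniq : ∀ X : Subgroup G, A ⊔ pCoreOf p K ≤ X → X < K → X ≤ N
    · exact ⟨K, lLemma_base hD hA huniq⟩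
    push Not at huniq
    obtain ⟨X₀, hAX₀, hX₀K, hX₀N⟩ := huniq
    obtain ⟨hBN, hNK, hBp, hSyl, hover, hnn⟩ := hD
    have hBK : B ≤ K := hBN.trans hNK.le
    set E := pCoreOf p K with hE
    have hEB : E ≤ B := by
      obtain ⟨c, hc, hcS⟩ := hSyl _ (CharP.pCoreOf_le K) (CharP.pCoreOf_isPGroup K)
      rwa [conj_map_eq_of_mem (CharP.le_normalizer_pCoreOf K hc)] at hcS
    -- the subgroup generated by `E` and the conjugates of `A` inside `S`
    let wcl : Subgroup G → Subgroup G := fun S =>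
      (⨆ c ∈ {c : G | c ∈ K ∧ A.map (MulAut.conj c).toMonoidHom ≤ S},
        A.map (MulAut.conj c).toMonoidHom) ⊔ E
    have hgen : ∀ (S : Subgroup G), ∀ c ∈ K, A.map (MulAut.conj c).toMonoidHom ≤ S →
        A.map (MulAut.conj c).toMonoidHom ≤ wcl S := fun S c hc h =>
      le_sup_of_le_left (le_iSup₂_of_le (f := fun c (_ : c ∈ {c : G | c ∈ K ∧
        A.map (MulAut.conj c).toMonoidHom ≤ S}) => A.map (MulAut.conj c).toMonoidHom) c ⟨hc, h⟩ le_rfl)
    have hwle : ∀ (S R : Subgroup G), E ≤ R → (∀ c ∈ K, A.map (MulAut.conj c).toMonoidHom ≤ S →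
        A.map (MulAut.conj c).toMonoidHom ≤ R) → wcl S ≤ R := fun S R hER h =>
      sup_le (iSup₂_le fun c hc => h c hc.1 hc.2) hER
    have hwmono : ∀ S S' : Subgroup G, S ≤ S' → wcl S ≤ wcl S' := fun S S' h =>
      hwle S _ le_sup_right fun c hc hle => hgen S' c hc (hle.trans h)
    have hwnorm : ∀ S : Subgroup G,
        K ⊓ normalizer (S : Set G) ≤ normalizer (wcl S : Set G) := fun S x hx => by
      refine mem_normalizer_of_conj_map_le ?_
      rw [map_le_iff_le_comap]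
      refine hwle S _ ?_ fun c hc hle => ?_
      · rw [← map_le_iff_le_comap, conj_map_eq_of_mem (CharP.le_normalizer_pCoreOf K hx.1)]
        exact le_sup_right
      · rw [← map_le_iff_le_comap, conj_map_conj_map]
        refine hgen S _ (mul_mem hx.1 hc) ?_
        rw [← conj_map_conj_map, ← conj_map_eq_of_mem hx.2]
        exact map_mono hle
    -- the family
    set ℛ : Set (Subgroup G) := {R | R = wcl R ∧ IsPGroup p ↥R ∧
      (∃ c ∈ K, A.map (MulAut.conj c).toMonoidHom ≤ R) ∧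
      ∃ X₁, X₁ < K ∧ ∃ X₂, X₂ < K ∧ R ≤ X₁ ∧ R ≤ X₂ ∧ ¬ X₁ ⊔ X₂ < K} with hℛ
    have hR₀ : A ⊔ E ∈ ℛ := by
      refine ⟨le_antisymm (sup_le ?_ le_sup_right)
        (hwle _ _ le_sup_right fun c _ h => h), hBp.to_le (sup_le hA hEB),
        ⟨1, one_mem K, by rw [conj_map_one]; exact le_sup_left⟩, N, hNK, X₀, hX₀K,
        (sup_le hA hEB).trans hBN, hAX₀, fun hlt => ?_⟩
      · have := hgen (A ⊔ E) 1 (one_mem K) (by rw [conj_map_one]; exact le_sup_left)
        rwa [conj_map_one] at this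
      · exact hX₀N (le_sup_right.trans (hover _ (hBN.trans le_sup_left) hlt))
    obtain ⟨R, hRmax⟩ := (Set.toFinite ℛ).exists_maximal ⟨_, hR₀⟩
    obtain ⟨hRw, hRp, ⟨cA, hcA, hcAR⟩, X₁, hX₁, X₂, hX₂, hRX₁, hRX₂, hX₁₂⟩ := hRmax.prop
    have hRK : R ≤ K := hRX₁.trans hX₁.le
    have hER : E ≤ R := le_sup_right.trans hRw.ge
    -- a larger member inside a `p`-group
    have hgrow : ∀ S : Subgroup G, R ≤ S → S ≤ K → IsPGroup p ↥S →
        wcl S ≤ R ∨ ∃ R' : Subgroup G, R < R' ∧ R' ≤ S ∧ R' ≤ K ⊓ normalizer (R : Set G) ∧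
          ∀ Y Z : Subgroup G, Y < K → Z < K → R' ≤ Y → R' ≤ Z → Y ⊔ Z < K := by
      intro S hRS hSK hSp
      by_cases hex : ∃ c ∈ K, A.map (MulAut.conj c).toMonoidHom ≤ S ⊓ normalizer (R : Set G) ∧
          ¬ A.map (MulAut.conj c).toMonoidHom ≤ R
      · obtain ⟨c, hc, hcS, hcR⟩ := hex
        refine Or.inr ⟨R ⊔ A.map (MulAut.conj c).toMonoidHom, left_lt_sup.mpr hcR,
          sup_le hRS (hcS.trans inf_le_left),
          sup_le (le_inf hRK Subgroup.le_normalizer)
            (le_inf (hcS.trans (inf_le_left.trans hSK)) (hcS.trans inf_le_right)),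
          fun Y Z hY hZ hRY hRZ => ?_⟩
        by_contra hYZ
        have hmem : R ⊔ A.map (MulAut.conj c).toMonoidHom ∈ ℛ := by
          refine ⟨le_antisymm (sup_le ?_ ?_) (hwle _ _ (hER.trans le_sup_left) fun _ _ h => h),
            hSp.to_le (sup_le hRS (hcS.trans inf_le_left)),
            ⟨cA, hcA, hcAR.trans le_sup_left⟩, Y, hY, Z, hZ, hRY, hRZ, hYZ⟩
          · exact hRw.le.trans (hwmono _ _ le_sup_left)
          · exact hgen _ c hc le_sup_right
        exact (left_lt_sup.mpr hcR).ne (hRmax.eq_of_ge hmem le_sup_left).symm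
      · push Not at hex
        left
        set N₁ := S ⊓ normalizer (R : Set G) with hN₁
        have hwN₁ : wcl N₁ = R :=
          le_antisymm (hwle _ _ hER fun c hc h => hex c hc h)
            (hRw.le.trans (hwmono _ _ (le_inf hRS Subgroup.le_normalizer)))
        have hSN : S ≤ N₁ := by
          refine le_of_inf_normalizer_le hSp.isNilpotent inf_le_left ?_
          refine le_inf inf_le_left ?_
          rw [← hwN₁]
          exact (inf_le_inf_right _ hSK).trans (hwnorm N₁)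
        exact (hwmono _ _ hSN).trans hwN₁.le
    have hwS : ∀ S : Subgroup G, R ≤ S → S ≤ K → wcl S ≤ R →
        K ⊓ normalizer (S : Set G) ≤ normalizer (R : Set G) := fun S hRS _ hw => by
      have : wcl S = R := le_antisymm hw (hRw.le.trans (hwmono _ _ hRS))
      rw [← this]
      exact hwnorm S
    -- the conjugate `M₀` of `N` over `N_K(R)`
    obtain ⟨c₀, hc₀, hc₀R⟩ := hSyl R hRK hRp
    set S₀ := B.map (MulAut.conj c₀⁻¹).toMonoidHom with hS₀
    set M₀ := N.map (MulAut.conj c₀⁻¹).toMonoidHom with hM₀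
    have hRS₀ : R ≤ S₀ := conj_map_le_iff.mp hc₀R
    have hS₀M₀ : S₀ ≤ M₀ := map_mono hBN
    have hM₀K : M₀ < K := by
      conv_rhs => rw [← conj_map_of_mem (inv_mem hc₀)]
      exact conj_map_lt_iff.mpr hNK
    have hS₀K : S₀ ≤ K := hS₀M₀.trans hM₀K.le
    have hover₀ : ∀ X : Subgroup G, S₀ ≤ X → X < K → X ≤ M₀ := by
      intro X hX hXK
      have h1 : B ≤ X.map (MulAut.conj c₀).toMonoidHom := by
        have := map_mono (f := (MulAut.conj c₀).toMonoidHom) hX
        rwa [hS₀, conj_map_conj_map, mul_inv_cancel, conj_map_one] at this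
      have h2 : X.map (MulAut.conj c₀).toMonoidHom < K := by
        conv_rhs => rw [← conj_map_of_mem hc₀]
        exact conj_map_lt_iff.mpr hXK
      exact conj_map_le_iff.mp (hover _ h1 h2)
    have hNR : K ⊓ normalizer (R : Set G) < K := by
      refine lt_of_le_of_ne inf_le_left fun h => hAE ?_
      have hRE : R ≤ E := CharP.le_pCoreOf hRK hRp (inf_eq_left.mp h)
      have := conj_map_le_iff.mp (hcAR.trans hRE)
      rwa [conj_map_eq_of_mem (CharP.le_normalizer_pCoreOf K (inv_mem hcA))] at this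
    have hNRM : K ⊓ normalizer (R : Set G) ≤ M₀ := by
      rcases hgrow S₀ hRS₀ hS₀K (hBp.map _) with h | ⟨R', -, hR'S, hR'N, hpair⟩
      · exact hover₀ _ (le_inf hS₀K
          ((le_inf hS₀K Subgroup.le_normalizer).trans (hwS S₀ hRS₀ hS₀K h))) hNR
      · have hlt := hpair _ M₀ hNR hM₀K hR'N (hR'S.trans hS₀M₀)
        exact le_sup_left.trans (hover₀ _ (hS₀M₀.trans le_sup_right) hlt)
    obtain ⟨X, hXK, hRX, hXM⟩ : ∃ X : Subgroup G, X < K ∧ R ≤ X ∧ ¬ X ≤ M₀ := by
      by_cases h1 : X₁ ≤ M₀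
      · refine ⟨X₂, hX₂, hRX₂, fun h2 => hX₁₂ ?_⟩
        exact lt_of_le_of_lt (sup_le h1 h2) hM₀K
      · exact ⟨X₁, hX₁, hRX₁, h1⟩
    -- `R` is weakly closed in the `p`-subgroups of `X`
    have hwX : ∀ S : Subgroup G, R ≤ S → S ≤ X → IsPGroup p ↥S →
        wcl S ≤ R ∧ K ⊓ normalizer (S : Set G) ≤ M₀ := by
      intro S hRS hSX hSp
      rcases hgrow S hRS (hSX.trans hXK.le) hSp with h | ⟨R', -, hR'S, hR'N, hpair⟩
      · exact ⟨h, (le_inf inf_le_left (hwS S hRS (hSX.trans hXK.le) h)).trans hNRM⟩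
      · exfalso
        have hlt := hpair X M₀ hXK hM₀K (hR'S.trans hSX) (hR'N.trans hNRM)
        exact hXM (le_sup_left.trans (hover₀ _ (hS₀M₀.trans le_sup_right) hlt))
    -- a minimal subgroup of `X` not inside `M₀`
    obtain ⟨L', hL'min⟩ := (Set.toFinite {L : Subgroup G | R ≤ L ∧ L ≤ X ∧ ¬ L ≤ M₀}).exists_minimal
      ⟨X, hRX, le_rfl, hXM⟩
    obtain ⟨hRL', hL'X, hL'M⟩ := hL'min.prop
    have hL'K : L' ≤ K := hL'X.trans hXK.le
    set O := pCoreOf p L' with hO
    have hOL' : O ≤ L' := CharP.pCoreOf_le L'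
    have hROp : IsPGroup p ↥(R ⊔ O) :=
      hRp.to_sup_of_normal_right' (CharP.pCoreOf_isPGroup L')
        (hRL'.trans (CharP.le_normalizer_pCoreOf L'))
    obtain ⟨P, hP⟩ := (hROp.comap_subtype (K := L')).exists_le_sylow
    set B' := (P : Subgroup ↥L').map L'.subtype with hB'
    have hB'L' : B' ≤ L' := map_subtype_le _
    have hROB' : R ⊔ O ≤ B' := by
      intro x hx
      exact ⟨⟨x, sup_le hRL' hOL' hx⟩, hP (mem_subgroupOf.mpr hx), rfl⟩
    have hB'p : IsPGroup p ↥B' := P.isPGroup'.map _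
    obtain ⟨-, hNB'⟩ := hwX B' (le_sup_left.trans hROB') (hB'L'.trans hL'X) hB'p
    have hB'M : B' ≤ M₀ := (le_inf (hB'L'.trans hL'K) Subgroup.le_normalizer).trans hNB'
    set L₀ := L' ⊓ M₀ with hL₀
    have hL₀lt : L₀ < L' := lt_of_le_of_ne inf_le_left fun h => hL'M (inf_eq_left.mp h)
    have hnn' : ¬ L' ≤ normalizer (L₀ : Set G) := by
      intro hle
      haveI : (L₀.subgroupOf L').Normal := normal_subgroupOf_of_le_normalizer hle
      have hPle : (P : Subgroup ↥L') ≤ L₀.subgroupOf L' := fun y hy =>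
        ⟨y.2, hB'M ⟨y, hy, rfl⟩⟩
      have htop := Sylow.normalizer_sup_eq_top' P hPle
      refine hL'M fun x hx => ?_
      have hle' : normalizer ((P : Subgroup ↥L') : Set ↥L') ⊔ L₀.subgroupOf L' ≤
          M₀.subgroupOf L' := by
        refine sup_le (fun y hy => hNB' ⟨hL'K y.2, ?_⟩) fun y hy => hy.2
        refine mem_normalizer_of_conj_map_le ?_
        rintro _ ⟨_, ⟨z, hz, rfl⟩, rfl⟩
        exact ⟨y * z * y⁻¹, (mem_normalizer_iff.mp hy z).mp hz, rfl⟩
      exact hle' (htop.ge (mem_top (⟨x, hx⟩ : ↥L')))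
    have hdata : IsMinimalData p L' B' L₀ := by
      refine ⟨le_inf hB'L' hB'M, hL₀lt, hB'p, fun S hS hSp => exists_conj_le_sylow_map P hS hSp,
        fun Y hY hYL => le_inf hYL.le ?_, hnn'⟩
      by_contra hYM
      exact hYL.ne (hL'min.eq_of_le ⟨(le_sup_left.trans hROB').trans hY, hYL.le.trans hL'X, hYM⟩
        hYL.le)
    have hEO : E ≤ O := CharP.le_pCoreOf (hER.trans hRL') (CharP.pCoreOf_isPGroup K)
      (hL'K.trans (CharP.le_normalizer_pCoreOf K))
    -- some conjugate of `A` in `R` is outside `O_p(L')`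
    obtain ⟨c, hc, hcR, hcO⟩ : ∃ c ∈ K, A.map (MulAut.conj c).toMonoidHom ≤ R ∧
        ¬ A.map (MulAut.conj c).toMonoidHom ≤ O := by
      by_contra hall
      push Not at hall
      have hRO : R ≤ O := hRw.le.trans (hwle R O hEO fun c hc h => hall c hc h)
      obtain ⟨-, hNO⟩ := hwX O hRO (hOL'.trans hL'X) (CharP.pCoreOf_isPGroup L')
      exact hL'M ((le_inf hL'K (CharP.le_normalizer_pCoreOf L')).trans hNO)
    set d := c⁻¹ with hd
    have hdK : d ∈ K := inv_mem hc
    set K' := L'.map (MulAut.conj d).toMonoidHom with hK'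
    have hK'K : K' ≤ K := (map_mono hL'K).trans (conj_map_of_mem hdK).le
    have hAd : A = (A.map (MulAut.conj c).toMonoidHom).map (MulAut.conj d).toMonoidHom := by
      rw [conj_map_conj_map, hd, inv_mul_cancel, conj_map_one]
    have hAB' : A ≤ B'.map (MulAut.conj d).toMonoidHom := by
      rw [hAd]
      exact map_mono (hcR.trans (le_sup_left.trans hROB'))
    have hAK' : ¬ A ≤ pCoreOf p K' := by
      intro h
      apply hcO
      refine (map_mono h).trans ((conj_map_pCoreOf_le _ c).trans ?_)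
      rw [hK', conj_map_conj_map, hd, mul_inv_cancel, conj_map_one]
    have hcard : Nat.card ↥K' ≤ n := by
      rw [hK', card_conj_map]
      have hlt : L' < K := lt_of_le_of_lt hL'X hXK
      have hne : Nat.card ↥L' ≠ Nat.card ↥K := fun e =>
        hlt.ne (Subgroup.eq_of_le_of_card_ge hlt.le e.ge)
      have hle := Subgroup.card_le_of_le hlt.le
      omega
    obtain ⟨L, hL1, hLK', L'₀, h1, h2, h3, ⟨g, hg, h4⟩, h5⟩ :=
      ih K' _ _ A hcard (hdata.conj d) hAB' hAK'
    have hEK' : E ≤ pCoreOf p K' := by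
      refine (conj_map_eq_of_mem (CharP.le_normalizer_pCoreOf K hdK)).ge.trans ?_
      exact (map_mono hEO).trans (conj_map_pCoreOf_le L' d)
    refine ⟨L, (sup_le_sup le_rfl hEK').trans hL1, hLK'.trans hK'K, L'₀, h1, h2, h3,
      ⟨g * d * c₀⁻¹, mul_mem (mul_mem (hK'K hg) hdK) (inv_mem hc₀), ?_⟩, h5⟩
    rw [h4, hL₀, map_inf _ _ _ (MulAut.conj d).injective, map_inf _ _ _ (MulAut.conj g).injective,
      ← hK', conj_map_of_mem hg, ← inf_assoc, inf_eq_left.mpr hLK', hM₀, conj_map_conj_map,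
      conj_map_conj_map, mul_assoc]

end Cfsg.Agent.Lib.LocalChar
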