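import Cfsg.Agent.Lib.LocalChar.SubnormalFitting

/-!
Consequences for `F*(G)` when `O_p(G) = 1`.
-/

set_option autoImplicit false

namespace Cfsg.Agent.Lib.LocalChar

open Subgroup
open scoped commutatorElement Pointwise

universe u

variable {G : Type u} [Group G] [Finite G] {p : ℕ}

omit [Finite G] in
theorem le_of_isSubnormal_of_commutator_eq {D Y K : Subgroup G} (hK : K.IsSubnormal)
    (hYK : Y ≤ K) (hD : ⁅D, Y⁆ = D) : D ≤ K := by
  induction hK with
  | top => exact le_top
  | step H' K' hle hK' hn ih =>
    have hDK : D ≤ K' := ih (hYK.trans hle)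
    have hN : K' ≤ normalizer (H' : Set G) := (normal_subgroupOf_iff_le_normalizer hle).mp hn
    rw [← hD]
    exact (commutator_mono (hDK.trans hN) hYK).trans
      (le_normalizer_iff_commutator_le_right.mp le_rfl)

/-- For a subnormal `K`: `K ∩ F*(G) ≤ F*(K)`. -/
theorem inf_genFitting_le {K : Subgroup G} (hK : K.IsSubnormal) :
    K ⊓ generalizedFittingSubgroup G ≤ (generalizedFittingSubgroup ↥K).map K.subtype := by
  intro x hx
  haveI := Components.fittingSubgroup_normal (G := G)
  have hsn : (K ⊓ generalizedFittingSubgroup G).IsSubnormal :=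
    hK.inf Components.generalizedFittingSubgroup_normal.isSubnormal
  obtain ⟨e, he, f, hf, rfl⟩ := exists_mul_eq_of_le_genFitting hsn inf_le_right hx
  show e * f ∈ (layer ↥K ⊔ fittingSubgroup ↥K).map K.subtype
  rw [Subgroup.map_sup]
  refine mul_mem_sup ?_ ?_
  · suffices h : sSup {C : Subgroup G | IsComponent C ∧ C ≤ K ⊓ generalizedFittingSubgroup G} ≤
        (layer ↥K).map K.subtype from h he
    refine sSup_le fun C hC => ?_
    have hCK : C ≤ K := hC.2.trans inf_le_left
    rw [← map_subgroupOf_eq_of_le hCK]
    exact map_mono (Components.isComponent_le_layer (Components.isComponent_subgroupOf hC.1 hCK))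
  · refine ⟨⟨f, hf.1.1⟩, Components.le_fittingSubgroup
      (N := (fittingSubgroup G).subgroupOf K) inferInstance ?_ hf.2, rfl⟩
    haveI := Components.fittingSubgroup_isNilpotent (G := G)
    exact Subgroup.isNilpotent_of_ker_le_center (K.subtype.subgroupComap (fittingSubgroup G))
      (((MonoidHom.ker_eq_bot_iff _).mpr fun a b h =>
        by have h2 := congrArg Subtype.val h; exact Subtype.ext (Subtype.ext h2)).trans_le bot_le)

variable [hp : Fact p.Prime]

theorem coprime_fitting_inf (hO : pCore p G = ⊥) {L : Subgroup G} {x : G}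
    (hx : x ∈ L ⊓ fittingSubgroup G) : Nat.Coprime (orderOf x) p :=
  coprime_orderOf_of_normal_isNilpotent hO Components.fittingSubgroup_normal
    Components.fittingSubgroup_isNilpotent hx.2

/-- `[F*(G),Y,Y] = [F*(G),Y]`. -/
theorem genFitting_commutator_commutator (hO : pCore p G = ⊥) {Y : Subgroup G}
    (hY : IsPGroup p ↥Y) :
    ⁅⁅generalizedFittingSubgroup G, Y⁆, Y⁆ = ⁅generalizedFittingSubgroup G, Y⁆ := by
  haveI := Components.generalizedFittingSubgroup_normal (G := G)
  exact (genFitting_commutator this.isSubnormal le_rfl (fun _ h => coprime_fitting_inf hO h) hY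
    (by rw [normalizer_eq_top]; exact le_top)).2

/-- A `p`-element centralizing `F*(G)` is trivial. -/
theorem eq_bot_of_le_centralizer_genFitting (hO : pCore p G = ⊥) {Y : Subgroup G}
    (hY : IsPGroup p ↥Y) (hc : Y ≤ centralizer (generalizedFittingSubgroup G : Set G)) :
    Y = ⊥ := by
  haveI := Components.generalizedFittingSubgroup_normal (G := G)
  set C := centralizer (generalizedFittingSubgroup G : Set G)
  have hn : Group.IsNilpotent ↥C := by
    refine isNilpotent_of_lowerCentralSeries_eq_bot (n := 1) ?_
    rw [Subgroup.lowerCentralSeries_succ, Subgroup.lowerCentralSeries_zero,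
      commutator_eq_bot_iff_le_centralizer]
    exact centralizer_le (Components.centralizer_generalizedFittingSubgroup_le (G := G))
  exact (eq_bot_iff_forall _).mpr fun y hy => eq_one_of_mem_pGroup hY hy
    (coprime_orderOf_of_normal_isNilpotent hO inferInstance hn (hc hy))

end Cfsg.Agent.Lib.LocalChar
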