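import Cfsg.Agent.Lib.LocalChar.BasicProperty
import Cfsg.Agent.Lib.LocalChar.FittingAction
import Cfsg.Agent.Lib.LargeQ55.Basic

/-!
`O_p(M)` for `M` with the basic property and a large subgroup.

Weak closure in the asymmetric case: on the conjugates of `O_p(M)` take the relation "normalize
each other".  By asymmetry the conjugates of `Y_M` attached to one connected component commute, so
they generate an elementary abelian group normalized by every basic subgroup of the component.
-/

set_option autoImplicit false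

namespace Cfsg.Agent.Lib.LocalChar

open Subgroup
open scoped commutatorElement Pointwise

universe u

variable {G : Type u} [Group G] [Finite G] {p : ℕ} [hp : Fact p.Prime]

/-- What is used about a member `M` of `𝔐(S)` in the presence of a large subgroup. -/
structure BasicSetting (S : Sylow p G) (M : Subgroup G) : Prop where
  le : (S : Subgroup G) ≤ M
  frakM : IsInFrakM p M
  normalizer_le : ∀ I : Subgroup G, I ≠ ⊥ → IsPGroup p ↥I → M ≤ normalizer (I : Set G) →
    normalizer (I : Set G) ≤ M ⊔ centralizer ((largestPReducedOf p M : Subgroup G) : Set G)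

theorem basicSetting_of_large {Q : Subgroup G} (hQp : IsPGroup p ↥Q) (hQ : IsLarge Q)
    (S : Sylow p G) (hQS : Q ≤ (S : Subgroup G)) {M : Subgroup G} (hSM : (S : Subgroup G) ≤ M)
    (hM : IsInFrakM p M) : BasicSetting S M :=
  ⟨hSM, hM, fun _ h1 h2 h3 => LargeQ55.normalizer_le_of_frakM hQp hQ S hQS hSM hM h1 h2 h3⟩

variable {S : Sylow p G} {M : Subgroup G}

local notation "Y₀" => largestPReducedOf p M
local notation "T₀" => pCoreOf p M
local notation "C₀" => centralizer ((largestPReducedOf p M : Subgroup G) : Set G)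

theorem BasicSetting.pCore_ne_bot (h : BasicSetting S M) : T₀ ≠ ⊥ := fun he =>
  h.frakM.1.1 ((pCoreOf_eq_bot_iff M).mp he)

theorem BasicSetting.sylow_ne_bot (h : BasicSetting S M) : (S : Subgroup G) ≠ ⊥ := fun he =>
  h.pCore_ne_bot (le_bot_iff.mp ((pCoreOf_le_sylow S h.le).trans he.le))

theorem BasicSetting.charP (h : BasicSetting S M) :
    centralizer (pCore p ↥M : Set ↥M) ≤ pCore p ↥M :=
  charP_of_centralizer_pCoreOf_le h.frakM.1.2

theorem BasicSetting.largest_ne_bot (h : BasicSetting S M) : Y₀ ≠ ⊥ :=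
  largestPReducedOf_ne_bot S h.sylow_ne_bot h.le h.charP

omit hp in
theorem largest_le_pCoreOf [Fact p.Prime] : Y₀ ≤ T₀ := (isRedIn_largest (p := p) M).le_pCoreOf

omit hp in
theorem pCoreOf_le_centralizer_Y [Fact p.Prime] : T₀ ≤ C₀ :=
  (isRedIn_largest (p := p) M).pCoreOf_le_centralizer

theorem BasicSetting.normalizer_largest (h : BasicSetting S M) :
    normalizer ((Y₀ : Subgroup G) : Set G) = M ⊔ C₀ :=
  le_antisymm (h.normalizer_le _ h.largest_ne_bot (isRedIn_largest M).isPGroup (isRedIn_largest M).2.1)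
    (sup_le (isRedIn_largest M).2.1 (centralizer_le_normalizer _))

theorem BasicSetting.normalizer_pCoreOf_le (h : BasicSetting S M) :
    normalizer ((T₀ : Subgroup G) : Set G) ≤ M ⊔ C₀ :=
  h.normalizer_le _ h.pCore_ne_bot (CharP.pCoreOf_isPGroup M) (CharP.le_normalizer_pCoreOf M)

theorem BasicSetting.le_normalizer_centralizer (h : BasicSetting S M) :
    M ⊔ C₀ ≤ normalizer (C₀ : Set G) :=
  h.normalizer_largest.ge.trans (le_normalizer_centralizer_of_le le_rfl)

theorem BasicSetting.sylow_inf_centralizer (h : BasicSetting S M) : (S : Subgroup G) ⊓ C₀ ≤ T₀ :=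
  (le_pCoreOf_of_isPClosed h.frakM.2.2.2.2.1 (inf_le_inf h.le le_rfl)
      (S.isPGroup'.to_inf_left)).trans
    (pCoreOf_le_pCoreOf_of_normal inf_le_left
      (le_normalizer_inf_of_le Subgroup.le_normalizer
        (le_normalizer_centralizer_of_le (isRedIn_largest M).2.1)))

/-- A `p`-subgroup centralizing `Y_M` and normalizing `O_p(M)` lies in `O_p(M)`. -/
theorem BasicSetting.le_pCoreOf (h : BasicSetting S M) {P : Subgroup G} (hP : IsPGroup p ↥P)
    (hPC : P ≤ C₀) (hPN : P ≤ normalizer ((T₀ : Subgroup G) : Set G)) : P ≤ T₀ := by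
  set W := P ⊔ T₀
  have hWp : IsPGroup p ↥W := hP.to_sup_of_normal_right' (CharP.pCoreOf_isPGroup M) hPN
  have hWC : W ≤ C₀ := sup_le hPC pCoreOf_le_centralizer_Y
  have hSX : (S : Subgroup G) ≤ M ⊔ C₀ := h.le.trans le_sup_left
  obtain ⟨c, hc, hcW⟩ := exists_conj_le_sylow_map (S.subtype hSX) (hWC.trans le_sup_right) hWp
  rw [Sylow.coe_subtype, map_subgroupOf_eq_of_le hSX] at hcW
  have hle : W.map (MulAut.conj c).toMonoidHom ≤ T₀ :=
    (le_inf hcW ((map_mono hWC).trans (conj_map_eq_of_mem (h.le_normalizer_centralizer hc)).le)).trans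
      h.sylow_inf_centralizer
  have hcard : Nat.card ↥W ≤ Nat.card ↥T₀ := (card_conj_map W c).symm.le.trans (card_le_of_le hle)
  exact le_sup_left.trans (Subgroup.eq_of_le_of_card_ge (le_sup_right : T₀ ≤ W) hcard).ge

omit hp in
theorem conj_charPSubgroups [Fact p.Prime] {L : Subgroup G} (hL : L ∈ charPSubgroups p G) (g : G) :
    L.map (MulAut.conj g).toMonoidHom ∈ charPSubgroups p G := by
  have heq : pCoreOf p (L.map (MulAut.conj g).toMonoidHom) =
      (pCoreOf p L).map (MulAut.conj g).toMonoidHom := by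
    refine le_antisymm ?_ (conj_map_pCoreOf_le L g)
    have h1 := map_mono (f := (MulAut.conj g).toMonoidHom)
      (conj_map_pCoreOf_le (p := p) (L.map (MulAut.conj g).toMonoidHom) g⁻¹)
    rwa [conj_map_conj_map, conj_map_conj_map, mul_inv_cancel, inv_mul_cancel, conj_map_one,
      conj_map_one] at h1
  constructor
  · intro h
    have h2 : pCoreOf p (L.map (MulAut.conj g).toMonoidHom) = ⊥ := (pCoreOf_eq_bot_iff _).mpr h
    rw [heq, map_eq_bot_iff_of_injective _ (MulAut.conj g).injective] at h2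
    exact hL.1 ((pCoreOf_eq_bot_iff L).mp h2)
  · show centralizer ((pCoreOf p (L.map (MulAut.conj g).toMonoidHom) : Subgroup G) : Set G) ≤
      pCoreOf p (L.map (MulAut.conj g).toMonoidHom)
    rw [heq, centralizer_conj_map]
    exact map_mono hL.2

/-- Two conjugates of `O_p(M)` normalize each other. -/
def MutualConj (p : ℕ) (M : Subgroup G) (a b : G) : Prop :=
  (pCoreOf p M).map (MulAut.conj a).toMonoidHom ≤
      normalizer (((pCoreOf p M).map (MulAut.conj b).toMonoidHom : Subgroup G) : Set G) ∧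
    (pCoreOf p M).map (MulAut.conj b).toMonoidHom ≤
      normalizer (((pCoreOf p M).map (MulAut.conj a).toMonoidHom : Subgroup G) : Set G)

/-- Walks of length `n` for `MutualConj`. -/
def MutualWalk (p : ℕ) (M : Subgroup G) : ℕ → G → G → Prop
  | 0, a, c => a = c
  | n + 1, a, c => ∃ b, MutualWalk p M n a b ∧ MutualConj p M b c

omit [Finite G] hp in
theorem mutualWalk_head {n : ℕ} : ∀ {a c : G}, MutualWalk p M (n + 1) a c →
    ∃ b, MutualConj p M a b ∧ MutualWalk p M n b c := by
  induction n with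
  | zero =>
    rintro a c ⟨b, rfl, hbc⟩
    exact ⟨c, hbc, rfl⟩
  | succ n ih =>
    rintro a c ⟨b, hab, hbc⟩
    obtain ⟨b', h1, h2⟩ := ih hab
    exact ⟨b', h1, b, h2, hbc⟩

omit [Finite G] hp in
theorem mutualWalk_cons {n : ℕ} : ∀ {a b c : G}, MutualConj p M a b → MutualWalk p M n b c →
    MutualWalk p M (n + 1) a c := by
  induction n with
  | zero =>
    rintro a b c h rfl
    exact ⟨a, rfl, h⟩
  | succ n ih =>
    rintro a b c h ⟨d, hd, hdc⟩
    exact ⟨d, ih h hd, hdc⟩

omit [Finite G] hp in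
theorem mutualWalk_symm {n : ℕ} : ∀ {a c : G}, MutualWalk p M n a c → MutualWalk p M n c a := by
  induction n with
  | zero => rintro a c rfl; rfl
  | succ n ih =>
    rintro a c ⟨b, hab, hbc⟩
    exact mutualWalk_cons ⟨hbc.2, hbc.1⟩ (ih hab)

omit [Finite G] hp in
theorem mutualWalk_trans {m : ℕ} {a b : G} (hab : MutualWalk p M m a b) {n : ℕ} :
    ∀ {c : G}, MutualWalk p M n b c → MutualWalk p M (m + n) a c := by
  induction n with
  | zero => rintro c rfl; exact hab
  | succ n ih =>
    rintro c ⟨d, hbd, hdc⟩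
    exact ⟨d, ih hbd, hdc⟩

omit [Finite G] hp in
theorem mutualWalk_mul {n : ℕ} : ∀ {a c : G} (x : G), MutualWalk p M n a c →
    MutualWalk p M n (x * a) (x * c) := by
  induction n with
  | zero => rintro a c x rfl; rfl
  | succ n ih =>
    rintro a c x ⟨b, hab, h1, h2⟩
    refine ⟨x * b, ih x hab, ?_, ?_⟩
    · rw [← conj_map_conj_map, ← conj_map_conj_map _ x c, normalizer_conj_map]
      exact map_mono h1
    · rw [← conj_map_conj_map, ← conj_map_conj_map _ x b, normalizer_conj_map]
      exact map_mono h2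

/-- Asymmetry: connected conjugates. -/
theorem BasicSetting.walk_le (h : BasicSetting S M) (hasym : ¬ IsSymmetricIn (Y₀ : Subgroup G)) :
    ∀ (n : ℕ) (a c : G), MutualWalk p M n a c →
      (Y₀).map (MulAut.conj a).toMonoidHom ≤ (T₀).map (MulAut.conj c).toMonoidHom := by
  have hNY : normalizer ((T₀ : Subgroup G) : Set G) ≤ normalizer ((Y₀ : Subgroup G) : Set G) :=
    h.normalizer_pCoreOf_le.trans h.normalizer_largest.ge
  have hstep : ∀ a b : G, MutualConj p M a b → (T₀).map (MulAut.conj a).toMonoidHom ≤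
      normalizer (((Y₀).map (MulAut.conj b).toMonoidHom : Subgroup G) : Set G) := fun a b hab => by
    refine hab.1.trans ?_
    rw [normalizer_conj_map, normalizer_conj_map]
    exact map_mono hNY
  intro n
  induction n with
  | zero =>
    rintro a c rfl
    exact map_mono largest_le_pCoreOf
  | succ n ih =>
    intro a c hw
    obtain ⟨b, hab, hbc⟩ := id hw
    obtain ⟨b', hab', hb'c⟩ := mutualWalk_head hw
    set Ya := (Y₀).map (MulAut.conj a).toMonoidHom
    set Yc := (Y₀).map (MulAut.conj c).toMonoidHom with hYc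
    have h1 : Ya ≤ normalizer (Yc : Set G) := (ih a b hab).trans (hstep b c hbc)
    have h2 : Yc ≤ normalizer (Ya : Set G) :=
      (ih c b' (mutualWalk_symm hb'c)).trans (hstep b' a ⟨hab'.2, hab'.1⟩)
    have hcomm : ⁅Ya, Yc⁆ = ⊥ := by
      by_contra hne
      refine hasym ⟨a⁻¹ * c, ?_⟩
      have hmap : (⁅Y₀, (Y₀).map (MulAut.conj (a⁻¹ * c)).toMonoidHom⁆).map
          (MulAut.conj a).toMonoidHom = ⁅Ya, Yc⁆ := by
        rw [Subgroup.map_commutator, conj_map_conj_map, mul_inv_cancel_left]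
      refine ⟨fun he => hne (by rw [← hmap, he, Subgroup.map_bot]), ?_⟩
      rw [← map_le_map_iff_of_injective (f := (MulAut.conj a).toMonoidHom) (MulAut.conj a).injective, hmap,
        Subgroup.map_inf _ _ _ (MulAut.conj a).injective, conj_map_conj_map, mul_inv_cancel_left]
      exact le_inf (le_normalizer_iff_commutator_le_left.mp h2)
        (le_normalizer_iff_commutator_le_right.mp h1)
    have hYC : Ya ≤ centralizer (Yc : Set G) := commutator_eq_bot_iff_le_centralizer.mp hcomm
    have hYN : Ya ≤ normalizer (((T₀).map (MulAut.conj c).toMonoidHom : Subgroup G) : Set G) :=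
      (ih a b hab).trans hbc.1
    have hkey := h.le_pCoreOf (P := Ya.map (MulAut.conj c⁻¹).toMonoidHom)
      (((isRedIn_largest (p := p) M).isPGroup.map _).map _) (by
        rw [conj_map_le_iff, inv_inv, ← centralizer_conj_map]; exact hYC) (by
        rw [conj_map_le_iff, inv_inv, ← normalizer_conj_map]; exact hYN)
    rwa [conj_map_le_iff, inv_inv] at hkey

/-- In the asymmetric case `O_p(M)` is weakly closed. -/
theorem BasicSetting.isWeaklyClosed (h : BasicSetting S M)
    (hasym : ¬ IsSymmetricIn (Y₀ : Subgroup G)) : IsWeaklyClosedSubgroup p (T₀ : Subgroup G) := by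
  refine wc_of_mutual (CharP.pCoreOf_isPGroup M) fun g hg1 hg2 => ?_
  -- the component of `1`
  set Δ : Set G := {a | ∃ n, MutualWalk p M n 1 a} with hΔ
  have hcong : ∀ a x : G, x ∈ M → MutualConj p M a (a * x) := by
    intro a x hx
    have : (T₀ : Subgroup G).map (MulAut.conj (a * x)).toMonoidHom =
        (T₀ : Subgroup G).map (MulAut.conj a).toMonoidHom := by
      rw [← conj_map_conj_map, conj_map_eq_of_mem (CharP.le_normalizer_pCoreOf M hx)]
    exact ⟨this ▸ Subgroup.le_normalizer, this ▸ Subgroup.le_normalizer⟩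
  have h1g : MutualConj p M 1 g := by
    refine ⟨?_, ?_⟩ <;> rw [conj_map_one]
    · exact hg2
    · exact hg1
  set W : Subgroup G := ⨆ a : Δ, (Y₀).map (MulAut.conj (a : G)).toMonoidHom with hW
  have hYW : ∀ a ∈ Δ, (Y₀).map (MulAut.conj a).toMonoidHom ≤ W := fun a ha =>
    le_iSup (fun a : Δ => (Y₀).map (MulAut.conj (a : G)).toMonoidHom) ⟨a, ha⟩
  have hpair : ∀ a ∈ Δ, ∀ b ∈ Δ, (Y₀).map (MulAut.conj a).toMonoidHom ≤
      centralizer (((Y₀).map (MulAut.conj b).toMonoidHom : Subgroup G) : Set G) := by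
    rintro a ⟨m, hm⟩ b ⟨n, hn⟩
    refine (h.walk_le hasym _ a b (mutualWalk_trans (mutualWalk_symm hm) hn)).trans ?_
    rw [centralizer_conj_map]
    exact map_mono pCoreOf_le_centralizer_Y
  have hWe : IsElementaryAbelian p W :=
    ElemAbelian.iSup (fun a : Δ => ElemAbelian.map (isRedIn_largest (p := p) M).2.2.1 _)
      fun a b x hx y hy => (mem_centralizer_iff.mp (hpair a a.2 b b.2 hx) y hy).symm
  have hW1 : W ≠ ⊥ := fun he => h.largest_ne_bot (le_bot_iff.mp (by
    rw [← he, ← conj_map_one (Y₀ : Subgroup G)]; exact hYW 1 ⟨0, rfl⟩))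
  have hnorm : ∀ x : G, (∀ a ∈ Δ, x * a ∈ Δ) → x ∈ normalizer (W : Set G) := fun x hx => by
    refine mem_normalizer_of_conj_map_le ?_
    rw [hW, Subgroup.map_iSup]
    refine iSup_le fun a => ?_
    rw [conj_map_conj_map]
    exact hYW _ (hx a a.2)
  have hMW : M ≤ normalizer (W : Set G) := fun x hx => hnorm x fun a ha => by
    obtain ⟨n, hn⟩ := ha
    have h1 : MutualWalk p M n x (x * a) := by simpa using mutualWalk_mul x hn
    have h2 : MutualConj p M 1 x := by simpa using hcong 1 x hx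
    exact ⟨n + 1, mutualWalk_cons h2 h1⟩
  have hgMW : M.map (MulAut.conj g).toMonoidHom ≤ normalizer (W : Set G) := by
    rintro _ ⟨x, hx, rfl⟩
    show g * x * g⁻¹ ∈ normalizer (W : Set G)
    refine hnorm _ fun a ha => ?_
    obtain ⟨n, hn⟩ := ha
    have h1 : MutualWalk p M (1 + n) g a :=
      mutualWalk_trans (m := 1) (a := g) (b := 1) ⟨g, rfl, h1g.2, h1g.1⟩ hn
    have h2 := mutualWalk_mul (g * x * g⁻¹) h1
    rw [show g * x * g⁻¹ * g = g * x by group] at h2
    exact ⟨1 + (1 + n) + 1, mutualWalk_cons h1g (mutualWalk_trans (m := 1)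
      (a := g) (b := g * x) ⟨g, rfl, hcong g x hx⟩ h2)⟩
  set X := M ⊔ C₀ with hX
  have hNW : normalizer (W : Set G) ≤ X := h.normalizer_le W hW1 (ElemAbelian.isPGroup hWe) hMW
  -- `g` normalizes `X`
  have hXc : X ∈ charPSubgroups p G := h.frakM.2.1.1
  have hgX : M ≤ X.map (MulAut.conj g⁻¹).toMonoidHom := conj_map_le_iff.mp (hgMW.trans hNW)
  obtain ⟨Z, hZ, hle⟩ := LargeQ55.exists_max (conj_charPSubgroups hXc g⁻¹)
  rw [h.frakM.2.2.1 Z hZ (hgX.trans hle)] at hle
  have hgN : g⁻¹ ∈ normalizer (X : Set G) := mem_normalizer_of_conj_map_le hle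
  set O := pCoreOf p X
  have hNX : normalizer (X : Set G) ≤ X := by
    refine (normalizer_le_normalizer_pCoreOf X).trans (h.normalizer_le O ?_ (CharP.pCoreOf_isPGroup X)
      (le_sup_left.trans (CharP.le_normalizer_pCoreOf X)))
    exact fun he => hXc.1 ((pCoreOf_eq_bot_iff X).mp he)
  have hgX' : g ∈ X := by simpa using inv_mem (hNX hgN)
  refine Subgroup.eq_of_le_of_card_ge (h.le_pCoreOf ((CharP.pCoreOf_isPGroup M).map _) ?_ hg1) ?_
  · exact (map_mono pCoreOf_le_centralizer_Y).trans
      (conj_map_eq_of_mem (h.le_normalizer_centralizer hgX')).le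
  · exact (card_conj_map _ _).symm.le

/-- A `p`-group `U` normalized by `O_p(M)` with `U ∩ M† ≤ C(Y_M)` lies in `O_p(M)`. -/
theorem BasicSetting.le_pCoreOf_of_normalized (h : BasicSetting S M) {U : Subgroup G}
    (hU : IsPGroup p ↥U) (hTU : T₀ ≤ normalizer (U : Set G))
    (hUX : U ⊓ (M ⊔ C₀) ≤ C₀) : U ≤ T₀ := by
  set P := U ⊔ T₀ with hP
  have hPp : IsPGroup p ↥P := hU.to_sup_of_normal_left' (CharP.pCoreOf_isPGroup M) hTU
  by_contra hne
  have hTP : T₀ ≠ P := fun he => hne (he ▸ le_sup_left)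
  obtain ⟨x, hxP, hxT, hxN⟩ := exists_mem_normalizer_not_mem hPp le_sup_right hTP
  have hx : x ∈ ((U : Set G) * (T₀ : Set G)) := by
    rw [← coe_mul_of_right_le_normalizer_left U T₀ hTU]; exact hxP
  obtain ⟨u, hu, t, ht, rfl⟩ := hx
  have huN : u ∈ normalizer ((T₀ : Subgroup G) : Set G) := by
    have := mul_mem hxN (inv_mem (Subgroup.le_normalizer ht))
    simpa using this
  have huC : u ∈ C₀ := hUX ⟨hu, h.normalizer_pCoreOf_le huN⟩
  exact hxT (mul_mem (h.le_pCoreOf (hU.to_le (zpowers_le.mpr hu)) (zpowers_le.mpr huC)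
    (zpowers_le.mpr huN) (mem_zpowers u)) ht)

end Cfsg.Agent.Lib.LocalChar
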