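import Cfsg.Agent.Lib.LocalChar.PClosed
import Cfsg.Agent.Lib.CharP.Overgroup

/-!
Weakly closed subgroups and large subgroups.
-/

set_option autoImplicit false

namespace Cfsg.Agent.Lib.LocalChar

open Subgroup
open scoped commutatorElement

universe u

variable {G : Type u} [Group G] [Finite G] {p : ℕ} [hp : Fact p.Prime]

omit [Finite G] in
theorem coe_smul_sylow (T : Sylow p G) (g : G) :
    ((g • T : Sylow p G) : Subgroup G) = (T : Subgroup G).map (MulAut.conj g).toMonoidHom := by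
  rw [Sylow.coe_subgroup_smul]; rfl

/-- A proper subgroup of a `p`-group is properly contained in its normalizer there. -/
theorem exists_mem_normalizer_not_mem {X T : Subgroup G} (hT : IsPGroup p ↥T) (hXT : X ≤ T)
    (hne : X ≠ T) : ∃ x ∈ T, x ∉ X ∧ x ∈ normalizer (X : Set G) := by
  haveI := hT.isNilpotent
  have hlt : X.subgroupOf T < ⊤ := by
    rw [lt_top_iff_ne_top, Ne, Subgroup.subgroupOf_eq_top]
    exact fun hle => hne (le_antisymm hXT hle)
  obtain ⟨y, hy, hy'⟩ := SetLike.exists_of_lt (Group.normalizerCondition_of_isNilpotent _ hlt)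
  rw [← Subgroup.subgroupOf_normalizer_eq hXT] at hy
  exact ⟨y, y.2, hy', hy⟩

theorem exists_sylow_of (Q : Subgroup G) (hQ : IsPGroup p ↥Q) {K : Subgroup G} (hQK : Q ≤ K) :
    ∃ S : Sylow p ↥K, Q ≤ (S : Subgroup ↥K).map K.subtype := by
  obtain ⟨S, hS⟩ := (hQ.comap_subtype (K := K)).exists_le_sylow
  exact ⟨S, fun x hx => ⟨⟨x, hQK hx⟩, hS hx, rfl⟩⟩

omit [Finite G] hp in
theorem le_normalizer_of_isWeaklyClosed {Q T : Subgroup G} (h : IsWeaklyClosed Q T) :
    T ≤ normalizer (Q : Set G) := by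
  intro t ht
  refine mem_normalizer_iff_conj_map.mpr (h.2 t ?_)
  exact (Subgroup.map_mono h.1).trans (conj_map_eq_of_mem (Subgroup.le_normalizer ht)).le

theorem isWeaklyClosed_of_le {Q : Subgroup G} (hwc : IsWeaklyClosedSubgroup p Q) (T : Sylow p G)
    (hQT : Q ≤ (T : Subgroup G)) : IsWeaklyClosed Q (T : Subgroup G) := by
  obtain ⟨T₀, hT₀⟩ := hwc
  obtain ⟨x, rfl⟩ := MulAction.exists_smul_eq G T₀ T
  rw [coe_smul_sylow] at hQT ⊢
  have key : ∀ g : G, Q.map (MulAut.conj g).toMonoidHom ≤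
      (T₀ : Subgroup G).map (MulAut.conj x).toMonoidHom →
      Q.map (MulAut.conj g).toMonoidHom = Q.map (MulAut.conj x).toMonoidHom := by
    intro g hg
    have h1 : Q.map (MulAut.conj (x⁻¹ * g)).toMonoidHom ≤ (T₀ : Subgroup G) := by
      rw [← conj_map_conj_map, conj_map_le_iff, inv_inv]; exact hg
    have h2 := congrArg (fun X : Subgroup G => X.map (MulAut.conj x).toMonoidHom) (hT₀.2 _ h1)
    simp only [conj_map_conj_map, mul_inv_cancel_left] at h2
    exact h2
  refine ⟨hQT, fun g hg => ?_⟩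
  have h1 := key 1 (by rw [conj_map_one]; exact hQT)
  rw [conj_map_one] at h1
  exact (key g hg).trans h1.symm

theorem wc_eq_of_le_pGroup {Q : Subgroup G} (hwc : IsWeaklyClosedSubgroup p Q) {R : Subgroup G}
    (hR : IsPGroup p ↥R) (hQR : Q ≤ R) {g : G} (hg : Q.map (MulAut.conj g).toMonoidHom ≤ R) :
    Q.map (MulAut.conj g).toMonoidHom = Q := by
  obtain ⟨T, hT⟩ := hR.exists_le_sylow
  exact (isWeaklyClosed_of_le hwc T (hQR.trans hT)).2 g (hg.trans hT)

theorem wc_normalizer_le {Q : Subgroup G} (hwc : IsWeaklyClosedSubgroup p Q) {R : Subgroup G}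
    (hR : IsPGroup p ↥R) (hQR : Q ≤ R) : normalizer (R : Set G) ≤ normalizer (Q : Set G) := by
  intro g hg
  exact mem_normalizer_iff_conj_map.mpr (wc_eq_of_le_pGroup hwc hR hQR
    ((Subgroup.map_mono hQR).trans (conj_map_eq_of_mem hg).le))

theorem wc_eq_of_normalizes {Q : Subgroup G} (hwc : IsWeaklyClosedSubgroup p Q)
    (hQ : IsPGroup p ↥Q) {g : G}
    (hg : Q.map (MulAut.conj g).toMonoidHom ≤ normalizer (Q : Set G)) :
    Q.map (MulAut.conj g).toMonoidHom = Q :=
  wc_eq_of_le_pGroup hwc (R := Q.map (MulAut.conj g).toMonoidHom ⊔ Q)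
    ((hQ.map _).to_sup_of_normal_right' hQ hg) le_sup_right le_sup_left

theorem wc_of_mutual {Q : Subgroup G} (hQ : IsPGroup p ↥Q)
    (h : ∀ g : G, Q.map (MulAut.conj g).toMonoidHom ≤ normalizer (Q : Set G) →
      Q ≤ normalizer ((Q.map (MulAut.conj g).toMonoidHom : Subgroup G) : Set G) →
      Q.map (MulAut.conj g).toMonoidHom = Q) : IsWeaklyClosedSubgroup p Q := by
  have hnorm : ∀ T : Sylow p G, Q ≤ (T : Subgroup G) → (T : Subgroup G) ≤ normalizer (Q : Set G) := by
    intro T hQT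
    by_contra hne
    set N₁ : Subgroup G := (T : Subgroup G) ⊓ normalizer (Q : Set G) with hN₁
    obtain ⟨x, hxT, hxN, hx⟩ := exists_mem_normalizer_not_mem T.isPGroup' (X := N₁) inf_le_left
      (fun he => hne (he.ge.trans inf_le_right))
    have hQN : Q ≤ N₁ := le_inf hQT Subgroup.le_normalizer
    have hxQ : Q.map (MulAut.conj x).toMonoidHom ≤ N₁ :=
      (Subgroup.map_mono hQN).trans (conj_map_eq_of_mem hx).le
    have h' := h x (hxQ.trans inf_le_right) (by
      rw [normalizer_conj_map]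
      exact hQN.trans ((conj_map_eq_of_mem hx).ge.trans (Subgroup.map_mono inf_le_right)))
    exact hxN ⟨hxT, mem_normalizer_iff_conj_map.mpr h'⟩
  obtain ⟨T, hT⟩ := hQ.exists_le_sylow
  refine ⟨T, hT, fun g hg => h g (hg.trans (hnorm T hT)) ?_⟩
  have hQT' : Q ≤ ((g⁻¹ • T : Sylow p G) : Subgroup G) := by
    rw [coe_smul_sylow, ← conj_map_le_iff]; exact hg
  have h1 := hnorm (g⁻¹ • T) hQT'
  rw [coe_smul_sylow, conj_map_le_iff, inv_inv, ← normalizer_conj_map] at h1
  exact hT.trans h1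

theorem wc_of_normalizer {Q : Subgroup G} (hQ : IsPGroup p ↥Q)
    (h : ∀ R : Subgroup G, IsPGroup p ↥R → Q ≤ R →
      normalizer (R : Set G) ≤ normalizer (Q : Set G)) : IsWeaklyClosedSubgroup p Q := by
  obtain ⟨T, hT⟩ := hQ.exists_le_sylow
  refine ⟨T, hT, fun g hg => ?_⟩
  set P : Subgroup G := Q.map (MulAut.conj g).toMonoidHom with hP
  have hTQ : ∀ S : Sylow p G, Q ≤ (S : Subgroup G) → (S : Subgroup G) ≤ normalizer (Q : Set G) :=
    fun S hS => Subgroup.le_normalizer.trans (h _ S.isPGroup' hS)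
  -- `T` and `g T g⁻¹` are Sylow subgroups of `N(P)`
  set M : Subgroup G := normalizer (P : Set G) with hM
  have hgT : ((g • T : Sylow p G) : Subgroup G) ≤ M := by
    rw [coe_smul_sylow, hM, hP, normalizer_conj_map]; exact Subgroup.map_mono (hTQ T hT)
  have hTM : (T : Subgroup G) ≤ M := by
    have hQT' : Q ≤ ((g⁻¹ • T : Sylow p G) : Subgroup G) := by
      rw [coe_smul_sylow, ← conj_map_le_iff]; exact hg
    have h1 := hTQ _ hQT'
    rwa [coe_smul_sylow, conj_map_le_iff, inv_inv, ← normalizer_conj_map] at h1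
  obtain ⟨k, hk⟩ := MulAction.exists_smul_eq ↥M ((g • T).subtype hgT) (T.subtype hTM)
  have hkg : ((k : G) * g) ∈ normalizer ((T : Subgroup G) : Set G) := by
    rw [mem_normalizer_iff_conj_map, ← conj_map_conj_map, ← coe_smul_sylow T g]
    have hk' := congrArg (fun S : Sylow p ↥M => (S : Subgroup ↥M).map M.subtype) hk
    simp only [Sylow.coe_subgroup_smul, Sylow.coe_subtype,
      Subgroup.map_subgroupOf_eq_of_le hTM] at hk'
    rw [← hk']
    ext x
    constructor
    · rintro ⟨y, hy, rfl⟩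
      exact ⟨MulAut.conj k ⟨y, hgT hy⟩, Subgroup.smul_mem_pointwise_smul _ (MulAut.conj k) _ hy, rfl⟩
    · rintro ⟨y, hy, rfl⟩
      obtain ⟨z, hz, rfl⟩ := (Subgroup.mem_smul_pointwise_iff_exists _ _ _).mp hy
      exact ⟨(z : G), hz, rfl⟩
  have h2 := conj_map_eq_of_mem (h _ T.isPGroup' hT hkg)
  rw [← conj_map_conj_map, conj_map_eq_of_mem k.2] at h2
  exact h2

theorem wc_subgroupOf {Q : Subgroup G} (hwc : IsWeaklyClosedSubgroup p Q) (hQ : IsPGroup p ↥Q)
    {K : Subgroup G} (hQK : Q ≤ K) : IsWeaklyClosedSubgroup p (Q.subgroupOf K) := by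
  obtain ⟨S, hS⟩ := exists_sylow_of Q hQ hQK
  refine ⟨S, fun x hx => ?_, fun k hk => ?_⟩
  · obtain ⟨y, hy, hyx⟩ := hS hx
    rwa [← show y = x from Subtype.ext hyx]
  · have h1 : Q.map (MulAut.conj (k : G)).toMonoidHom ≤ (S : Subgroup ↥K).map K.subtype := by
      rintro _ ⟨q, hq, rfl⟩
      exact ⟨_, hk ⟨⟨q, hQK hq⟩, hq, rfl⟩, rfl⟩
    have h2 := wc_eq_of_le_pGroup hwc (S.isPGroup'.map _) hS h1
    ext x
    rw [mem_conj_map, Subgroup.mem_subgroupOf, Subgroup.mem_subgroupOf]
    conv_rhs => rw [← h2, mem_conj_map]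
    rfl

theorem wc_conj_in {Q : Subgroup G} (hwc : IsWeaklyClosedSubgroup p Q) (hQ : IsPGroup p ↥Q)
    {K : Subgroup G} (hQK : Q ≤ K) {g : G} (hg : Q.map (MulAut.conj g).toMonoidHom ≤ K) :
    ∃ k ∈ K, Q.map (MulAut.conj g).toMonoidHom = Q.map (MulAut.conj k).toMonoidHom := by
  obtain ⟨S₁, hS₁⟩ := exists_sylow_of Q hQ hQK
  obtain ⟨S₂, hS₂⟩ := exists_sylow_of _ (hQ.map (MulAut.conj g).toMonoidHom) hg
  obtain ⟨k, rfl⟩ := MulAction.exists_smul_eq ↥K S₁ S₂
  refine ⟨k, k.2, ?_⟩
  have h1 : Q.map (MulAut.conj ((k : G)⁻¹ * g)).toMonoidHom ≤ (S₁ : Subgroup ↥K).map K.subtype := by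
    rw [← conj_map_conj_map, conj_map_le_iff, inv_inv]
    refine hS₂.trans ?_
    rintro _ ⟨y, hy, rfl⟩
    rw [Sylow.coe_subgroup_smul] at hy
    obtain ⟨z, hz, rfl⟩ := (Subgroup.mem_smul_pointwise_iff_exists _ _ _).mp hy
    exact ⟨(z : G), ⟨z, hz, rfl⟩, rfl⟩
  have h2 := congrArg (fun X : Subgroup G => X.map (MulAut.conj (k : G)).toMonoidHom)
    (wc_eq_of_le_pGroup hwc (S₁.isPGroup'.map _) hS₁ h1)
  simp only [conj_map_conj_map, mul_inv_cancel_left] at h2
  exact h2

/-! ### Fixed points and characteristic `p` of centralizers -/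

/-- A `p`-group normalizing a nontrivial `p`-subgroup fixes a nontrivial element of it. -/
theorem inf_centralizer_ne_bot {Y Q : Subgroup G} (hY : IsPGroup p ↥Y) (hQ : IsPGroup p ↥Q)
    (hQY : Q ≤ normalizer (Y : Set G)) (hne : Y ≠ ⊥) :
    Y ⊓ centralizer (Q : Set G) ≠ ⊥ := by
  obtain ⟨n, hn⟩ := exists_iterCommutator_eq_bot_of_pGroup hY hQ hQY
  obtain ⟨i, hi, hi'⟩ := exists_last_not_le (A := iterCommutator Y Q) hn.le
    (fun h => hne (le_bot_iff.mp h))
  intro hbot
  refine hi (le_of_le_of_eq (le_inf ?_ ?_) hbot)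
  · clear hi hi'
    induction i with
    | zero => exact le_rfl
    | succ i ih =>
      exact (Subgroup.commutator_mono ih le_rfl).trans
        (Subgroup.le_normalizer_iff_commutator_le_left.mp hQY)
  · exact Subgroup.commutator_eq_bot_iff_le_centralizer.mp (le_bot_iff.mp hi')

/-- If `C(U)` has characteristic `p` so has the centralizer of every `p`-group containing `U`. -/
theorem charP_centralizer_mono {U U' : Subgroup G} (hU' : IsPGroup p ↥U') (hle : U ≤ U')
    (hU : centralizer (pCore p ↥(centralizer (U : Set G)) : Set ↥(centralizer (U : Set G))) ≤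
      pCore p ↥(centralizer (U : Set G))) :
    centralizer (pCore p ↥(centralizer (U' : Set G)) : Set ↥(centralizer (U' : Set G))) ≤
      pCore p ↥(centralizer (U' : Set G)) := by
  by_cases hne : U = U'
  · subst hne; exact hU
  set U'' : Subgroup G := U' ⊓ normalizer (U : Set G) with hU''
  have hlt : U < U'' := by
    obtain ⟨x, hx, hxU, hxN⟩ := exists_mem_normalizer_not_mem hU' hle hne
    exact lt_of_le_of_ne (le_inf hle Subgroup.le_normalizer) fun he => hxU (he ▸ ⟨hx, hxN⟩)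
  refine charP_centralizer_mono hU' (inf_le_left : U'' ≤ U') (CharP.centralizer_pCore_le_of_forall ?_)
  intro x hx hc hxc
  set P := pCoreOf p (centralizer (U : Set G)) with hP
  have hCC : centralizer (U'' : Set G) ≤ centralizer (U : Set G) := centralizer_le hlt.le
  have hUP : U'' ≤ normalizer (P : Set G) :=
    inf_le_right.trans ((le_normalizer_centralizer_of_le le_rfl).trans
      (normalizer_le_normalizer_pCoreOf _))
  refine CharP.eq_one_of_centralizes_pCoreOf hU (hCC hx) hc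
    (mem_centralizer_of_AxB (CharP.pCoreOf_isPGroup _) (hU'.to_le inf_le_left) hc hUP
      (CharP.le_normalizer_pCoreOf _ (hCC hx)) hx ?_)
  refine centralizer_le (SetLike.coe_subset_coe.mpr ?_) hxc
  exact CharP.le_pCoreOf inf_le_right ((CharP.pCoreOf_isPGroup _).to_le inf_le_left)
    (le_normalizer_inf_of_le (hCC.trans (CharP.le_normalizer_pCoreOf _)) Subgroup.le_normalizer)
termination_by Nat.card G - Nat.card ↥U
decreasing_by
  have h1 : Nat.card ↥U < Nat.card ↥(U' ⊓ normalizer (U : Set G)) :=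
    lt_of_not_ge fun hge => hlt.ne (Subgroup.eq_of_le_of_card_ge hlt.le hge)
  have h2 : Nat.card ↥(U' ⊓ normalizer (U : Set G)) ≤ Nat.card G :=
    Subgroup.card_le_card_group _
  omega

theorem charP_centralizer_bot (hG : centralizer (pCore p G : Set G) ≤ pCore p G) :
    centralizer (pCore p ↥(centralizer ((⊥ : Subgroup G) : Set G)) :
        Set ↥(centralizer ((⊥ : Subgroup G) : Set G))) ≤
      pCore p ↥(centralizer ((⊥ : Subgroup G) : Set G)) := by
  have h : centralizer ((⊥ : Subgroup G) : Set G) = ⊤ := by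
    rw [Subgroup.centralizer_eq_top_iff_subset]
    simp [Subgroup.coe_bot]
  rw [h]
  exact CharP.centralizer_pCore_top_le hG

/-- The main computation for weakly closed self-centralizing subgroups. -/
theorem wc_centralizer_pCoreOf {Q L : Subgroup G} (hQ : IsPGroup p ↥Q)
    (hwc : IsWeaklyClosedSubgroup p Q) (hCQ : centralizer (Q : Set G) ≤ Q) (hQL : Q ≤ L)
    (hC : centralizer (pCore p ↥(centralizer ((pCoreOf p L : Subgroup G) : Set G)) :
        Set ↥(centralizer ((pCoreOf p L : Subgroup G) : Set G))) ≤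
      pCore p ↥(centralizer ((pCoreOf p L : Subgroup G) : Set G))) :
    ⁅Q, centralizer ((pCoreOf p L : Subgroup G) : Set G)⁆ ≤ Q ⊓ pCoreOf p L ∧
      IsPGroup p ↥(centralizer ((pCoreOf p L : Subgroup G) : Set G)) ∧
      centralizer (pCore p ↥L : Set ↥L) ≤ pCore p ↥L := by
  set D := pCoreOf p L with hD
  set C := centralizer (D : Set G) with hCdef
  set R := pCoreOf p C with hRdef
  set K : Subgroup G := R ⊓ L with hKdef
  have hLC : L ≤ normalizer (C : Set G) :=
    le_normalizer_centralizer_of_le (CharP.le_normalizer_pCoreOf L)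
  have hLR : L ≤ normalizer (R : Set G) := hLC.trans (normalizer_le_normalizer_pCoreOf C)
  have hRp : IsPGroup p ↥R := CharP.pCoreOf_isPGroup C
  have hKD : K ≤ D :=
    CharP.le_pCoreOf inf_le_right (hRp.to_le inf_le_left) (le_normalizer_inf_of_le hLR Subgroup.le_normalizer)
  have hRQ : R ≤ normalizer (Q : Set G) := by
    refine le_trans ?_ (wc_normalizer_le hwc (hQ.to_sup_of_normal_right' hRp (hQL.trans hLR)) le_sup_left)
    exact le_sup_right.trans Subgroup.le_normalizer
  have hCK : C ≤ centralizer (K : Set G) := centralizer_le (SetLike.coe_subset_coe.mpr hKD)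
  obtain ⟨A, hA⟩ := CharP.exists_subgroup_trivial_mod R K
  have hQA : Q ≤ A := fun q hq => (hA q).mpr ⟨hLR (hQL hq),
    le_normalizer_inf_of_le hLR Subgroup.le_normalizer (hQL hq), fun r hr => by
      refine Subgroup.mem_inf.mpr ⟨mul_mem (conj_mem_of_mem_normalizer (hLR (hQL hq)) hr) (inv_mem hr), hQL ?_⟩
      have h1 := conj_mem_of_mem_normalizer (hRQ hr) (inv_mem hq)
      simpa [mul_assoc] using mul_mem hq h1⟩
  have hCQA : ⁅C, Q⁆ ≤ A := by
    rw [Subgroup.commutator_le]
    intro c hc q hq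
    have hcR : c ∈ normalizer (R : Set G) := CharP.le_normalizer_pCoreOf C hc
    have hcK : c ∈ normalizer (K : Set G) := centralizer_le_normalizer _ (hCK hc)
    have hcq : c * q * c⁻¹ ∈ A := by
      refine (hA _).mpr ⟨mul_mem (mul_mem hcR ((hA q).mp (hQA hq)).1) (inv_mem hcR),
        mul_mem (mul_mem hcK ((hA q).mp (hQA hq)).2.1) (inv_mem hcK), fun r hr => ?_⟩
      have h1 := conj_mem_of_mem_normalizer hcK
        (((hA q).mp (hQA hq)).2.2 _ (conj_mem_of_mem_normalizer' hcR hr))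
      simpa [mul_assoc] using h1
    simpa [commutatorElement_def, mul_assoc] using mul_mem hcq (inv_mem (hQA hq))
  set M := ⁅C, Q⁆ with hM
  have hMC : M ≤ C := Subgroup.le_normalizer_iff_commutator_le_left.mp (hQL.trans hLC)
  have hMp : IsPGroup p ↥M := by
    refine isPGroup_subgroup_of_forall_coprime fun x hx hc => ?_
    refine CharP.eq_one_of_centralizes_pCoreOf hC (hMC hx) hc ?_
    refine mem_centralizer_of_two_step hRp inf_le_left hc (hCK (hMC hx)) fun r hr => ?_
    have h1 := inv_mem (((hA x).mp (hCQA hx)).2.2 r hr)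
    have e : ⁅r, x⁆ = (x * r * x⁻¹ * r⁻¹)⁻¹ := by rw [commutatorElement_def]; group
    rw [e]
    exact h1
  have hCn : C ≤ normalizer (Q : Set G) := by
    refine le_trans ?_ (wc_normalizer_le hwc
      (hQ.to_sup_of_normal_right' hMp (Subgroup.normalizer_commutator_ge_right C Q)) le_sup_left)
    intro c hc
    refine mem_normalizer_of_conj_map_le ?_
    rw [Subgroup.map_sup]
    refine sup_le ?_ ((conj_map_eq_of_mem (Subgroup.normalizer_commutator_ge_left C Q hc)).le.trans
      le_sup_right)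
    rintro _ ⟨q, hq, rfl⟩
    have h := mul_mem (le_sup_right (a := Q) (Subgroup.commutator_mem_commutator hc hq))
      (le_sup_left (b := M) hq)
    simpa [commutatorElement_def, mul_assoc] using h
  have hMQ : M ≤ Q := Subgroup.le_normalizer_iff_commutator_le_right.mp hCn
  have hMR : M ≤ R :=
    CharP.le_pCoreOf hMC hMp (Subgroup.normalizer_commutator_ge_left C Q)
  have hMD : M ≤ D := (le_inf hMR (hMQ.trans hQL)).trans hKD
  have hCp : IsPGroup p ↥C := by
    refine isPGroup_subgroup_of_forall_coprime fun x hx hc => ?_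
    refine eq_one_of_mem_pGroup hQ (hCQ (mem_centralizer_of_two_step hQ (inf_le_left : Q ⊓ D ≤ Q) hc
      (centralizer_le (SetLike.coe_subset_coe.mpr inf_le_right) hx) fun q hq => ?_)) hc
    have h := inv_mem (Subgroup.commutator_mem_commutator hx hq)
    rw [commutatorElement_inv] at h
    exact ⟨hMQ h, hMD h⟩
  refine ⟨?_, hCp, CharP.centralizer_pCore_le_of_forall fun x _ hc hxc => ?_⟩
  · rw [Subgroup.commutator_comm]; exact le_inf hMQ hMD
  · exact eq_one_of_mem_pGroup hCp hxc hc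

/-! ### Large subgroups -/

theorem large_isWeaklyClosed {Q : Subgroup G} (hQ : IsPGroup p ↥Q) (hQ1 : Q ≠ ⊥) (hL : IsLarge Q) :
    IsWeaklyClosedSubgroup p Q := by
  refine wc_of_normalizer hQ fun R hR hQR => ?_
  have hU : R ⊓ centralizer (R : Set G) ≠ ⊥ :=
    inf_centralizer_ne_bot hR hR Subgroup.le_normalizer fun h => hQ1 (le_bot_iff.mp (h ▸ hQR))
  exact (le_normalizer_inf_of_le le_rfl (le_normalizer_centralizer_of_le le_rfl)).trans
    (hL.2 _ (inf_le_right.trans (centralizer_le (SetLike.coe_subset_coe.mpr hQR))) hU)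

theorem large_centralizer_le {Q Y : Subgroup G} (hQ : IsPGroup p ↥Q) (hL : IsLarge Q)
    (hY : IsPGroup p ↥Y) (hY1 : Y ≠ ⊥) (hQY : Q ≤ normalizer (Y : Set G)) :
    centralizer (Y : Set G) ≤ normalizer (Q : Set G) :=
  ((centralizer_le (SetLike.coe_subset_coe.mpr (inf_le_left : Y ⊓ centralizer (Q : Set G) ≤ Y))).trans
    (centralizer_le_normalizer _)).trans (hL.2 _ inf_le_right (inf_centralizer_ne_bot hY hQ hQY hY1))

theorem large_centralizer_pCoreOf {Q L : Subgroup G} (hQ : IsPGroup p ↥Q) (hQ1 : Q ≠ ⊥)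
    (hLg : IsLarge Q) (hQL : Q ≤ L) (hO : pCore p ↥L ≠ ⊥) :
    ⁅Q, centralizer ((pCoreOf p L : Subgroup G) : Set G)⁆ ≤ Q ⊓ pCoreOf p L ∧
      IsPGroup p ↥(centralizer ((pCoreOf p L : Subgroup G) : Set G)) ∧
      centralizer (pCore p ↥L : Set ↥L) ≤ pCore p ↥L := by
  set D := pCoreOf p L with hD
  set U : Subgroup G := D ⊓ centralizer (Q : Set G) with hU
  have hQD : Q ≤ normalizer (D : Set G) := hQL.trans (CharP.le_normalizer_pCoreOf L)
  have hU1 : U ≠ ⊥ := inf_centralizer_ne_bot (CharP.pCoreOf_isPGroup L) hQ hQD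
    fun h => hO ((pCoreOf_eq_bot_iff L).mp h)
  refine wc_centralizer_pCoreOf hQ (large_isWeaklyClosed hQ hQ1 hLg) hLg.1 hQL
    (charP_centralizer_mono (CharP.pCoreOf_isPGroup L) (inf_le_left : U ≤ D) ?_)
  have hXQ : centralizer (U : Set G) ≤ normalizer (Q : Set G) :=
    (centralizer_le_normalizer _).trans (hLg.2 U inf_le_right hU1)
  have hQX : Q ≤ centralizer (U : Set G) := Subgroup.le_centralizer_iff.mp inf_le_right
  refine CharP.centralizer_pCore_le_of_forall fun x _ hc hxc => ?_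
  exact eq_one_of_mem_pGroup hQ
    (hLg.1 (centralizer_le (SetLike.coe_subset_coe.mpr (CharP.le_pCoreOf hQX hQ hXQ)) hxc)) hc

end Cfsg.Agent.Lib.LocalChar
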