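import Cfsg.Agent.Lib.LocalChar.Reduced

/-!
`Ω₁(Z(T))`, the closure `Z_L` of its conjugates, and averaging over the cosets of `T` in `L`.
-/

set_option autoImplicit false

namespace Cfsg.Agent.Lib.LocalChar

open Subgroup
open scoped commutatorElement IsMulCommutative

universe u

variable {G : Type u} [Group G] {p : ℕ}

/-- Averaging over the cosets of `T` in `L`: a fixed point of `T` in an elementary abelian `V` is
the product of a fixed point of `L` and an element of `[V, E]` fixed by `T`, when `L = E T` and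
`[L : T]` is prime to `p`. -/
theorem mem_sup_of_fixed [Finite G] [hp : Fact p.Prime] {V T E L : Subgroup G}
    (hV : IsElementaryAbelian p V) (hLV : L ≤ normalizer (V : Set G)) (hTL : T ≤ L) (hEL : E ≤ L)
    (hTE : T ≤ normalizer (E : Set G)) (hgen : L ≤ E ⊔ T) (hidx : ¬ p ∣ T.relIndex L) {z : G}
    (hzV : z ∈ V) (hzT : z ∈ centralizer (T : Set G)) :
    z ∈ (V ⊓ centralizer (L : Set G)) ⊔ (⁅V, E⁆ ⊓ centralizer (T : Set G)) := by
  classical
  haveI := hV.1
  haveI : Fintype (↥L ⧸ T.subgroupOf L) := Fintype.ofFinite _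
  have hrep : ∀ q : ↥L ⧸ T.subgroupOf L, ∃ e : ↥L, (e : G) ∈ E ∧ (e : ↥L ⧸ T.subgroupOf L) = q := by
    intro q
    obtain ⟨l, rfl⟩ := QuotientGroup.mk_surjective q
    have hl := hgen l.2
    rw [← SetLike.mem_coe, Subgroup.coe_mul_of_right_le_normalizer_left E T hTE] at hl
    obtain ⟨e, he, t, ht, het⟩ := hl
    refine ⟨⟨e, hEL he⟩, he, QuotientGroup.eq.mpr ?_⟩
    show e⁻¹ * (l : G) ∈ T
    rw [← het, inv_mul_cancel_left]
    exact ht
  choose e heE heq using hrep
  have hconj : ∀ q, (e q : G) * z * (e q : G)⁻¹ ∈ V :=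
    fun q => conj_mem_of_mem_normalizer (hLV (e q).2) hzV
  let f : (↥L ⧸ T.subgroupOf L) → ↥V := fun q => ⟨(e q : G) * z * (e q : G)⁻¹, hconj q⟩
  set n : ↥V := ∏ q, f q with hn
  -- `n` is fixed by `L`
  have hnC : (n : G) ∈ centralizer (L : Set G) := by
    refine mem_centralizer_iff.mpr fun l hl => ?_
    let φ : ↥V →* ↥V :=
      { toFun := fun v => ⟨l * v * l⁻¹, conj_mem_of_mem_normalizer (hLV hl) v.2⟩
        map_one' := by ext; simp
        map_mul' := fun v w => by ext; simp [mul_assoc] }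
    have h : φ n = n := by
      rw [hn, map_prod]
      refine Fintype.prod_equiv (MulAction.toPerm (⟨l, hl⟩ : ↥L)) _ _ fun q => ?_
      have hq : (e ((⟨l, hl⟩ : ↥L) • q) : ↥L ⧸ T.subgroupOf L) = ((⟨l, hl⟩ * e q : ↥L) : ↥L ⧸ T.subgroupOf L) := by
        rw [heq]
        conv_lhs => rw [← heq q]
        rfl
      have ht := QuotientGroup.eq.mp hq
      rw [mem_subgroupOf] at ht
      have hz := mem_centralizer_iff.mp hzT _ ht
      simp only [Subgroup.coe_mul, InvMemClass.coe_inv] at hz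
      refine Subtype.ext ?_
      show l * ((e q : G) * z * (e q : G)⁻¹) * l⁻¹ = _
      simp only [MulAction.toPerm_apply, f]
      calc l * ((e q : G) * z * (e q : G)⁻¹) * l⁻¹
          = (e ((⟨l, hl⟩ : ↥L) • q) : G) * (((e ((⟨l, hl⟩ : ↥L) • q) : G))⁻¹ * (l * (e q : G)) * z) *
              (l * (e q : G))⁻¹ := by group
        _ = (e ((⟨l, hl⟩ : ↥L) • q) : G) * z * (e ((⟨l, hl⟩ : ↥L) • q) : G)⁻¹ := by rw [hz]; group
    exact mul_inv_eq_iff_eq_mul.mp (congrArg Subtype.val h)
  set m := Fintype.card (↥L ⧸ T.subgroupOf L) with hm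
  set S := (V ⊓ centralizer (L : Set G)) ⊔ (⁅V, E⁆ ⊓ centralizer (T : Set G)) with hS
  set c : ↥V := ∏ q, (⟨z, hzV⟩ : ↥V) * (f q)⁻¹ with hc
  have hce : (c : G) ∈ ⁅V, E⁆ := by
    show c ∈ (⁅V, E⁆).comap V.subtype
    refine Subgroup.prod_mem _ fun q _ => ?_
    rw [mem_comap]
    have h2 : ((⟨z, hzV⟩ * (f q)⁻¹ : ↥V) : G) = ⁅z, (e q : G)⁆ := by
      simp [f, commutatorElement_def, mul_assoc]
    rw [Subgroup.subtype_apply, h2]
    exact commutator_mem_commutator hzV (heE q)
  have hcn : c = (⟨z, hzV⟩ : ↥V) ^ m * n⁻¹ := by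
    rw [hc, Finset.prod_mul_distrib, Finset.prod_inv_distrib, Finset.prod_const, hn]
    rfl
  have hcT : (c : G) ∈ centralizer (T : Set G) := by
    rw [hcn]
    simp only [Subgroup.coe_mul, InvMemClass.coe_inv, SubmonoidClass.coe_pow]
    exact mul_mem (pow_mem hzT _) (inv_mem (centralizer_le hTL hnC))
  have hzm : z ^ m ∈ S := by
    have h1 := mul_mem (mem_sup_right (S := V ⊓ centralizer (L : Set G))
      (show (c : G) ∈ ⁅V, E⁆ ⊓ centralizer (T : Set G) from ⟨hce, hcT⟩))
      (mem_sup_left (T := ⁅V, E⁆ ⊓ centralizer (T : Set G))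
        (show (n : G) ∈ V ⊓ centralizer (L : Set G) from ⟨n.2, hnC⟩))
    rw [hcn] at h1
    simpa using h1
  have hcop : m.Coprime (orderOf z) := by
    have h1 : orderOf z ∣ p := orderOf_dvd_of_pow_eq_one (hV.2 z hzV)
    have h2 : m = T.relIndex L := by
      rw [hm, ← Nat.card_eq_fintype_card]; rfl
    exact (Nat.Coprime.symm ((Nat.Prime.coprime_iff_not_dvd hp.out).mpr (h2 ▸ hidx))).coprime_dvd_right h1
  obtain ⟨k, hk⟩ := exists_pow_eq_self_of_coprime hcop
  rw [← hk]
  exact pow_mem hzm k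

theorem not_dvd_relIndex_sylow [Finite G] [Fact p.Prime] (T : Sylow p G) (L : Subgroup G) :
    (T : Subgroup G) ≤ L → ¬ p ∣ (T : Subgroup G).relIndex L := by
  intro hTL h
  exact T.not_dvd_index (h.trans (Subgroup.relIndex_dvd_index_of_le hTL))

theorem centralizer_inf_le_pCoreOf {L : Subgroup G}
    (hL : centralizer (pCore p ↥L : Set ↥L) ≤ pCore p ↥L) :
    L ⊓ centralizer ((pCoreOf p L : Subgroup G) : Set G) ≤ pCoreOf p L := by
  rintro x ⟨hxL, hxc⟩
  refine ⟨⟨x, hxL⟩, hL (mem_centralizer_iff.mpr fun y hy => Subtype.ext ?_), rfl⟩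
  exact mem_centralizer_iff.mp hxc y ⟨y, hy, rfl⟩

theorem pCoreOf_ne_bot_iff (L : Subgroup G) : pCoreOf p L ≠ ⊥ ↔ pCore p ↥L ≠ ⊥ :=
  not_congr (pCoreOf_eq_bot_iff L)

variable [Finite G] [Fact p.Prime] (T : Sylow p G)

theorem le_sylow_of_centralizes {A : Subgroup G} (hA : IsPGroup p ↥A)
    (hn : (T : Subgroup G) ≤ normalizer (A : Set G)) : A ≤ (T : Subgroup G) :=
  (le_sup_left.trans (T.3 (Q := A ⊔ (T : Subgroup G))
    (hA.to_sup_of_normal_left' T.isPGroup' hn) le_sup_right).le : A ≤ (T : Subgroup G))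

theorem omega_center_le_pCoreOf {L : Subgroup G} (hTL : (T : Subgroup G) ≤ L)
    (hL : centralizer (pCore p ↥L : Set ↥L) ≤ pCore p ↥L) :
    omegaOne p ((T : Subgroup G) ⊓ centralizer ((T : Subgroup G) : Set G)) ≤
      omegaOne p (pCoreOf p L ⊓ centralizer ((pCoreOf p L : Subgroup G) : Set G)) := by
  refine Omega.mono (le_inf ?_ (inf_le_right.trans (centralizer_le (pCoreOf_le_sylow T hTL))))
  exact (inf_le_inf hTL (centralizer_le (pCoreOf_le_sylow T hTL))).trans
    (centralizer_inf_le_pCoreOf hL)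

theorem omega_center_conj_eq (g : G) :
    omegaOne p (((T : Subgroup G).map (MulAut.conj g).toMonoidHom) ⊓
        centralizer (((T : Subgroup G).map (MulAut.conj g).toMonoidHom : Subgroup G) : Set G)) =
      (omegaOne p ((T : Subgroup G) ⊓ centralizer ((T : Subgroup G) : Set G))).map
        (MulAut.conj g).toMonoidHom := by
  rw [centralizer_conj_map, ← Subgroup.map_inf _ _ _ (MulAut.conj g).injective,
    Omega.map (MulAut.conj g).injective]

theorem sylowCenterClosure_eq {L : Subgroup G} (hTL : (T : Subgroup G) ≤ L) :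
    sylowCenterClosure p L = ⨆ l : ↥L,
      (omegaOne p ((T : Subgroup G) ⊓ centralizer ((T : Subgroup G) : Set G))).map
        (MulAut.conj (l : G)).toMonoidHom := by
  have key : ∀ l : ↥L, ((l • T.subtype hTL : Sylow p ↥L) : Subgroup ↥L).map L.subtype =
      (T : Subgroup G).map (MulAut.conj (l : G)).toMonoidHom := by
    intro l
    ext x
    constructor
    · rintro ⟨y, hy, rfl⟩
      rw [SetLike.mem_coe, Sylow.coe_subgroup_smul, Subgroup.mem_pointwise_smul_iff_inv_smul_mem] at hy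
      rw [mem_conj_map]
      simpa [Subgroup.mem_subgroupOf, mul_assoc] using hy
    · intro hx
      rw [mem_conj_map] at hx
      have hxL : x ∈ L := by
        simpa [mul_assoc] using mul_mem (mul_mem l.2 (hTL hx)) (inv_mem l.2)
      refine ⟨⟨x, hxL⟩, ?_, rfl⟩
      rw [SetLike.mem_coe, Sylow.coe_subgroup_smul, Subgroup.mem_pointwise_smul_iff_inv_smul_mem]
      simpa [Subgroup.mem_subgroupOf, mul_assoc] using hx
  refine le_antisymm (iSup_le fun S => ?_) (iSup_le fun l => ?_)
  · obtain ⟨l, rfl⟩ := MulAction.exists_smul_eq ↥L (T.subtype hTL) S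
    rw [key l, omega_center_conj_eq]
    exact le_iSup (fun l : ↥L => (omegaOne p ((T : Subgroup G) ⊓
      centralizer ((T : Subgroup G) : Set G))).map (MulAut.conj (l : G)).toMonoidHom) l
  · rw [← omega_center_conj_eq, ← key l]
    exact le_iSup (fun S : Sylow p ↥L => omegaOne p (((S : Subgroup ↥L).map L.subtype) ⊓
      centralizer (((S : Subgroup ↥L).map L.subtype : Subgroup G) : Set G))) (l • T.subtype hTL)

theorem le_normalizer_iSup_conj (L X : Subgroup G) :
    L ≤ normalizer (((⨆ l : ↥L, X.map (MulAut.conj (l : G)).toMonoidHom) : Subgroup G) : Set G) := by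
  intro g hg
  refine mem_normalizer_of_conj_map_le ?_
  rw [Subgroup.map_iSup]
  refine iSup_le fun l => ?_
  rw [conj_map_conj_map]
  exact le_iSup (fun l : ↥L => X.map (MulAut.conj (l : G)).toMonoidHom) (⟨g, hg⟩ * l)

theorem omega_center_le_sylowCenterClosure {L : Subgroup G} (hTL : (T : Subgroup G) ≤ L) :
    omegaOne p ((T : Subgroup G) ⊓ centralizer ((T : Subgroup G) : Set G)) ≤
      sylowCenterClosure p L := by
  rw [sylowCenterClosure_eq T hTL]
  refine le_trans ?_ (le_iSup (fun l : ↥L => (omegaOne p ((T : Subgroup G) ⊓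
    centralizer ((T : Subgroup G) : Set G))).map (MulAut.conj (l : G)).toMonoidHom) 1)
  rw [OneMemClass.coe_one, conj_map_one]

theorem sylowCenterClosure_le_iff {L K : Subgroup G} (hTL : (T : Subgroup G) ≤ L)
    (hK : L ≤ normalizer (K : Set G))
    (h : omegaOne p ((T : Subgroup G) ⊓ centralizer ((T : Subgroup G) : Set G)) ≤ K) :
    sylowCenterClosure p L ≤ K := by
  rw [sylowCenterClosure_eq T hTL]
  exact iSup_le fun l => (Subgroup.map_mono h).trans (conj_map_eq_of_mem (hK l.2)).le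

theorem isRedIn_sylowCenterClosure {L : Subgroup G} (hTL : (T : Subgroup G) ≤ L)
    (hL : centralizer (pCore p ↥L : Set ↥L) ≤ pCore p ↥L) :
    IsRedIn p L (sylowCenterClosure p L) := by
  set Ω := omegaOne p (pCoreOf p L ⊓ centralizer ((pCoreOf p L : Subgroup G) : Set G)) with hΩ
  have hLΩ : L ≤ normalizer (Ω : Set G) :=
    (le_normalizer_inf_of_le (CharP.le_normalizer_pCoreOf L)
      (le_normalizer_centralizer_of_le (CharP.le_normalizer_pCoreOf L))).trans (Omega.normalizer_le p _)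
  have hle : sylowCenterClosure p L ≤ Ω :=
    sylowCenterClosure_le_iff T hTL hLΩ (omega_center_le_pCoreOf T hTL hL)
  have hn : L ≤ normalizer (sylowCenterClosure p L : Set G) := by
    rw [sylowCenterClosure_eq T hTL]; exact le_normalizer_iSup_conj L _
  refine ⟨hle.trans ((Omega.le_self p _).trans (inf_le_left.trans (CharP.pCoreOf_le L))), hn,
    ElemAbelian.mono (Omega.inter_centralizer_isElementaryAbelian _) hle, fun D hD hDn hc => ?_⟩
  set Z := omegaOne p ((T : Subgroup G) ⊓ centralizer ((T : Subgroup G) : Set G)) with hZ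
  have hDZ : D ≤ centralizer (Z : Set G) := by
    refine le_of_sylow_inf T (hTL.trans hDn)
      (fun x hx hxc => centralizer_le (omega_center_le_sylowCenterClosure T hTL) (hc x hx hxc)) ?_
    exact inf_le_left.trans (Subgroup.le_centralizer_iff.mp ((Omega.le_self p _).trans inf_le_right))
  refine Subgroup.le_centralizer_iff.mp (sylowCenterClosure_le_iff T hTL ?_ ?_)
  · exact le_normalizer_centralizer_of_le hDn
  · exact Subgroup.le_centralizer_iff.mp hDZ

end Cfsg.Agent.Lib.LocalChar
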