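import Cfsg.Agent.Lib.LocalChar.Center
import Cfsg.Agent.Lib.LocalChar.PClosed
import Cfsg.Agent.Lib.LocalChar.TrivialCore
import Cfsg.Agent.Lib.CharP.Overgroup
import Cfsg.Agent.Lib.LocalChar.WeaklyClosed
import Cfsg.Agent.Lib.LocalChar.LLemma
import Cfsg.Agent.S2821
import Cfsg.Agent.S2824

/-!
Existence of subgroups with the basic property.
-/

set_option autoImplicit false

namespace Cfsg.Agent.Lib.LocalChar

open Subgroup
open scoped commutatorElement Pointwise

universe u

variable {G : Type u} [Group G] [Finite G] {p : ℕ} [hp : Fact p.Prime]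

theorem charP_of_centralizer_pCoreOf_le {L : Subgroup G}
    (h : centralizer ((pCoreOf p L : Subgroup G) : Set G) ≤ pCoreOf p L) :
    centralizer (pCore p ↥L : Set ↥L) ≤ pCore p ↥L :=
  CharP.centralizer_pCore_le_of_forall fun _ _ hx hc =>
    CharP.eq_one_of_mem_of_coprime (CharP.pCoreOf_isPGroup L) (h hc) hx

/-- In parabolic characteristic `p` every parabolic subgroup with `O_p ≠ 1` lies in `𝓛`. -/
theorem centralizer_pCoreOf_le_of_parabolicChar (hH : IsOfParabolicCharacteristic p G)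
    (T : Sylow p G) {R : Subgroup G} (hTR : (T : Subgroup G) ≤ R) (hne : pCoreOf p R ≠ ⊥) :
    centralizer ((pCoreOf p R : Subgroup G) : Set G) ≤ pCoreOf p R := by
  set O := pCoreOf p R with hO
  set N := normalizer (O : Set G) with hN
  have hRN : R ≤ N := CharP.le_normalizer_pCoreOf R
  have hchar := hH O (CharP.pCoreOf_isPGroup R) hne ⟨T, hTR.trans hRN⟩
  set C := centralizer (O : Set G) with hC
  have hCN : C ≤ N := centralizer_le_normalizer _
  have hNC : N ≤ normalizer (C : Set G) := le_normalizer_centralizer_of_le le_rfl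
  have hPR : pCoreOf p N ≤ R := (pCoreOf_le_sylow T (hTR.trans hRN)).trans hTR
  have hnC : N ≤ normalizer ((pCoreOf p N ⊓ C : Subgroup G) : Set G) :=
    le_normalizer_inf_of_le (CharP.le_normalizer_pCoreOf N) hNC
  have hIO : pCoreOf p N ⊓ C ≤ O :=
    CharP.le_pCoreOf (inf_le_left.trans hPR) ((CharP.pCoreOf_isPGroup N).to_inf_left)
      (hRN.trans hnC)
  have hCp : IsPGroup p ↥C := by
    refine isPGroup_subgroup_of_forall_coprime fun x hx hxc => ?_
    refine CharP.eq_one_of_centralizes_pCoreOf hchar (hCN hx) hxc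
      (mem_centralizer_iff.mpr fun r hr => ?_)
    have hcomm : ⁅r, x⁆ ∈ pCoreOf p N ⊓ C := by
      refine ⟨?_, ?_⟩
      · have h := mul_mem hr (conj_mem_of_mem_normalizer
          (CharP.le_normalizer_pCoreOf N (hCN hx)) (inv_mem hr))
        simpa [commutatorElement_def, mul_assoc] using h
      · exact C.mul_mem (conj_mem_of_mem_normalizer
          (hNC (CharP.pCoreOf_le N hr)) hx) (C.inv_mem hx)
    exact (commute_of_commutator_fixed (CharP.pCoreOf_isPGroup N) hxc hcomm.1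
      (mem_centralizer_iff.mp hx _ (hIO hcomm)).symm).symm.eq
  exact (le_inf (CharP.le_pCoreOf hCN hCp hNC) le_rfl).trans hIO

/-- `Y_L ≤ Y_X` for parabolic subgroups `L ≤ X`, `X` of characteristic `p`. -/
theorem largestPReducedOf_mono (T : Sylow p G) {L X : Subgroup G} (hTL : (T : Subgroup G) ≤ L)
    (hLX : L ≤ X) (hX : centralizer (pCore p ↥X : Set ↥X) ≤ pCore p ↥X) :
    largestPReducedOf p L ≤ largestPReducedOf p X := by
  set Y := largestPReducedOf p L
  have hr := isRedIn_largest (p := p) L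
  set O := pCoreOf p X with hO
  have hOL : O ≤ L := (pCoreOf_le_sylow T (hTL.trans hLX)).trans hTL
  have hOpL : O ≤ pCoreOf p L :=
    CharP.le_pCoreOf hOL (CharP.pCoreOf_isPGroup X) (hLX.trans (CharP.le_normalizer_pCoreOf X))
  have hYc : Y ≤ centralizer (O : Set G) :=
    le_centralizer_iff.mp (hOpL.trans hr.pCoreOf_le_centralizer)
  have hYZ : Y ≤ O ⊓ centralizer (O : Set G) :=
    le_inf ((le_inf (hr.1.trans hLX) hYc).trans (centralizer_inf_le_pCoreOf hX)) hYc
  have hXZ : X ≤ normalizer ((O ⊓ centralizer (O : Set G) : Subgroup G) : Set G) :=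
    le_normalizer_inf_of_le (CharP.le_normalizer_pCoreOf X)
      (le_normalizer_centralizer_of_le (CharP.le_normalizer_pCoreOf X))
  set V := ⨆ x : ↥X, Y.map (MulAut.conj (x : G)).toMonoidHom with hV
  have hterm : ∀ x : ↥X, Y.map (MulAut.conj (x : G)).toMonoidHom ≤ O ⊓ centralizer (O : Set G) :=
    fun x => (map_mono hYZ).trans (conj_map_eq_of_mem (hXZ x.2)).le
  have hred : IsRedIn p X V := by
    refine ⟨iSup_le fun x => (hterm x).trans (inf_le_left.trans (CharP.pCoreOf_le X)),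
      le_normalizer_iSup_conj X Y, ElemAbelian.iSup (fun x => ElemAbelian.map hr.2.2.1 _)
        fun i j a ha b hb => mem_centralizer_iff.mp (hterm j hb).2 a (hterm i ha).1,
      fun D hD hn hc => ?_⟩
    have hDY : D ≤ centralizer (Y : Set G) := by
      refine le_of_sylow_inf T ((hTL.trans hLX).trans hn) (fun x hx hxc => ?_) ?_
      · refine centralizer_le ?_ (hc x hx hxc)
        exact SetLike.coe_subset_coe.mpr ((conj_map_one Y).ge.trans
          (le_iSup (fun x : ↥X => Y.map (MulAut.conj (x : G)).toMonoidHom) 1))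
      · refine (inf_le_inf_right D hTL).trans (hr.2.2.2 (L ⊓ D) inf_le_left
          (le_normalizer_inf_of_le Subgroup.le_normalizer (hLX.trans hn)) fun x hx hxc => ?_)
        refine centralizer_le ?_ (hc x hx.2 hxc)
        exact SetLike.coe_subset_coe.mpr ((conj_map_one Y).ge.trans
          (le_iSup (fun x : ↥X => Y.map (MulAut.conj (x : G)).toMonoidHom) 1))
    refine le_centralizer_iff.mpr (iSup_le fun x => le_centralizer_iff.mp ?_)
    rw [centralizer_conj_map]
    exact (conj_map_eq_of_mem (hn x.2)).ge.trans (map_mono hDY)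
  refine le_trans ?_ hred.le_largest
  exact (conj_map_one Y).ge.trans
    (le_iSup (fun x : ↥X => Y.map (MulAut.conj (x : G)).toMonoidHom) 1)

theorem largestPReducedOf_ne_bot (T : Sylow p G) (hT : (T : Subgroup G) ≠ ⊥) {L : Subgroup G}
    (hTL : (T : Subgroup G) ≤ L) (hL : centralizer (pCore p ↥L : Set ↥L) ≤ pCore p ↥L) :
    largestPReducedOf p L ≠ ⊥ := by
  intro h
  obtain ⟨-, -, -, h1, h2, -⟩ := S2821.result T L hTL hL _ rfl
  refine Omega.ne_bot_of_isPGroup (T.isPGroup'.to_le inf_le_left)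
    (inf_centralizer_ne_bot T.isPGroup' T.isPGroup' Subgroup.le_normalizer hT) ?_
  exact le_bot_iff.mp ((h1.trans h2).trans h.le)

/-- A normal `p`-closed `D` with no proper supplement over `T` maps into the Frattini subgroup. -/
theorem map_le_frattini_of_no_supplement (T : Sylow p G) {M D : Subgroup G}
    (hTM : (T : Subgroup G) ≤ M) (hDM : D ≤ M) (hn : M ≤ normalizer (D : Set G))
    (hcl : IsPClosed p ↥D)
    (hmin : ∀ X : Subgroup G, (T : Subgroup G) ≤ X → X ≤ M → M ≤ X ⊔ D → X = M) :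
    (D.subgroupOf M).map (QuotientGroup.mk' (pCore p ↥M)) ≤ frattini (↥M ⧸ pCore p ↥M) := by
  set π := QuotientGroup.mk' (pCore p ↥M) with hπdef
  have hπ : Function.Surjective π := QuotientGroup.mk'_surjective _
  haveI : (D.subgroupOf M).Normal := normal_subgroupOf_of_le_normalizer hn
  set D' := (D.subgroupOf M).map π with hD'
  haveI : D'.Normal := Subgroup.Normal.map inferInstance π hπ
  have hcop : (Nat.card ↥D').Coprime p := by
    refine coprime_card_of_forall fun y hy => (hp.out.coprime_iff_not_dvd.mpr fun hd => ?_).symm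
    set z := y ^ (orderOf y / p) with hz
    have hzo : orderOf z = p := orderOf_pow_orderOf_div (orderOf_pos y).ne' hd
    obtain ⟨d, hd', hdz⟩ := (pow_mem hy (orderOf y / p) : z ∈ D')
    obtain ⟨k, hk⟩ : ∃ k, d ^ p ^ k = 1 := by
      have h1 : d ^ p ∈ pCore p ↥M := by
        rw [← QuotientGroup.eq_one_iff]
        show π (d ^ p) = 1
        have h0 : z ^ orderOf z = 1 := pow_orderOf_eq_one z
        rw [hzo] at h0
        rw [map_pow, hdz]
        exact h0
      obtain ⟨k, hk⟩ := PSolvable.pCore_isPGroup ⟨d ^ p, h1⟩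
      refine ⟨k + 1, ?_⟩
      rw [pow_succ', pow_mul]
      exact congrArg Subtype.val hk
    have hdG : (d : G) ^ p ^ k = 1 := by
      rw [← SubmonoidClass.coe_pow, hk]; rfl
    have h2 : zpowers (d : G) ≤ pCoreOf p D :=
      le_pCoreOf_of_isPClosed hcl (zpowers_le.mpr hd') (zpowers_isPGroup hdG)
    obtain ⟨hdM, h3⟩ := CharP.mem_pCoreOf_iff.mp
      (pCoreOf_le_pCoreOf_of_normal hDM hn
        (h2 (mem_zpowers _)))
    have h4 : z = 1 := by
      show y ^ (orderOf y / p) = 1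
      rw [← hdz]
      exact (QuotientGroup.eq_one_iff d).mpr h3
    rw [h4, orderOf_one] at hzo
    exact hp.out.one_lt.ne hzo
  rw [frattini, Order.radical]
  refine le_iInf₂ fun M₁ hM₁ => ?_
  by_contra hle
  have hsup : D' ⊔ M₁ = ⊤ :=
    hM₁.2 _ (lt_of_le_of_ne le_sup_right fun e => hle (le_sup_left.trans e.ge))
  have hidx : M₁.index ∣ Nat.card ↥D' := by
    have h1 : D'.index = (D'.subgroupOf M₁).index := by
      rw [← relIndex_top_right, ← hsup, relIndex_sup_left]
      rfl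
    have h2 := (D'.subgroupOf M₁).card_mul_index
    have h3 := M₁.card_mul_index
    have h4 := D'.card_mul_index
    have hpos : 0 < D'.index := Nat.pos_of_ne_zero index_ne_zero_of_finite
    refine ⟨Nat.card ↥(D'.subgroupOf M₁), Nat.eq_of_mul_eq_mul_right hpos ?_⟩
    rw [h4, ← h3, ← h2, ← h1]
    ring
  set M' := M₁.comap π with hM'
  have hidx' : ¬ p ∣ M'.index := by
    rw [hM', index_comap_of_surjective _ hπ]
    exact fun hd => hp.out.coprime_iff_not_dvd.mp hcop.symm (hd.trans hidx)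
  obtain ⟨P⟩ := (inferInstance : Nonempty (Sylow p ↥M'))
  set P' := ((P : Subgroup ↥M').map M'.subtype).map M.subtype with hP'
  have hP'M : P' ≤ M := map_subtype_le _
  obtain ⟨x, hx, hxP⟩ := exists_conj_le_sylow_map (L := M) (T.subtype hTM) hP'M
    ((P.isPGroup'.map _).map _)
  rw [Sylow.coe_subtype, map_subgroupOf_eq_of_le hTM] at hxP
  have hxT : P'.map (MulAut.conj x).toMonoidHom = (T : Subgroup G) := by
    refine Subgroup.eq_of_le_of_card_ge hxP (Nat.le_of_dvd Nat.card_pos ?_)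
    rw [card_conj_map, hP', Nat.card_congr
        ((P : Subgroup ↥M').map M'.subtype |>.equivMapOfInjective _ M.subtype_injective).symm.toEquiv,
      Nat.card_congr ((P : Subgroup ↥M').equivMapOfInjective _ M'.subtype_injective).symm.toEquiv]
    obtain ⟨k, hk⟩ := IsPGroup.iff_card.mp T.isPGroup'
    rw [hk]
    refine P.pow_dvd_card_of_pow_dvd_card ?_
    have h5 : p ^ k ∣ Nat.card ↥M' * M'.index := by
      rw [M'.card_mul_index, ← hk]
      exact Subgroup.card_dvd_of_le hTM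
    exact (((hp.out.coprime_iff_not_dvd.mpr hidx').pow_left k)).dvd_of_dvd_mul_right h5
  set X := (M'.map M.subtype).map (MulAut.conj x).toMonoidHom with hX
  have hXM : X ≤ M := (map_mono (map_subtype_le _)).trans (conj_map_eq_of_mem (Subgroup.le_normalizer hx)).le
  have hTX : (T : Subgroup G) ≤ X := by
    rw [← hxT]
    exact map_mono (map_mono (map_subtype_le _))
  have hM'D : D.subgroupOf M ⊔ M' = ⊤ := by
    apply Subgroup.map_injective_of_ker_le π ((ker_le_comap π M₁).trans le_sup_right) le_top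
    rw [Subgroup.map_sup, map_comap_eq_self_of_surjective hπ, ← hD', hsup,
      map_top_of_surjective _ hπ]
  have hMXD : M ≤ X ⊔ D := by
    have h := congrArg (Subgroup.map M.subtype) hM'D
    rw [Subgroup.map_sup, map_subgroupOf_eq_of_le hDM, ← MonoidHom.range_eq_map, range_subtype] at h
    conv_lhs => rw [← conj_map_eq_of_mem (Subgroup.le_normalizer hx), ← h, Subgroup.map_sup, conj_map_eq_of_mem (hn hx)]
    rw [sup_comm]
  have hXeq := hmin X hTX hXM hMXD
  have htop : M' = ⊤ := by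
    apply Subgroup.map_injective M.subtype_injective
    apply Subgroup.map_injective (f := (MulAut.conj x).toMonoidHom) (MulAut.conj x).injective
    rw [← hX, hXeq, ← MonoidHom.range_eq_map, range_subtype, conj_map_eq_of_mem (Subgroup.le_normalizer hx)]
  rw [hM', ← comap_top π] at htop
  exact hM₁.1 (comap_injective hπ htop)

/-- **Existence of subgroups with the basic property.** -/
theorem exists_basic (T : Sylow p G)
    (hpar : ∀ R : Subgroup G, (T : Subgroup G) ≤ R → pCoreOf p R ≠ ⊥ →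
      centralizer ((pCoreOf p R : Subgroup G) : Set G) ≤ pCoreOf p R)
    {L : Subgroup G} (hTL : (T : Subgroup G) ≤ L) (hL : L ∈ charPSubgroups p G) :
    ∃ M Ls : Subgroup G, (T : Subgroup G) ≤ M ∧ IsInFrakM p M ∧ (T : Subgroup G) ≤ Ls ∧ Ls ≤ M ∧
      Ls ∈ charPSubgroups p G ∧ largestPReducedOf p L = largestPReducedOf p Ls ∧
      largestPReducedOf p L ≤ largestPReducedOf p M ∧
      L ⊔ centralizer ((largestPReducedOf p L : Subgroup G) : Set G) =
        Ls ⊔ centralizer ((largestPReducedOf p L : Subgroup G) : Set G) := by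
  have hmem : ∀ R : Subgroup G, (T : Subgroup G) ≤ R → pCoreOf p R ≠ ⊥ → R ∈ charPSubgroups p G :=
    fun R hR hne => ⟨fun h => hne ((pCoreOf_eq_bot_iff R).mpr h), hpar R hR hne⟩
  have hchar : ∀ R : Subgroup G, R ∈ charPSubgroups p G →
      centralizer (pCore p ↥R : Set ↥R) ≤ pCore p ↥R := fun R hR =>
    charP_of_centralizer_pCoreOf_le hR.2
  have hOne : ∀ R : Subgroup G, R ∈ charPSubgroups p G → pCoreOf p R ≠ ⊥ := fun R hR h =>
    hR.1 ((pCoreOf_eq_bot_iff R).mp h)
  set YL := largestPReducedOf p L with hYL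
  set CL := centralizer (YL : Set G) with hCL
  have hT : (T : Subgroup G) ≠ ⊥ := fun h =>
    hOne L hL (le_bot_iff.mp ((pCoreOf_le_sylow T hTL).trans h.le))
  have hYL1 : YL ≠ ⊥ := largestPReducedOf_ne_bot T hT hTL (hchar L hL)
  -- `X` is good: it has a piece equivalent to `L`
  set good : Set (Subgroup G) := {X | (T : Subgroup G) ≤ X ∧ X ∈ charPSubgroups p G ∧
    ∃ Ls, (T : Subgroup G) ≤ Ls ∧ Ls ≤ X ∧ Ls ∈ charPSubgroups p G ∧
      largestPReducedOf p Ls = YL ∧ L ⊔ CL = Ls ⊔ CL} with hgood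
  have hLg : L ∈ good := ⟨hTL, hL, L, hTL, le_rfl, hL, rfl, rfl⟩
  obtain ⟨Y, hYmax⟩ := (Set.toFinite (largestPReducedOf p '' good)).exists_maximal
    ⟨_, Set.mem_image_of_mem _ hLg⟩
  obtain ⟨X₀, hX₀, hX₀Y⟩ := hYmax.prop
  obtain ⟨X, hXmax⟩ := (Set.toFinite {X | X ∈ good ∧ largestPReducedOf p X = Y}).exists_maximal
    ⟨X₀, hX₀, hX₀Y⟩
  obtain ⟨⟨hTX, hX, Ls, hTLs, hLsX, hLsc, hLsY, hLsC⟩, hXY⟩ := hXmax.prop
  have hXgood : X ∈ good := ⟨hTX, hX, Ls, hTLs, hLsX, hLsc, hLsY, hLsC⟩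
  -- overgroups of good subgroups are good
  have hup : ∀ Z ∈ charPSubgroups p G, X ≤ Z → Z = X := by
    intro Z hZ hXZ
    have hgZ : Z ∈ good := ⟨hTX.trans hXZ, hZ, Ls, hTLs, hLsX.trans hXZ, hLsc, hLsY, hLsC⟩
    have hle : Y ≤ largestPReducedOf p Z := hXY.symm.le.trans
      (largestPReducedOf_mono T hTX hXZ (hchar Z hZ))
    have hYZ : largestPReducedOf p Z = Y := hYmax.eq_of_ge (Set.mem_image_of_mem _ hgZ) hle
    exact hXmax.eq_of_ge ⟨hgZ, hYZ⟩ hXZ
  have hXm : X ∈ maxCharPSubgroups p G := ⟨hX, fun Z hZ hXZ => hup Z hZ hXZ⟩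
  have hYLY : YL ≤ Y :=
    hLsY.ge.trans ((largestPReducedOf_mono T hTLs hLsX (hchar X hX)).trans hXY.le)
  have hrY := isRedIn_largest (p := p) X
  rw [hXY] at hrY
  set C := centralizer (Y : Set G) with hC
  have hY1 : Y ≠ ⊥ := fun h => hYL1 (le_bot_iff.mp (hYLY.trans h.le))
  have hNX : normalizer (Y : Set G) = X := by
    refine hup _ (hmem _ (hTX.trans hrY.2.1) fun h => hY1 ?_) hrY.2.1
    exact le_bot_iff.mp (h ▸ CharP.le_pCoreOf Subgroup.le_normalizer hrY.isPGroup le_rfl)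
  have hCX : C ≤ X := (centralizer_le_normalizer _).trans hNX.le
  have hYT : Y ≤ (T : Subgroup G) := hrY.le_pCoreOf.trans (pCoreOf_le_sylow T hTX)
  set T₀ := (T : Subgroup G) ⊓ C with hT₀
  set L₁ := X ⊓ normalizer (T₀ : Set G) with hL₁
  obtain ⟨hYL₁, hXL₁⟩ := S2824.result T X X hTX hTX (hchar X hX) (hchar X hX) T₀
    (by rw [hXY]) rfl L₁ rfl
  rw [hXY] at hYL₁ hXL₁
  have hTL₁ : (T : Subgroup G) ≤ L₁ := le_inf hTX (le_normalizer_inf_of_le Subgroup.le_normalizer
    ((hTX.trans hrY.2.1).trans (le_normalizer_centralizer_of_le le_rfl)))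
  obtain ⟨M, hMmin⟩ := (Set.toFinite {M : Subgroup G | (T : Subgroup G) ≤ M ∧ M ≤ L₁ ∧
    L₁ ≤ M ⊔ C}).exists_minimal ⟨L₁, hTL₁, le_rfl, le_sup_left⟩
  obtain ⟨hTM, hML₁, hL₁M⟩ := hMmin.prop
  have hMX : M ≤ X := hML₁.trans inf_le_left
  have hMC : M ⊔ C = X := le_antisymm (sup_le hMX hCX)
    ((le_sup_left.trans hXL₁.le).trans (sup_le hL₁M le_sup_right))
  have hOX : pCoreOf p X ≤ T₀ := le_inf (pCoreOf_le_sylow T hTX) hrY.pCoreOf_le_centralizer
  have hL₁c : L₁ ∈ charPSubgroups p G := hmem L₁ hTL₁ fun h => hOne X hX <| le_bot_iff.mp <|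
    hOX.trans <| h ▸ CharP.le_pCoreOf (inf_le_left.trans hTL₁) (T.isPGroup'.to_le inf_le_left)
      inf_le_right
  have hT₀M : T₀ ≤ pCoreOf p M := CharP.le_pCoreOf (inf_le_left.trans hTM)
    (T.isPGroup'.to_le inf_le_left) (hML₁.trans inf_le_right)
  have hMc : M ∈ charPSubgroups p G := hmem M hTM fun h => hOne X hX <|
    le_bot_iff.mp (hOX.trans (hT₀M.trans h.le))
  have hYM : largestPReducedOf p M = Y := by
    refine le_antisymm ((largestPReducedOf_mono T hTM hML₁ (hchar L₁ hL₁c)).trans hYL₁.le) ?_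
    exact (hrY.transfer (hYT.trans hTM) (by
      rw [hMC]; exact (sup_eq_left.mpr hCX).symm)).le_largest
  -- a piece of `M` equivalent to `L`
  have hCCL : C ≤ CL := centralizer_le (SetLike.coe_subset_coe.mpr hYLY)
  set L₂ := M ⊓ (Ls ⊔ C) with hL₂
  have hTL₂ : (T : Subgroup G) ≤ L₂ := le_inf hTM (hTLs.trans le_sup_left)
  have hMN : M ≤ normalizer (C : Set G) := le_normalizer_centralizer_of_le (hMX.trans hrY.2.1)
  have hL₂C : L ⊔ CL = L₂ ⊔ CL := by
    rw [hLsC]
    refine le_antisymm (sup_le ?_ le_sup_right)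
      (sup_le (inf_le_right.trans (sup_le le_sup_left (hCCL.trans le_sup_right))) le_sup_right)
    intro l hl
    have h1 : l ∈ ((M ⊔ C : Subgroup G) : Set G) := hMC.ge (hLsX hl)
    rw [coe_mul_of_left_le_normalizer_right M C hMN] at h1
    obtain ⟨m, hm, c, hc, rfl⟩ := h1
    refine mul_mem (mem_sup_left ⟨hm, ?_⟩) (mem_sup_right (hCCL hc))
    have h2 := mul_mem (mem_sup_left (T := C) hl) (inv_mem (mem_sup_right (S := Ls) hc))
    simpa using h2
  have hMO : pCoreOf p M ≠ ⊥ := hOne M hMc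
  have hL₂c : L₂ ∈ charPSubgroups p G := hmem L₂ hTL₂ fun h => hMO <| le_bot_iff.mp <|
    h ▸ CharP.le_pCoreOf ((pCoreOf_le_sylow T hTM).trans hTL₂) (CharP.pCoreOf_isPGroup M)
      (inf_le_left.trans (CharP.le_normalizer_pCoreOf M))
  set TL := (T : Subgroup G) ⊓ CL with hTLdef
  obtain ⟨hYL₃, hL₃C⟩ := S2824.result T L L₂ hTL hTL₂ (hchar L hL) (hchar L₂ hL₂c) TL rfl
    hL₂C.symm _ rfl
  set L₃ := L₂ ⊓ normalizer (TL : Set G) with hL₃
  have hrL := isRedIn_largest (p := p) L
  have hTL₃ : (T : Subgroup G) ≤ L₃ := le_inf hTL₂ (le_normalizer_inf_of_le Subgroup.le_normalizer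
    ((hTL.trans hrL.2.1).trans (le_normalizer_centralizer_of_le le_rfl)))
  have hL₃c : L₃ ∈ charPSubgroups p G := hmem L₃ hTL₃ fun h => hOne L hL <| le_bot_iff.mp <|
    (le_inf (pCoreOf_le_sylow T hTL) hrL.pCoreOf_le_centralizer).trans <|
      h ▸ CharP.le_pCoreOf (inf_le_left.trans hTL₃) (T.isPGroup'.to_le inf_le_left) inf_le_right
  have hL₃M : L₃ ≤ M := inf_le_left.trans inf_le_left
  refine ⟨M, L₃, hTM, ?_, hTL₃, hL₃M, hL₃c, hYL₃.symm, hYLY.trans hYM.ge, hL₃C⟩
  refine ⟨hMc, ?_, ?_, ?_, ?_, ?_⟩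
  · rw [hYM, hMC]; exact hXm
  · intro Z hZ hMZ
    rw [hYM, hMC]
    have hgZ : Z ∈ good := ⟨hTM.trans hMZ, hZ.1, L₃, hTL₃, hL₃M.trans hMZ, hL₃c, hYL₃, hL₃C⟩
    have hle : Y ≤ largestPReducedOf p Z := hYM.ge.trans
      (largestPReducedOf_mono T hTM hMZ (hchar Z hZ.1))
    have hYZ : largestPReducedOf p Z = Y := hYmax.eq_of_ge (Set.mem_image_of_mem _ hgZ) hle
    have hZN := (isRedIn_largest (p := p) Z).2.1
    rw [hYZ, hNX] at hZN
    exact (hZ.2 X hX hZN).symm
  · rw [hYM, hMC, hXY]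
  · rw [hYM]
    set D := M ⊓ C with hD
    have hMD : M ≤ normalizer (D : Set G) := le_normalizer_inf_of_le Subgroup.le_normalizer hMN
    obtain ⟨P, hP⟩ := exists_sylow_inf T (D := D) (hTM.trans hMD)
    refine isPClosed_of_sylow_le P ?_
    rw [hP]
    haveI : (((T : Subgroup G) ⊓ D).subgroupOf D).Normal := by
      refine normal_subgroupOf_of_le_normalizer ?_
      rw [show (T : Subgroup G) ⊓ D = T₀ by rw [hD, ← inf_assoc, inf_eq_left.mpr hTM]]
      exact (inf_le_left.trans hML₁).trans inf_le_right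
    exact PSolvable.le_pCore ((T.isPGroup'.to_le inf_le_left).comap_subtype)
  · rw [hYM]
    have hMD : M ≤ normalizer ((M ⊓ C : Subgroup G) : Set G) :=
      le_normalizer_inf_of_le Subgroup.le_normalizer hMN
    have hTD : (T : Subgroup G) ⊓ (M ⊓ C) = T₀ := by rw [← inf_assoc, inf_eq_left.mpr hTM]
    refine map_le_frattini_of_no_supplement T hTM inf_le_left hMD ?_ fun Z hTZ hZM hle => ?_
    · obtain ⟨P, hP⟩ := exists_sylow_inf T (D := M ⊓ C) (hTM.trans hMD)
      refine isPClosed_of_sylow_le P ?_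
      rw [hP, hTD]
      haveI : (T₀.subgroupOf (M ⊓ C)).Normal :=
        normal_subgroupOf_of_le_normalizer ((inf_le_left.trans hML₁).trans inf_le_right)
      exact PSolvable.le_pCore ((T.isPGroup'.to_le inf_le_left).comap_subtype)
    · exact hMmin.eq_of_le ⟨hTZ, hZM.trans hML₁,
        hL₁M.trans (sup_le (hle.trans (sup_le_sup le_rfl inf_le_right)) le_sup_right)⟩ hZM

end Cfsg.Agent.Lib.LocalChar
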