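import Mathlib
import Cfsg.Prelude.Def_GeometricClasses
/-!
Eigenspace bounds for elements normalising an absolutely irreducible extraspecial group.
-/

set_option autoImplicit false

namespace Cfsg.Agent.Lib.LocalChar.EigenBound

open Module Subgroup

variable {F : Type*} [Field F] {n : ℕ}

/-- The action of `GL n F` on column vectors. -/
def act (F : Type*) [Field F] (n : ℕ) : Matrix.GeneralLinearGroup (Fin n) F →* End F (Fin n → F) :=
  (Matrix.toLinAlgEquiv' (R := F) (n := Fin n)).toAlgHom.toMonoidHom.comp (Units.coeHom _)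

/-- Eigenspace of a group element. -/
abbrev eig (g : Matrix.GeneralLinearGroup (Fin n) F) (c : F) : Submodule F (Fin n → F) :=
  End.eigenspace (act F n g) c

theorem act_apply (g : Matrix.GeneralLinearGroup (Fin n) F) :
    act F n g = Matrix.toLin' (g : Matrix (Fin n) (Fin n) F) := rfl

theorem mul_apply (a b : Matrix.GeneralLinearGroup (Fin n) F) (v : Fin n → F) :
    act F n (a * b) v = act F n a (act F n b v) := by rw [map_mul]; rfl

theorem inv_cancel (a : Matrix.GeneralLinearGroup (Fin n) F) (v : Fin n → F) :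
    act F n a⁻¹ (act F n a v) = v := by rw [← mul_apply, inv_mul_cancel, map_one]; rfl

theorem act_injective (a : Matrix.GeneralLinearGroup (Fin n) F) : Function.Injective (act F n a) :=
  Function.LeftInverse.injective (inv_cancel a)

/-- A group element acts by the scalar `c`. -/
def IsScal (s : Matrix.GeneralLinearGroup (Fin n) F) (c : F) : Prop := ∀ v, act F n s v = c • v

theorem exists_isScal {s : Matrix.GeneralLinearGroup (Fin n) F}
    (hs : s ∈ Cfsg.Geo.scalars (Fin n) F) : ∃ c : F, IsScal s c := by
  obtain ⟨c, hc⟩ := (Cfsg.Geo.mem_scalars_iff s).1 hs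
  refine ⟨c, fun v => ?_⟩
  rw [act_apply, hc]; simp

theorem IsScal.eq_one {s : Matrix.GeneralLinearGroup (Fin n) F} {c : F} (h : IsScal s c) (hc : c = 1) :
    s = 1 := by
  apply Units.ext
  apply (Matrix.toLin' (R := F) (n := Fin n) (m := Fin n)).injective
  rw [← act_apply, Units.val_one, Matrix.toLin'_one]
  exact LinearMap.ext fun v => by rw [h v, hc, one_smul]; rfl

theorem IsScal.pow_apply {s : Matrix.GeneralLinearGroup (Fin n) F} {c : F} (h : IsScal s c) :
    ∀ k : ℕ, IsScal (s ^ k) (c ^ k)
  | 0 => fun v => by simp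
  | k + 1 => fun v => by rw [pow_succ, mul_apply, h v, map_smul, h.pow_apply k v, smul_smul, pow_succ']

theorem scalar_pow_eq_one {s : Matrix.GeneralLinearGroup (Fin n) F} {c : F} (h : IsScal s c) {k : ℕ}
    (hk : s ^ k = 1) {v : Fin n → F} (hv : v ≠ 0) : c ^ k = 1 := by
  have h1 := h.pow_apply k v
  rw [hk, map_one] at h1
  exact smul_left_injective F hv (show c ^ k • v = (1 : F) • v by rw [← h1, one_smul]; rfl)

theorem pow_apply_eig {a : Matrix.GeneralLinearGroup (Fin n) F} {μ : F} {v : Fin n → F}
    (hv : v ∈ eig a μ) : ∀ k : ℕ, act F n (a ^ k) v = μ ^ k • v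
  | 0 => by simp
  | k + 1 => by
    rw [pow_succ, mul_apply, End.mem_eigenspace_iff.1 hv, map_smul, pow_apply_eig hv k, smul_smul,
      pow_succ']

theorem scalars_le_center : Cfsg.Geo.scalars (Fin n) F ≤ center (Matrix.GeneralLinearGroup (Fin n) F) := by
  intro s hs
  obtain ⟨c, hc⟩ := (Cfsg.Geo.mem_scalars_iff s).1 hs
  refine mem_center_iff.2 fun a => Units.ext ?_
  rw [Units.val_mul, Units.val_mul, hc]; simp

instance scalars_normal : (Cfsg.Geo.scalars (Fin n) F).Normal :=
  ⟨fun s hs a => by
    rw [(mem_center_iff.1 (scalars_le_center hs) a), mul_inv_cancel_right]; exact hs⟩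

/-- Dimension doubling. -/
theorem two_mul_finrank_le {W : Submodule F (Fin n → F)} (a : Matrix.GeneralLinearGroup (Fin n) F)
    (h : ∀ w ∈ W, act F n a w ∈ W → w = 0) : 2 * finrank F W ≤ n := by
  have hd : W ⊓ W.map (act F n a) = ⊥ := by
    rw [eq_bot_iff]
    rintro _ ⟨hv, w, hw, rfl⟩
    rw [Submodule.mem_bot, h w hw hv, map_zero]
  have h1 := Submodule.finrank_sup_add_finrank_inf_eq W (W.map (act F n a))
  rw [hd, finrank_bot] at h1
  have h2 : finrank F (W.map (act F n a)) = finrank F W :=
    (Submodule.equivMapOfInjective _ (act_injective a) W).finrank_eq.symm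
  have h3 := Submodule.finrank_le (W ⊔ W.map (act F n a))
  rw [Module.finrank_fin_fun] at h3
  omega

variable {g e h θ : Matrix.GeneralLinearGroup (Fin n) F} {c : F}

/-- If `g e g⁻¹ e⁻¹` is a scalar other than one, eigenspaces of `g` are small. -/
theorem two_mul_le_of_comm_scalar {γ : F} (hγ : IsScal (g * e * g⁻¹ * e⁻¹) γ) (hγ1 : γ ≠ 1) (hc : c ≠ 0) :
    2 * finrank F (eig g c) ≤ n := by
  refine two_mul_finrank_le e fun w hw hew => ?_
  have h1 := End.mem_eigenspace_iff.1 hew
  have h2 : act F n g (act F n e w) = γ • c • act F n e w := by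
    rw [← mul_apply, show g * e = g * e * g⁻¹ * e⁻¹ * (e * g) by group, mul_apply, hγ, mul_apply,
      End.mem_eigenspace_iff.1 hw, map_smul]
  rw [h1, smul_smul] at h2
  by_contra hw0
  have h3 : act F n e w ≠ 0 := fun h0 => hw0 (act_injective e (by rw [h0, map_zero]))
  have h4 := smul_left_injective F h3 h2
  exact hγ1 (mul_right_cancel₀ hc (by rw [← h4, one_mul]))

/-- The bound `3n/4`. -/
theorem four_mul_le {y : Matrix.GeneralLinearGroup (Fin n) F} {τ : F}
    (hτ : IsScal (y * (g * e * g⁻¹ * e⁻¹) * y⁻¹ * (g * e * g⁻¹ * e⁻¹)⁻¹) τ) (hτ1 : τ ≠ 1) (hc : c ≠ 0) :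
    4 * finrank F (eig g c) ≤ 3 * n := by
  set h := g * e * g⁻¹ * e⁻¹ with hh
  set W := eig g c
  have hle : W ⊓ W.map (act F n e) ≤ eig h 1 := by
    rintro _ ⟨hv, w, hw, rfl⟩
    rw [End.mem_eigenspace_iff, one_smul]
    have h2 : act F n g (act F n e w) = c • act F n h (act F n e w) := by
      rw [← mul_apply, show g * e = h * (e * g) by rw [hh]; group, mul_apply h (e * g), mul_apply e g,
        End.mem_eigenspace_iff.1 hw, map_smul, map_smul]
    rw [End.mem_eigenspace_iff.1 hv] at h2
    exact (smul_right_injective _ hc h2).symm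
  have h0 : 2 * finrank F (eig h 1) ≤ n := by
    refine two_mul_finrank_le y fun w hw hyw => ?_
    have h1 := End.mem_eigenspace_iff.1 hw
    have h2 := End.mem_eigenspace_iff.1 hyw
    rw [one_smul] at h1 h2
    by_contra hw0
    refine hτ1 (smul_left_injective F
      (show act F n y w ≠ 0 from fun h0 => hw0 (act_injective y (by rw [h0, map_zero]))) ?_)
    show τ • act F n y w = (1 : F) • act F n y w
    rw [one_smul, ← hτ]
    conv_lhs => rw [show act F n y w = act F n h (act F n y w) from h2.symm]
    rw [← mul_apply, ← mul_apply, show y * h * y⁻¹ * h⁻¹ * h * y = y * h by group, mul_apply, h1]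
  have h1 := Submodule.finrank_sup_add_finrank_inf_eq W (W.map (act F n e))
  have h2 : finrank F (W.map (act F n e)) = finrank F W :=
    (Submodule.equivMapOfInjective _ (act_injective e) W).finrank_eq.symm
  have h3 := Submodule.finrank_le (W ⊔ W.map (act F n e))
  rw [Module.finrank_fin_fun] at h3
  have h4 := Submodule.finrank_mono hle
  omega

/-- The bound `n/2` from a noncommuting pair `e`, `g e g⁻¹` when the orders are coprime. -/
theorem two_mul_le_of_conj_noncomm {lam : F} {r q : ℕ} (hrq : Nat.Coprime r q)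
    (hlam : IsScal (g * e * g⁻¹ * e * (g * e * g⁻¹)⁻¹ * e⁻¹) lam) (hlr : lam ^ r = 1) (hl1 : lam ≠ 1)
    (hgq : g ^ q = 1) (hc : c ≠ 0) : 2 * finrank F (eig g c) ≤ n := by
  refine two_mul_finrank_le e fun w hw hew => ?_
  by_contra hw0
  set e' := g * e * g⁻¹ with he'
  have h1 : act F n e' w = act F n e w := by
    have hh : act F n g (act F n e w) = c • act F n e' w := by
      rw [← mul_apply, show g * e = e' * g by rw [he']; group, mul_apply, End.mem_eigenspace_iff.1 hw,
        map_smul]
    rw [End.mem_eigenspace_iff.1 hew] at hh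
    exact (smul_right_injective _ hc hh).symm
  have hu : act F n e (act F n e w) ∈ eig g (c * lam) := by
    rw [End.mem_eigenspace_iff, ← mul_apply, show g * e = e' * g by rw [he']; group, mul_apply,
      End.mem_eigenspace_iff.1 hew, map_smul, ← mul_apply,
      show e' * e = e' * e * e'⁻¹ * e⁻¹ * (e * e') by group, mul_apply, hlam, mul_apply, h1, smul_smul]
  have hu0 : act F n e (act F n e w) ≠ 0 := fun h0 =>
    hw0 (act_injective e (act_injective e (by rw [h0, map_zero, map_zero])))
  have h2 : (c * lam) ^ q = 1 := by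
    have := pow_apply_eig hu q
    rw [hgq, map_one] at this
    exact smul_left_injective F hu0 (show (c * lam) ^ q • _ = (1 : F) • _ by rw [← this, one_smul]; rfl)
  have h3 : c ^ q = 1 := by
    have := pow_apply_eig hw q
    rw [hgq, map_one] at this
    exact smul_left_injective F hw0 (show c ^ q • w = (1 : F) • w by rw [← this, one_smul]; rfl)
  rw [mul_pow, h3, one_mul] at h2
  exact hl1 (by
    have := pow_gcd_eq_one.2 ⟨hlr, h2⟩
    rwa [Nat.Coprime.gcd_eq_one hrq, pow_one] at this)

/-- Dimensions of eigenspaces with distinct eigenvalues add up inside `U`. -/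
theorem sum_finrank_le {ι : Type*} (s : Finset ι) (T : End F (Fin n → F)) (μ : ι → F)
    (hinj : Set.InjOn μ s) (U : Submodule F (Fin n → F)) :
    ∑ i ∈ s, finrank F (End.eigenspace T (μ i) ⊓ U : Submodule F (Fin n → F)) ≤ finrank F U := by
  classical
  suffices h : ∑ i ∈ s, finrank F (End.eigenspace T (μ i) ⊓ U : Submodule F (Fin n → F)) =
      finrank F (s.sup fun i => End.eigenspace T (μ i) ⊓ U : Submodule F (Fin n → F)) by
    rw [h]
    exact Submodule.finrank_mono (Finset.sup_le fun i _ => inf_le_right)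
  induction s using Finset.induction_on with
  | empty => rw [Finset.sup_empty, finrank_bot]; rfl
  | insert a s ha ih =>
    have hd : (End.eigenspace T (μ a) ⊓ U) ⊓ (s.sup fun i => End.eigenspace T (μ i) ⊓ U) = ⊥ := by
      have h1 := (End.eigenspaces_iSupIndep T) (μ a)
      rw [disjoint_iff] at h1
      rw [eq_bot_iff, ← h1]
      refine inf_le_inf inf_le_left (Finset.sup_le fun i hi => inf_le_left.trans ?_)
      have hne : μ i ≠ μ a := fun h => ha (hinj (Finset.mem_coe.2 (Finset.mem_insert_self a s))
        (Finset.mem_coe.2 (Finset.mem_insert_of_mem hi)) h.symm ▸ hi)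
      exact le_iSup₂ (f := fun j (_ : j ≠ μ a) => End.eigenspace T j) (μ i) hne
    have h2 := Submodule.finrank_sup_add_finrank_inf_eq (End.eigenspace T (μ a) ⊓ U)
      (s.sup fun i => End.eigenspace T (μ i) ⊓ U)
    rw [hd, finrank_bot] at h2
    rw [Finset.sum_insert ha, Finset.sup_insert, ih (hinj.mono (fun x hx => by simp [Finset.mem_coe.1 hx]))]
    omega

/-- An invariant subspace is not bigger than its pieces in the eigenspaces of a root of `X ^ r - 1`. -/
theorem finrank_le_sum (T : End F (Fin n → F)) {r : ℕ} (hr : 0 < r) {ζ : F} (hζ : IsPrimitiveRoot ζ r)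
    (hT : T ^ r = 1) (W : Submodule F (Fin n → F)) (hW : ∀ w ∈ W, T w ∈ W) :
    finrank F W ≤ ∑ i ∈ Finset.range r, finrank F (W ⊓ End.eigenspace T (ζ ^ i) : Submodule F (Fin n → F)) := by
  classical
  let P : ℕ → End F (Fin n → F) := fun j =>
    Polynomial.aeval T (∏ i ∈ Finset.range j, (Polynomial.X - Polynomial.C (ζ ^ i)))
  have hstab : ∀ q : Polynomial F, ∀ w ∈ W, Polynomial.aeval T q w ∈ W := by
    intro q w hw
    induction q using Polynomial.induction_on' with
    | add a b ha hb => rw [map_add]; exact W.add_mem ha hb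
    | monomial k a =>
      rw [Polynomial.aeval_monomial]
      have : ∀ k : ℕ, (T ^ k) w ∈ W := fun k => by
        induction k with
        | zero => simpa using hw
        | succ k ih => rw [pow_succ']; exact hW _ ih
      simpa [Algebra.algebraMap_eq_smul_one] using W.smul_mem a (this k)
  have step : ∀ j, finrank F (W ⊓ LinearMap.ker (P (j + 1)) : Submodule F (Fin n → F)) ≤
      finrank F (W ⊓ LinearMap.ker (P j) : Submodule F (Fin n → F)) +
      finrank F (W ⊓ End.eigenspace T (ζ ^ j) : Submodule F (Fin n → F)) := by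
    intro j
    set D : Submodule F (Fin n → F) := W ⊓ LinearMap.ker (P (j + 1))
    have h1 := LinearMap.finrank_range_add_finrank_ker ((P j).domRestrict D)
    have h2 : LinearMap.range ((P j).domRestrict D) ≤ W ⊓ End.eigenspace T (ζ ^ j) := by
      rintro _ ⟨⟨v, hv⟩, rfl⟩
      refine ⟨hstab _ v hv.1, End.mem_eigenspace_iff.2 (sub_eq_zero.1 ?_)⟩
      have := LinearMap.mem_ker.1 hv.2
      simp only [P, Finset.prod_range_succ, mul_comm _ (Polynomial.X - _)] at this
      simpa [P, LinearMap.domRestrict_apply, Algebra.algebraMap_eq_smul_one, smul_pow] using this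
    have h3 : finrank F (LinearMap.ker ((P j).domRestrict D)) ≤
        finrank F (W ⊓ LinearMap.ker (P j) : Submodule F (Fin n → F)) := by
      refine le_of_eq_of_le (Submodule.equivMapOfInjective D.subtype D.injective_subtype _).finrank_eq
        (Submodule.finrank_mono ?_)
      rintro _ ⟨v, hv, rfl⟩
      exact ⟨v.2.1, LinearMap.mem_ker.2 (LinearMap.mem_ker.1 hv)⟩
    have h4 := Submodule.finrank_mono h2
    omega
  have hall : ∀ j, finrank F (W ⊓ LinearMap.ker (P j) : Submodule F (Fin n → F)) ≤
      ∑ i ∈ Finset.range j, finrank F (W ⊓ End.eigenspace T (ζ ^ i) : Submodule F (Fin n → F)) := by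
    intro j
    induction j with
    | zero =>
      rw [Finset.sum_range_zero, Nat.le_zero, Submodule.finrank_eq_zero, eq_bot_iff]
      rintro v ⟨-, hv⟩
      simpa [P] using hv
    | succ j ih => rw [Finset.sum_range_succ]; have := step j; omega
  have hP : P r = 0 := by
    have hx : (∏ i ∈ Finset.range r, (Polynomial.X - Polynomial.C (ζ ^ i))) = Polynomial.X ^ r - Polynomial.C (1 : F) := by
      rw [X_pow_sub_C_eq_prod hζ hr (one_pow r)]
      simp
    show Polynomial.aeval T _ = 0
    rw [hx]; simp [hT]
  have := hall r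
  rwa [hP, LinearMap.ker_zero, inf_top_eq] at this

/-- The bound in the unipotent case. -/
theorem mul_le_of_commute {r : ℕ} (hr : r.Prime) (hr2 : r ≠ 2)
    {y : Matrix.GeneralLinearGroup (Fin n) F} {τ ω : F}
    (hh : h = g * e * g⁻¹ * e⁻¹) (hgh : g * h = h * g) (hhr : h ^ r = 1)
    (hτ : IsScal (y * h * y⁻¹ * h⁻¹) τ) (hτp : IsPrimitiveRoot τ r)
    (hω : IsScal (e * h * e⁻¹ * h⁻¹) ω) (hωr : ω ^ r = 1) :
    r * finrank F (eig g c) ≤ 2 * n ∧ r ∣ n := by
  have hτ0 : τ ≠ 0 := hτp.ne_zero hr.ne_zero
  have hT : act F n h ^ r = 1 := by rw [← map_pow, hhr, map_one]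
  set W := eig g c
  have hWh : ∀ w ∈ W, act F n h w ∈ W := fun w hw => by
    rw [End.mem_eigenspace_iff, ← mul_apply, hgh, mul_apply, End.mem_eigenspace_iff.1 hw, map_smul]
  -- the partner permutes the eigenspaces of `h`
  have hy : ∀ (lam : F), finrank F (eig h lam) ≤ finrank F (eig h (τ⁻¹ * lam)) := by
    intro lam
    rw [(Submodule.equivMapOfInjective _ (act_injective y) (eig h lam)).finrank_eq]
    refine Submodule.finrank_mono ?_
    rintro _ ⟨v, hv, rfl⟩
    rw [End.mem_eigenspace_iff]
    have h2 : act F n y (act F n h v) = τ • act F n h (act F n y v) := by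
      rw [← mul_apply, show y * h = y * h * y⁻¹ * h⁻¹ * (h * y) by group, mul_apply, hτ, mul_apply]
    rw [End.mem_eigenspace_iff.1 hv, map_smul] at h2
    rw [mul_smul, h2, inv_smul_smul₀ hτ0]
  have hy' : ∀ (k : ℕ) (lam : F), finrank F (eig h lam) ≤ finrank F (eig h (τ⁻¹ ^ k * lam)) := by
    intro k
    induction k with
    | zero => intro lam; rw [pow_zero, one_mul]
    | succ k ih => intro lam; refine (ih lam).trans ?_; rw [pow_succ', mul_assoc]; exact hy _
  set m := finrank F (eig h 1)
  have hm : ∀ lam : F, lam ^ r = 1 → finrank F (eig h lam) = m := by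
    intro lam hlam
    haveI : NeZero r := ⟨hr.ne_zero⟩
    obtain ⟨i, hi, rfl⟩ := (hτp.inv).eq_pow_of_pow_eq_one hlam
    refine le_antisymm ?_ ((hy' i 1).trans_eq (by rw [mul_one]))
    refine (hy' (r - i) _).trans_eq ?_
    rw [← pow_add, Nat.sub_add_cancel hi.le, hτp.inv.pow_eq_one]
  have hroot : ∀ {a : F}, IsPrimitiveRoot a r → ∀ i : ℕ, (a ^ i) ^ r = 1 := fun ha i => by
    rw [← pow_mul, mul_comm, pow_mul, ha.pow_eq_one, one_pow]
  have hn : n = r * m := by
    have h1 := finrank_le_sum (act F n h) hr.pos hτp hT ⊤ (fun _ _ => trivial)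
    rw [finrank_top, Module.finrank_fin_fun] at h1
    have h2 := sum_finrank_le (Finset.range r) (act F n h) (fun i => τ ^ i)
      (fun i hi j hj hij => hτp.pow_inj (Finset.mem_range.1 hi) (Finset.mem_range.1 hj) hij) ⊤
    rw [finrank_top, Module.finrank_fin_fun] at h2
    replace h1 : n ≤ ∑ i ∈ Finset.range r, finrank F (End.eigenspace (act F n h) (τ ^ i)) := by
      exact h1.trans_eq (Finset.sum_congr rfl fun i _ => LinearEquiv.finrank_eq (LinearEquiv.ofEq _ _ (by ext; simp)))
    replace h2 : ∑ i ∈ Finset.range r, finrank F (End.eigenspace (act F n h) (τ ^ i)) ≤ n := by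
      exact le_of_eq_of_le (Finset.sum_congr rfl fun i _ => LinearEquiv.finrank_eq (LinearEquiv.ofEq _ _ (by ext; simp))) h2
    have h3 : ∑ i ∈ Finset.range r, finrank F (End.eigenspace (act F n h) (τ ^ i)) = r * m := by
      rw [Finset.sum_congr rfl fun i _ => hm _ (hroot hτp i)]; simp
    omega
  refine ⟨?_, ⟨m, hn⟩⟩
  let D : F → F → ℕ := fun lam μ => finrank F (eig g μ ⊓ eig h lam : Submodule F (Fin n → F))
  have hsum : ∀ {a : F}, IsPrimitiveRoot a r → finrank F W ≤ ∑ i ∈ Finset.range r, D (a ^ i) c :=
    fun ha => finrank_le_sum (act F n h) hr.pos ha hT W hWh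
  have hDm : ∀ (s : Finset ℕ) (lam : F) (μ : ℕ → F), lam ^ r = 1 → Set.InjOn μ s →
      ∑ i ∈ s, D lam (μ i) ≤ m := fun s lam μ hlam hinj =>
    (sum_finrank_le s (act F n g) μ hinj (eig h lam)).trans_eq (hm lam hlam)
  -- the shift by `e`
  have hω0 : ω ≠ 0 := fun h0 => by rw [h0, zero_pow hr.ne_zero] at hωr; exact zero_ne_one hωr
  have hshift : ∀ lam μ : F, D lam μ = D (ω⁻¹ * lam) (ω⁻¹ * lam * μ) := by
    intro lam μ
    show finrank F _ = finrank F _
    rw [(Submodule.equivMapOfInjective _ (act_injective e) (eig g μ ⊓ eig h lam)).finrank_eq]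
    suffices heq : (eig g μ ⊓ eig h lam).map (act F n e) = eig g (ω⁻¹ * lam * μ) ⊓ eig h (ω⁻¹ * lam) by rw [heq]
    have he : ∀ v, act F n h (act F n e v) = ω⁻¹ • act F n e (act F n h v) := fun v => by
      conv_rhs => rw [← mul_apply, show e * h = e * h * e⁻¹ * h⁻¹ * (h * e) by group, mul_apply, hω, mul_apply]
      rw [inv_smul_smul₀ hω0]
    have hge : ∀ v, act F n g (act F n e v) = act F n h (act F n e (act F n g v)) := fun v => by
      rw [← mul_apply, show g * e = h * (e * g) by rw [hh]; group, mul_apply, mul_apply]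
    ext u
    constructor
    · rintro ⟨v, ⟨hv1, hv2⟩, rfl⟩
      have hu2 : act F n h (act F n e v) = (ω⁻¹ * lam) • act F n e v := by
        rw [he, End.mem_eigenspace_iff.1 hv2, map_smul, smul_smul]
      refine ⟨End.mem_eigenspace_iff.2 ?_, End.mem_eigenspace_iff.2 hu2⟩
      rw [hge, End.mem_eigenspace_iff.1 hv1, map_smul, map_smul, hu2, smul_smul, mul_comm μ]
    · rintro ⟨hu1, hu2⟩
      obtain ⟨v, rfl⟩ : ∃ v, act F n e v = u := ⟨act F n e⁻¹ u, by
        rw [← mul_apply, mul_inv_cancel, map_one]; rfl⟩
      rw [SetLike.mem_coe, End.mem_eigenspace_iff] at hu1 hu2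
      have hv2 : act F n h v = lam • v := by
        apply act_injective e
        rw [map_smul]
        rw [he, mul_smul] at hu2
        exact smul_right_injective _ (inv_ne_zero hω0) hu2
      refine ⟨v, ⟨End.mem_eigenspace_iff.2 ?_, End.mem_eigenspace_iff.2 hv2⟩, rfl⟩
      apply act_injective e
      apply act_injective h
      rw [← hge, hu1, map_smul, map_smul, he, hv2, map_smul, smul_smul, smul_smul]
      congr 1
      ring
  suffices hfin : r * finrank F W ≤ 2 * (r * m) by omega
  by_cases hω1 : ω = 1
  · simp only [hω1, inv_one, one_mul] at hshift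
    have hbig : ∀ i ∈ Finset.range r, i ≠ 0 → r * D (τ ^ i) c ≤ m := by
      intro i hi hi0
      have hprim : IsPrimitiveRoot (τ ^ i) r := hτp.pow_of_coprime i
        ((hr.coprime_iff_not_dvd.2 fun hd => absurd (Nat.le_of_dvd (by omega) hd)
          (by have := Finset.mem_range.1 hi; omega)).symm)
      have hc' : c ≠ 0 ∨ D (τ ^ i) c = 0 := by
        by_cases hc : c = 0
        · refine Or.inr ?_
          show finrank F _ = 0
          rw [Submodule.finrank_eq_zero, eq_bot_iff]
          rintro v ⟨hv, -⟩
          rw [SetLike.mem_coe, End.mem_eigenspace_iff, hc, zero_smul] at hv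
          exact act_injective g (by rw [hv, map_zero])
        · exact Or.inl hc
      rcases hc' with hc | hc
      · have hconst : ∀ j : ℕ, D (τ ^ i) ((τ ^ i) ^ j * c) = D (τ ^ i) c := by
          intro j
          induction j with
          | zero => simp
          | succ j ih => rw [pow_succ', mul_assoc, ← hshift, ih]
        have := hDm (Finset.range r) (τ ^ i) (fun j => (τ ^ i) ^ j * c) (hroot hτp i)
          (fun a ha b hb hab => hprim.pow_inj (Finset.mem_range.1 ha) (Finset.mem_range.1 hb)
            (mul_right_cancel₀ hc hab))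
        simpa [hconst] using this
      · simp [hc]
    have h0 : D (τ ^ 0) c ≤ m := by
      have := hDm {0} (τ ^ 0) (fun _ => c) (hroot hτp 0) (by simp)
      simpa using this
    have hW := Nat.mul_le_mul_left r (hsum hτp)
    rw [Finset.mul_sum, ← Finset.add_sum_erase _ _ (Finset.mem_range.2 hr.pos)] at hW
    have hrest := Finset.sum_le_card_nsmul ((Finset.range r).erase 0) (fun i => r * D (τ ^ i) c) m
      (fun i hi => hbig i (Finset.mem_of_mem_erase hi) (Finset.ne_of_mem_erase hi))
    rw [Finset.card_erase_of_mem (Finset.mem_range.2 hr.pos), Finset.card_range, smul_eq_mul] at hrest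
    have : r * D (τ ^ 0) c ≤ r * m := Nat.mul_le_mul_left r h0
    have : (r - 1) * m ≤ r * m := Nat.mul_le_mul_right m (Nat.sub_le r 1)
    show r * finrank F W ≤ 2 * (r * m)
    omega
  · set a := ω⁻¹ with ha_def
    have hap : IsPrimitiveRoot a r := by
      refine IsPrimitiveRoot.inv ?_
      rw [IsPrimitiveRoot.iff_orderOf]
      exact (haveI := Fact.mk hr; orderOf_eq_prime hωr hω1)
    have ha0 : a ≠ 0 := hap.ne_zero hr.ne_zero
    let s : ℕ → ℕ := fun k => ∑ i ∈ Finset.range (k + 1), i
    have hk : ∀ (k : ℕ) (μ : F), D 1 μ = D (a ^ k) (a ^ s k * μ) := by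
      intro k
      induction k with
      | zero => intro μ; simp [s]
      | succ k ih =>
        intro μ
        rw [ih μ, hshift]
        congr 1
        · rw [pow_succ']
        · rw [← pow_succ', ← mul_assoc, ← pow_add]
          congr 2
          show k + 1 + _ = _
          simp only [s, Finset.sum_range_succ _ (k + 1)]; omega
    have hs : ∀ k, s k * 2 = (k + 1) * k := fun k => Finset.sum_range_id_mul_two (k + 1)
    have hW : finrank F W ≤ 2 * m := by
      refine (hsum hap).trans ?_
      rw [Finset.sum_congr rfl fun k _ => show D (a ^ k) c = D 1 ((a ^ s k)⁻¹ * c) by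
        rw [hk k, ← mul_assoc, mul_inv_cancel₀ (pow_ne_zero _ ha0), one_mul]]
      by_cases hc : c = 0
      · refine (Finset.sum_eq_zero fun k _ => ?_).trans_le (Nat.zero_le _)
        show finrank F _ = 0
        rw [Submodule.finrank_eq_zero, eq_bot_iff]
        rintro v ⟨hv, -⟩
        rw [SetLike.mem_coe, End.mem_eigenspace_iff, hc, mul_zero, zero_smul] at hv
        exact act_injective g (by rw [hv, map_zero])
      have hodd : r % 2 = 1 := (hr.eq_two_or_odd).resolve_left hr2
      have hinj : ∀ (t : Finset ℕ), (∀ i ∈ t, i < r) →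
          (∀ i ∈ t, ∀ j ∈ t, i < j → ¬ r ∣ i + j + 1) → Set.InjOn (fun k => (a ^ s k)⁻¹ * c) t := by
        intro t ht hne
        have key : ∀ i ∈ t, ∀ j ∈ t, i < j → (a ^ s i)⁻¹ * c ≠ (a ^ s j)⁻¹ * c := by
          intro i hi j hj hij heq
          have h1 : a ^ s i = a ^ s j := inv_injective (mul_right_cancel₀ hc heq)
          have h2 : r ∣ s j - s i := by
            rw [← hap.pow_eq_one_iff_dvd]
            have hle : s i ≤ s j := Finset.sum_le_sum_of_subset (Finset.range_mono (by omega))
            have := h1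
            rw [show s j = s j - s i + s i by omega, pow_add] at this
            exact mul_right_cancel₀ (pow_ne_zero (s i) ha0) (by rw [← this, one_mul])
          obtain ⟨d, rfl⟩ : ∃ d, j = i + d := ⟨j - i, by omega⟩
          have h3 : r ∣ d * (i + (i + d) + 1) := by
            have e : (s (i + d) - s i) * 2 = d * (i + (i + d) + 1) := by
              rw [Nat.sub_mul, hs, hs]
              have : (i + d + 1) * (i + d) = (i + 1) * i + d * (i + (i + d) + 1) := by ring
              omega
            exact e ▸ h2.mul_right 2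
          rcases hr.dvd_mul.1 h3 with h | h
          · have := Nat.le_of_dvd (by omega) h
            have := ht _ hj
            omega
          · exact hne i hi _ hj hij h
        intro i hi j hj hij
        by_contra hne'
        rcases Nat.lt_or_gt_of_ne hne' with h | h
        · exact key i hi j hj h hij
        · exact key j hj i hi h hij.symm
      rw [← Finset.sum_range_add_sum_Ico (fun k => D 1 ((a ^ s k)⁻¹ * c)) (show (r + 1) / 2 ≤ r by omega),
        two_mul]
      refine add_le_add (hDm _ 1 _ (one_pow r) (hinj _ (fun i hi => ?_) ?_))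
        (hDm _ 1 _ (one_pow r) (hinj _ (fun i hi => (Finset.mem_Ico.1 hi).2) ?_))
      · have := Finset.mem_range.1 hi; omega
      · intro i hi j hj hij hd
        have := Finset.mem_range.1 hj
        have := Nat.le_of_dvd (by omega) hd
        omega
      · rintro i hi j hj hij ⟨d, hd⟩
        have := Finset.mem_Ico.1 hi
        have := Finset.mem_Ico.1 hj
        rcases d with _ | _ | d
        · omega
        · omega
        · have : r * 2 ≤ r * (d + 1 + 1) := Nat.mul_le_mul_left r (by omega)
          omega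
    show r * finrank F W ≤ 2 * (r * m)
    calc r * finrank F W ≤ r * (2 * m) := Nat.mul_le_mul_left r hW
      _ = _ := by ring

end Cfsg.Agent.Lib.LocalChar.EigenBound
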