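import Mathlib
/-!
Group theory for elements normalising an extraspecial group times scalars.
-/

set_option autoImplicit false
open scoped commutatorElement

namespace Cfsg.Agent.Lib.LocalChar.EigenBound

/-- The configurations used for the eigenspace bounds. -/
theorem group_cases {X : Type*} [Group X] [Finite X] (R Sc : Subgroup X) [Sc.Normal] (hcen : Sc ≤ Subgroup.center X)
    {r ϖ : ℕ} (hr : r.Prime) (hϖ : ϖ.Prime) (hR : IsPGroup r R) (hZ : Nat.card (Subgroup.center R) = r)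
    (hext : commutator R = Subgroup.center R) (hexp : Monoid.exponent R = r ∨ Monoid.exponent R = 4)
    (schur : ∀ u : X, (∀ x ∈ R, u * x = x * u) → u ∈ Sc) {g : X}
    (hg : g ∈ Subgroup.normalizer ((R ⊔ Sc : Subgroup X) : Set X)) (hord : orderOf g = ϖ) (hns : g ∉ Sc) :
    (∃ e ∈ R, g * e * g⁻¹ * e⁻¹ ∈ Sc ∧ g * e * g⁻¹ * e⁻¹ ≠ 1) ∨
    ((∃ e y : X, y * (g * e * g⁻¹ * e⁻¹) * y⁻¹ * (g * e * g⁻¹ * e⁻¹)⁻¹ ∈ Sc ∧
        y * (g * e * g⁻¹ * e⁻¹) * y⁻¹ * (g * e * g⁻¹ * e⁻¹)⁻¹ ≠ 1) ∧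
      (ϖ ≠ 2 → r ≠ ϖ → ∃ e : X, g * e * g⁻¹ * e * (g * e * g⁻¹)⁻¹ * e⁻¹ ∈ Sc ∧
        (g * e * g⁻¹ * e * (g * e * g⁻¹)⁻¹ * e⁻¹) ^ r = 1 ∧ g * e * g⁻¹ * e * (g * e * g⁻¹)⁻¹ * e⁻¹ ≠ 1) ∧
      (ϖ ≠ 2 → r = ϖ → ∃ e h y : X, h = g * e * g⁻¹ * e⁻¹ ∧ g * h = h * g ∧ h ^ r = 1 ∧
        (y * h * y⁻¹ * h⁻¹ ∈ Sc ∧ (y * h * y⁻¹ * h⁻¹) ^ r = 1 ∧ y * h * y⁻¹ * h⁻¹ ≠ 1) ∧
        (e * h * e⁻¹ * h⁻¹ ∈ Sc ∧ (e * h * e⁻¹ * h⁻¹) ^ r = 1))) := by
  classical
  set N := R ⊔ Sc with hN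
  have hScc : ∀ s ∈ Sc, ∀ a : X, a * s = s * a := fun s hs a =>
    Subgroup.mem_center_iff.1 (hcen hs) a
  have hdec : ∀ a ∈ N, ∃ x ∈ R, ∃ s ∈ Sc, a = x * s := fun a ha => by
    obtain ⟨x, hx, s, hs, rfl⟩ := Subgroup.mem_sup_of_normal_right.1 (hN ▸ ha)
    exact ⟨x, hx, s, hs, rfl⟩
  have hRN : R ≤ N := le_sup_left
  -- commutators of elements of `N` are scalars of `r`-power one
  have hcomm : ∀ a ∈ N, ∀ b ∈ N, a * b * a⁻¹ * b⁻¹ ∈ Sc ∧ (a * b * a⁻¹ * b⁻¹) ^ r = 1 := by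
    intro a ha b hb
    obtain ⟨x, hx, s, hs, rfl⟩ := hdec a ha
    obtain ⟨y, hy, t, ht, rfl⟩ := hdec b hb
    have e : x * s * (y * t) * (x * s)⁻¹ * (y * t)⁻¹ = x * y * x⁻¹ * y⁻¹ := by
      rw [show x * s * (y * t) * (x * s)⁻¹ * (y * t)⁻¹ = x * (s * y) * t * s⁻¹ * x⁻¹ * t⁻¹ * y⁻¹ by group,
        ← hScc s hs y, show x * (y * s) * t * s⁻¹ * x⁻¹ * t⁻¹ * y⁻¹ = x * y * (s * t) * s⁻¹ * x⁻¹ * t⁻¹ * y⁻¹ by group,
        ← hScc t ht s |>.symm, show x * y * (t * s) * s⁻¹ * x⁻¹ * t⁻¹ * y⁻¹ = x * y * (t * x⁻¹) * t⁻¹ * y⁻¹ by group,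
        ← hScc t ht x⁻¹]
      group
    have hz : (⟨x * y * x⁻¹ * y⁻¹, R.mul_mem (R.mul_mem (R.mul_mem hx hy) (R.inv_mem hx)) (R.inv_mem hy)⟩ : R) ∈
        Subgroup.center R := by
      rw [← hext]
      exact Subgroup.commutator_mem_commutator (Subgroup.mem_top (⟨x, hx⟩ : R)) (Subgroup.mem_top (⟨y, hy⟩ : R))
    rw [e]
    refine ⟨schur _ fun w hw => (congrArg Subtype.val (Subgroup.mem_center_iff.1 hz ⟨w, hw⟩)).symm, ?_⟩
    have h1 : (⟨_, hz⟩ : Subgroup.center R) ^ r = 1 := by rw [← hZ]; exact pow_card_eq_one'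
    simpa using congrArg (fun w : Subgroup.center R => ((w : R) : X)) h1
  have hgN : ∀ a ∈ N, g * a * g⁻¹ ∈ N := fun a ha => (Subgroup.mem_normalizer_iff.1 hg a).1 ha
  have hh : ∀ a ∈ N, g * a * g⁻¹ * a⁻¹ ∈ N := fun a ha => N.mul_mem (hgN a ha) (N.inv_mem ha)
  by_cases hI : ∃ e ∈ R, g * e * g⁻¹ * e⁻¹ ∈ Sc ∧ g * e * g⁻¹ * e⁻¹ ≠ 1
  · exact Or.inl hI
  push Not at hI
  obtain ⟨e₀, he₀, hhe₀⟩ : ∃ e ∈ R, g * e * g⁻¹ * e⁻¹ ∉ Sc := by
    by_contra hall
    push Not at hall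
    exact hns (schur g fun x hx => by
      have := hI x hx (hall x hx)
      calc g * x = g * x * g⁻¹ * x⁻¹ * (x * g) := by group
        _ = x * g := by rw [this, one_mul])
  -- a partner for a nonscalar element of `N`
  have hpartner : ∀ h ∈ N, h ∉ Sc → ∃ y ∈ R, y * h * y⁻¹ * h⁻¹ ∈ Sc ∧ y * h * y⁻¹ * h⁻¹ ≠ 1 := by
    intro h hh' hhS
    by_contra hall
    push Not at hall
    exact hhS (schur h fun x hx => by
      have := hall x hx (hcomm x (hRN hx) h hh').1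
      calc h * x = (x * h * x⁻¹ * h⁻¹)⁻¹ * (x * h) := by group
        _ = x * h := by rw [this, inv_one, one_mul])
  refine Or.inr ⟨?_, fun hϖ2 hrϖ => ?_, fun hϖ2 hrϖ => ?_⟩
  · obtain ⟨y, -, hy, hy1⟩ := hpartner _ (hh e₀ (hRN he₀)) hhe₀
    exact ⟨e₀, y, hy, hy1⟩
  · have hgϖ : g ^ ϖ = 1 := hord ▸ pow_orderOf_eq_one g
    obtain ⟨e, he, hne⟩ : ∃ e ∈ R, g * e * g⁻¹ * e * (g * e * g⁻¹)⁻¹ * e⁻¹ ≠ 1 := by
      by_contra hall
      push Not at hall
      refine hhe₀ ?_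
      have hc0 : ∀ e ∈ R, g * e * g⁻¹ * e = e * (g * e * g⁻¹) := fun e he => by
        have := hall e he
        rwa [mul_inv_eq_one, mul_inv_eq_iff_eq_mul] at this
      set a := g * e₀ * g⁻¹
      set b := g⁻¹ * e₀ * g
      have hbN : b ∈ N := (Subgroup.mem_normalizer_iff.1 hg b).2 (by
        rw [show g * b * g⁻¹ = e₀ by simp only [b]; group]; exact hRN he₀)
      -- `[g e₀ g⁻¹, y] = [g⁻¹ e₀ g, y]`
      have hkey : ∀ y ∈ R, a * y * a⁻¹ * y⁻¹ = b * y * b⁻¹ * y⁻¹ := by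
        intro y hy
        set a' := g * y * g⁻¹
        have ha' : a' ∈ N := hgN y (hRN hy)
        have h1 := hc0 (e₀ * y) (R.mul_mem he₀ hy)
        rw [show g * (e₀ * y) * g⁻¹ = a * a' by simp only [a, a']; group] at h1
        have hu := (hcomm a (hgN _ (hRN he₀)) y (hRN hy)).1
        have hw := (hcomm a' ha' e₀ (hRN he₀)).1
        have h2 : (a * y * a⁻¹ * y⁻¹) * (a' * e₀ * a'⁻¹ * e₀⁻¹) = 1 := by
          set u := a * y * a⁻¹ * y⁻¹
          set w := a' * e₀ * a'⁻¹ * e₀⁻¹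
          have e1 : a * a' * (e₀ * y) = u * w * (e₀ * y * (a * a')) := by
            calc a * a' * (e₀ * y) = a * (w * (e₀ * a')) * y := by simp only [w]; group
              _ = (a * w) * e₀ * (a' * y) := by group
              _ = (w * a) * e₀ * (y * a') := by rw [hScc w hw a, show a' * y = y * a' from hc0 y hy]
              _ = w * (a * e₀) * y * a' := by group
              _ = w * (e₀ * a) * y * a' := by rw [show a * e₀ = e₀ * a from hc0 e₀ he₀]
              _ = w * e₀ * (u * (y * a)) * a' := by simp only [u]; group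
              _ = w * (e₀ * u) * (y * a) * a' := by group
              _ = w * (u * e₀) * (y * a) * a' := by rw [hScc u hu e₀]
              _ = (w * u) * (e₀ * y * (a * a')) := by group
              _ = _ := by rw [← hScc w hw u]
          rw [h1] at e1
          exact mul_eq_right.1 e1.symm
        have h3 : g * (y * b * y⁻¹ * b⁻¹) * g⁻¹ = y * b * y⁻¹ * b⁻¹ := by
          rw [hScc _ (hcomm y (hRN hy) b hbN).1 g, mul_inv_cancel_right]
        rw [eq_inv_of_mul_eq_one_left h2]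
        calc (a' * e₀ * a'⁻¹ * e₀⁻¹)⁻¹ = (g * (y * b * y⁻¹ * b⁻¹) * g⁻¹)⁻¹ := by simp only [a', b]; group
          _ = _ := by rw [h3]; group
      have hu : b⁻¹ * a ∈ Sc := schur _ fun y hy => by
        have h1 : a * y * a⁻¹ = b * y * b⁻¹ := mul_right_cancel (hkey y hy)
        calc b⁻¹ * a * y = b⁻¹ * (a * y * a⁻¹) * a := by group
          _ = y * (b⁻¹ * a) := by rw [h1]; group
      set u := b⁻¹ * a
      have hk : ∀ k : ℕ, g ^ (2 * k) * e₀ * (g ^ (2 * k))⁻¹ = e₀ * u ^ k := by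
        intro k
        induction k with
        | zero => simp
        | succ k ih =>
          rw [show 2 * (k + 1) = 2 + 2 * k by ring, pow_add,
            show g ^ 2 * g ^ (2 * k) * e₀ * (g ^ 2 * g ^ (2 * k))⁻¹ = g ^ 2 * (g ^ (2 * k) * e₀ * (g ^ (2 * k))⁻¹) * (g ^ 2)⁻¹ by group,
            ih, show g ^ 2 * (e₀ * u ^ k) * (g ^ 2)⁻¹ = g * a * g⁻¹ * (g ^ 2 * u ^ k * (g ^ 2)⁻¹) by
              simp only [a, pow_two]; group,
            hScc _ (Sc.pow_mem hu k) (g ^ 2), mul_inv_cancel_right, pow_succ']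
          have h2 : g * a * g⁻¹ = g * b * g⁻¹ * (g * u * g⁻¹) := by simp only [u]; group
          rw [h2, hScc u hu g, mul_inv_cancel_right, show g * b * g⁻¹ = e₀ by simp only [b]; group, mul_assoc]
      obtain ⟨m, hm⟩ : ∃ m, ϖ + 1 = 2 * m := by
        obtain ⟨j, hj⟩ := hϖ.odd_of_ne_two hϖ2
        exact ⟨j + 1, by omega⟩
      have h5 := hk m
      rw [← hm, pow_succ, hgϖ, one_mul] at h5
      rw [show a = e₀ * u ^ m from h5, hScc _ (Sc.pow_mem hu m) e₀, mul_inv_cancel_right]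
      exact Sc.pow_mem hu m
    obtain ⟨hS, hr'⟩ := hcomm _ (hgN e (hRN he)) e (hRN he)
    exact ⟨e, hS, hr', hne⟩
  subst hrϖ
  haveI := Fact.mk hr
  set π := QuotientGroup.mk' Sc
  set Q := R.map π
  have hQ : IsPGroup r Q := hR.map π
  have hNQ : ∀ a ∈ N, π a ∈ Q := fun a ha => by
    obtain ⟨x, hx, s, hs, rfl⟩ := hdec a ha
    exact ⟨x, hx, by rw [map_mul, show π s = 1 from (QuotientGroup.eq_one_iff s).2 hs, mul_one]⟩
  have hgQ : Subgroup.zpowers (π g) ≤ Subgroup.normalizer (Q : Set _) := by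
    rw [Subgroup.zpowers_le, Subgroup.mem_normalizer_iff]
    intro q
    constructor
    · rintro ⟨x, hx, rfl⟩
      rw [← map_inv, ← map_mul, ← map_mul]
      exact hNQ _ (hgN x (hRN hx))
    · rintro ⟨x, hx, he⟩
      have : q = π (g⁻¹ * x * g) := by rw [map_mul, map_mul, he, map_inv]; group
      rw [this]
      refine hNQ _ ((Subgroup.mem_normalizer_iff.1 hg _).2 ?_)
      rw [show g * (g⁻¹ * x * g) * g⁻¹ = x by group]; exact hRN hx
  have hgp : IsPGroup r (Subgroup.zpowers g) :=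
    IsPGroup.of_card (n := 1) ((Nat.card_zpowers g).trans (by rw [hord, pow_one]))
  have hgp' : IsPGroup r (Subgroup.zpowers (π g)) := by
    rw [← MonoidHom.map_zpowers]; exact hgp.map π
  have hP : IsPGroup r (Subgroup.zpowers (π g) ⊔ Q : Subgroup _) := hgp'.to_sup_of_normal_right' hQ hgQ
  haveI := hP.isNilpotent
  obtain ⟨k, hk⟩ := nilpotent_iff_lowerCentralSeries.1 hP.isNilpotent
  -- follow iterated commutators
  have hfind : ∀ j : ℕ, ∀ e ∈ R, g * e * g⁻¹ * e⁻¹ ∉ Sc → ∀ hm : π e ∈ (Subgroup.zpowers (π g) ⊔ Q : Subgroup _),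
      (⟨π e, hm⟩ : (Subgroup.zpowers (π g) ⊔ Q : Subgroup _)) ∈ Subgroup.lowerCentralSeries (⊤ : Subgroup _) (k - j) →
      ∃ e ∈ R, g * e * g⁻¹ * e⁻¹ ∉ Sc ∧ g * (g * e * g⁻¹ * e⁻¹) * g⁻¹ * (g * e * g⁻¹ * e⁻¹)⁻¹ ∈ Sc := by
    intro j
    induction j with
    | zero =>
      intro e he hne hm hl
      rw [Nat.sub_zero, hk, Subgroup.mem_bot, Subtype.ext_iff] at hl
      have heS : e ∈ Sc := (QuotientGroup.eq_one_iff e).1 hl
      exact absurd (by rw [hScc e heS g, mul_inv_cancel_right, mul_inv_cancel]; exact Sc.one_mem) hne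
    | succ j ih =>
      intro e he hne hm hl
      by_cases hnext : g * (g * e * g⁻¹ * e⁻¹) * g⁻¹ * (g * e * g⁻¹ * e⁻¹)⁻¹ ∈ Sc
      · exact ⟨e, he, hne, hnext⟩
      obtain ⟨x, hx, s, hs, hxs⟩ := hdec _ (hh e (hRN he))
      have hm' : π x ∈ (Subgroup.zpowers (π g) ⊔ Q : Subgroup _) := Subgroup.mem_sup_right ⟨x, hx, rfl⟩
      refine ih x hx ?_ hm' ?_
      · rw [hxs, show g * (x * s) * g⁻¹ * (x * s)⁻¹ = g * x * (s * g⁻¹) * s⁻¹ * x⁻¹ by group,
          ← hScc s hs g⁻¹, show g * x * (g⁻¹ * s) * s⁻¹ * x⁻¹ = g * x * g⁻¹ * x⁻¹ by group] at hnext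
        exact hnext
      · refine Subgroup.lowerCentralSeries_antitone _ (by omega : k - j ≤ k - (j + 1) + 1) ?_
        rw [Subgroup.lowerCentralSeries_succ]
        have hgm : π g ∈ (Subgroup.zpowers (π g) ⊔ Q : Subgroup _) := Subgroup.mem_sup_left (Subgroup.mem_zpowers _)
        have h1 := Subgroup.commutator_mem_commutator hl (Subgroup.mem_top (⟨π g, hgm⟩ : (Subgroup.zpowers (π g) ⊔ Q : Subgroup _)))
        have h2 := Subgroup.inv_mem _ h1
        convert h2 using 1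
        refine Subtype.ext ?_
        have h3 : π x = π (g * e * g⁻¹ * e⁻¹) := by
          rw [hxs, map_mul, show π s = 1 from (QuotientGroup.eq_one_iff s).2 hs, mul_one]
        simp only [commutatorElement_def, Subgroup.coe_inv, Subgroup.coe_mul, h3, map_mul, map_inv]
        group
  obtain ⟨e, he, hne, hcz⟩ := hfind k e₀ he₀ hhe₀ (Subgroup.mem_sup_right ⟨e₀, he₀, rfl⟩) (by simp)
  set h := g * e * g⁻¹ * e⁻¹ with hh_def
  have hhN : h ∈ N := hh e (hRN he)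
  have hgh : g * h = h * g := by
    obtain ⟨x, hx, s, hs, hxs⟩ := hdec h hhN
    have e1 : g * h * g⁻¹ * h⁻¹ = g * x * g⁻¹ * x⁻¹ := by
      rw [hxs, show g * (x * s) * g⁻¹ * (x * s)⁻¹ = g * x * (s * g⁻¹) * s⁻¹ * x⁻¹ by group,
        ← hScc s hs g⁻¹]; group
    have := hI x hx (e1 ▸ hcz)
    rw [← e1] at this
    calc g * h = g * h * g⁻¹ * h⁻¹ * (h * g) := by group
      _ = h * g := by rw [this, one_mul]
  obtain ⟨y, hy, hyS, hy1⟩ := hpartner h hhN hne
  obtain ⟨hωS, hωr⟩ := hcomm e (hRN he) h hhN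
  have her : e ^ r = 1 := by
    have h1 : (⟨e, he⟩ : R) ^ r = 1 := by
      rcases hexp with h1 | h1
      · rw [← h1]; exact Monoid.pow_exponent_eq_one _
      · exfalso
        have h2 : (r : ℕ) ∣ Monoid.exponent R := by
          obtain ⟨z, hz⟩ := exists_prime_orderOf_dvd_card' (G := Subgroup.center R) r (by rw [hZ])
          rw [← hz, ← Subgroup.orderOf_coe]
          exact Monoid.order_dvd_exponent _
        rw [h1] at h2
        have := Nat.le_of_dvd (by norm_num) h2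
        interval_cases r <;> simp_all (config := {decide := true})
    simpa using congrArg Subtype.val h1
  have hhr : h ^ r = 1 := by
    set w := e * h * e⁻¹ * h⁻¹ with hw
    have hwc : ∀ a, a * w = w * a := hScc w hωS
    have hswap : ∀ j : ℕ, e ^ j * h = w ^ j * (h * e ^ j) := by
      intro j
      induction j with
      | zero => simp
      | succ j ih =>
        calc e ^ (j + 1) * h = e * (e ^ j * h) := by rw [pow_succ', mul_assoc]
          _ = e * w ^ j * (h * e ^ j) := by rw [ih, ← mul_assoc e (w ^ j)]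
          _ = w ^ j * (e * h) * e ^ j := by rw [hScc _ (Sc.pow_mem hωS j) e]; group
          _ = w ^ j * (w * (h * e)) * e ^ j := by rw [show e * h = w * (h * e) by simp only [w]; group]
          _ = w ^ (j + 1) * (h * e ^ (j + 1)) := by rw [pow_succ, pow_succ']; group
    have hpow : ∀ j : ℕ, (h * e) ^ j = w ^ (∑ i ∈ Finset.range j, i) * (h ^ j * e ^ j) := by
      intro j
      induction j with
      | zero => simp
      | succ j ih =>
        calc (h * e) ^ (j + 1) = w ^ (∑ i ∈ Finset.range j, i) * h ^ j * (e ^ j * h) * e := by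
              rw [pow_succ, ih]; group
          _ = w ^ (∑ i ∈ Finset.range j, i) * (h ^ j * w ^ j) * (h * e ^ j) * e := by rw [hswap]; group
          _ = w ^ (∑ i ∈ Finset.range j, i) * (w ^ j * h ^ j) * (h * e ^ j) * e := by
              rw [hScc _ (Sc.pow_mem hωS j) (h ^ j)]
          _ = _ := by rw [Finset.sum_range_succ, pow_add, pow_succ, pow_succ]; group
    have hodd := hϖ.odd_of_ne_two hϖ2
    obtain ⟨j, hj⟩ := hodd
    have hsum : ∑ i ∈ Finset.range r, i = r * j := by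
      have := Finset.sum_range_id_mul_two r
      rw [show r - 1 = 2 * j by omega, ← mul_assoc] at this
      nlinarith
    have := hpow r
    rw [hsum, pow_mul, hωr, one_pow, one_mul, show h * e = g * e * g⁻¹ by simp only [h]; group,
      conj_pow, her, mul_one, mul_one, mul_inv_cancel] at this
    exact this.symm
  exact ⟨e, h, y, rfl, hgh, hhr, ⟨hyS, (hcomm y (hRN hy) h hhN).2, hy1⟩, hωS, hωr⟩

end Cfsg.Agent.Lib.LocalChar.EigenBound
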