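import Mathlib
import Cfsg.Prelude.Def_LocalEven

/-!
# Strong fusion control does not depend on the chosen Sylow subgroup
-/

set_option autoImplicit false

namespace Cfsg.Agent.Lib.LocalChar

open Cfsg Subgroup
open scoped Pointwise

/-- If `W S` is natural in the Sylow subgroup `S` and contained in it, then strong fusion control
by `W S` in some Sylow subgroup gives it in `S`. -/
theorem controlsStrongFusionOf_of_natural {G : Type*} [Group G] [Finite G] {p : ℕ} [Fact p.Prime]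
    (W : Subgroup G → Subgroup G) (hle : ∀ U, W U ≤ U)
    (hmap : ∀ U (g : G), (W U).map (MulAut.conj g).toMonoidHom = W (U.map (MulAut.conj g).toMonoidHom))
    (S : Sylow p G) (h : ControlsStrongFusion p (W (S : Subgroup G)))
    (A : Set G) (hA : A ⊆ (S : Subgroup G)) :
    ControlsStrongFusionOf (normalizer (W (S : Subgroup G) : Set G)) (S : Subgroup G) A := by
  obtain ⟨T, hWT, hT⟩ := h
  obtain ⟨c, hc⟩ := MulAction.exists_smul_eq G S T
  have hTS : (T : Subgroup G) = (S : Subgroup G).map (MulAut.conj c).toMonoidHom := by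
    rw [← hc]; rfl
  have hmem : ∀ x : G, x ∈ (S : Subgroup G) ↔ c * x * c⁻¹ ∈ (T : Subgroup G) := by
    intro x
    rw [hTS]
    constructor
    · exact fun hx => ⟨x, hx, rfl⟩
    · rintro ⟨y, hy, hyx⟩
      simp only [MulEquiv.toMonoidHom_eq_coe, MonoidHom.coe_coe, MulAut.conj_apply] at hyx
      rwa [← show y = x from mul_left_cancel (mul_right_cancel hyx)]
  set X := normalizer (W (S : Subgroup G) : Set G) with hX
  obtain ⟨x, hx, hxc⟩ : ∃ x ∈ X, ∀ a ∈ W (S : Subgroup G), c * a * c⁻¹ = x * a * x⁻¹ := by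
    refine (hT _ hWT).2 c ?_
    rintro _ ⟨a, ha, rfl⟩
    exact (hmem a).1 (hle _ ha)
  have hcX : c ∈ X := by
    have e : (W (S : Subgroup G)).map (MulAut.conj c).toMonoidHom =
        (W (S : Subgroup G)).map (MulAut.conj x).toMonoidHom := by
      ext y
      constructor
      · rintro ⟨a, ha, rfl⟩; exact ⟨a, ha, (hxc a ha).symm⟩
      · rintro ⟨a, ha, rfl⟩; exact ⟨a, ha, hxc a ha⟩
    rw [hX, Subgroup.mem_normalizer_iff_map_conj_eq] at hx ⊢
    exact e.trans hx
  refine ⟨hA, fun g hg => ?_⟩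
  obtain ⟨y, hy, hyA⟩ := (hT ((fun a => c * a * c⁻¹) '' A) (by
    rintro _ ⟨a, ha, rfl⟩; exact (hmem a).1 (hA ha))).2 (c * g * c⁻¹) (by
    rintro _ ⟨_, ⟨a, ha, rfl⟩, rfl⟩
    have := (hmem _).1 (hg ⟨a, ha, rfl⟩)
    show _ ∈ (T : Subgroup G)
    convert this using 1
    group)
  refine ⟨c⁻¹ * y * c, mul_mem (mul_mem (inv_mem hcX) hy) hcX, fun a ha => ?_⟩
  have h1 := hyA _ ⟨a, ha, rfl⟩
  calc g * a * g⁻¹ = c⁻¹ * (c * g * c⁻¹ * (c * a * c⁻¹) * (c * g * c⁻¹)⁻¹) * c := by group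
    _ = c⁻¹ * (y * (c * a * c⁻¹) * y⁻¹) * c := by rw [h1]
    _ = _ := by group

end Cfsg.Agent.Lib.LocalChar
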