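import Mathlib
import Cfsg.Agent.Lib.Qd.ZJFunctor
import Cfsg.Agent.Lib.LocalChar.StrongFusionSylow
import Cfsg.Agent.S2795

/-!
# A single functor controlling strong fusion gives family control; the odd Qd(p)-free case
-/

set_option autoImplicit false

namespace Cfsg.Agent.Lib.LocalChar.FamilyForward

open Subgroup Cfsg Cfsg.Agent.Lib

universe u

variable {G : Type u} [Group G] [Finite G] {p : ℕ} [Fact p.Prime]

theorem familyControls_singleton {W : ∀ (R : Type u) [Group R], Subgroup R}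
    (hW : IsCharPFunctor.{u} p W) (S : Sylow p G)
    (hc : ∀ A : Set G, A ⊆ (S : Subgroup G) → ControlsStrongFusionOf
      (normalizer (inducedFunctor W (S : Subgroup G) : Set G)) (S : Subgroup G) A) :
    FamilyControlsStrongFusionIn p
      ((fun V => inducedFunctor (G := G) V) '' {V | V = W}) ⊤ := by
  refine ⟨(S : Subgroup G), le_top, S.2, by rw [relIndex_top_right]; exact S.not_dvd_index,
    fun A g _ hA hgA => ?_⟩
  obtain ⟨x, hx, hxa⟩ := (hc A hA).2 g hgA
  refine ⟨1, ![1, x], rfl, fun i => ⟨_, ⟨W, rfl, rfl⟩, ?_⟩, fun i => ?_, fun a ha => ?_⟩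
  · fin_cases i
    show x * 1⁻¹ ∈ _
    rw [inv_one, mul_one]
    exact ⟨mem_top x, hx⟩
  · fin_cases i
    · rintro _ ⟨a, ha, rfl⟩
      show 1 * a * 1⁻¹ ∈ (S : Subgroup G)
      rw [one_mul, inv_one, mul_one]
      exact hA ha
    · rintro _ ⟨a, ha, rfl⟩
      show x * a * x⁻¹ ∈ (S : Subgroup G)
      rw [← hxa a ha]
      exact hgA ⟨a, ha, rfl⟩
  · exact (hxa a ha).symm

theorem familyControls_zj (hp : p ≠ 2) (hfree : ¬ Cfsg.Involves ↥(Cfsg.qd p) G) :
    FamilyControlsStrongFusionIn p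
      ((fun V => inducedFunctor (G := G) V) '' {V | V = Qd.zjFun.{u}}) ⊤ := by
  obtain ⟨S⟩ : Nonempty (Sylow p G) := inferInstance
  refine familyControls_singleton (Qd.zjFun_isCharPFunctor p) S fun A hA => ?_
  have h := Qd.controlsStrongFusion_centerThompson hp ((S2795.result hp).1 hfree) S
  rw [Qd.inducedFunctor_zjFun]
  refine controlsStrongFusionOf_of_natural (fun U => centerThompsonAOf U)
    (fun U => ?_) (fun U g => ?_) S h A hA
  · show centerThompsonAOf U ≤ U
    rw [← ZJ.zj_zero_eq]; exact ZJ.zj_le 0 U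
  · show (centerThompsonAOf U).map _ = centerThompsonAOf _
    rw [← ZJ.zj_zero_eq, ← ZJ.zj_zero_eq, ← ZJ.zj_map _ (MulAut.conj g).injective.injOn]

end Cfsg.Agent.Lib.LocalChar.FamilyForward
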