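import Mathlib
import Cfsg.Agent.Lib.Qd.NoControl
import Cfsg.Agent.Lib.Qd.ZJFunctor

/-!
# No family of functors controls strong fusion in Qd(p)
-/

set_option autoImplicit false

namespace Cfsg.Agent.Lib.LocalChar.FamilyQd

open Subgroup Cfsg Cfsg.Agent.Lib

universe u

theorem normalizer_char_eq_of_mulEquiv {F : Type*} [Field F] [Fintype F] (p : ℕ) [Fact p.Prime]
    [CharP F p] {Q : Type*} [Group Q] [Finite Q] (e : Q ≃* Cfsg.qdOver F)
    (S : Sylow p Q) (T : Subgroup (S : Subgroup Q)) (hT : T ≠ ⊥) (hTc : T.Characteristic) :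
    normalizer ((T.map (S : Subgroup Q).subtype : Subgroup Q) : Set Q) =
      normalizer ((S : Subgroup Q) : Set Q) := by
  let S' : Sylow p (Cfsg.qdOver F) := S.mapSurjective (f := e.toMonoidHom) e.surjective
  let σ : (S : Subgroup Q) ≃* (S' : Subgroup (Cfsg.qdOver F)) :=
    (S : Subgroup Q).equivMapOfInjective e.toMonoidHom e.injective
  have hTc' : (T.map σ.toMonoidHom).Characteristic := characteristic_iff_map_le.2 fun φ => by
    rintro _ ⟨_, ⟨x, hx, rfl⟩, rfl⟩
    refine ⟨(σ.trans (φ.trans σ.symm)) x,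
      characteristic_iff_map_le.1 hTc (σ.trans (φ.trans σ.symm)) ⟨x, hx, rfl⟩, ?_⟩
    simp
  have h := (Qd.normalizer_char_eq p S' (T.map σ.toMonoidHom)
    (by rwa [Ne, map_eq_bot_iff_of_injective _ σ.injective]) hTc').1
  have hU : (T.map σ.toMonoidHom).map (S' : Subgroup (Cfsg.qdOver F)).subtype =
      (T.map (S : Subgroup Q).subtype).map e.toMonoidHom := by
    rw [Subgroup.map_map, Subgroup.map_map]; rfl
  rw [hU] at h
  refine map_injective (f := e.toMonoidHom) e.injective ?_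
  exact (map_equiv_normalizer_eq _ e).trans (h.trans (map_equiv_normalizer_eq _ e).symm)

theorem not_familyControls {F : Type*} [Field F] [Fintype F] (p : ℕ) [Fact p.Prime] [CharP F p]
    {Q : Type u} [Group Q] [Finite Q] (e : Q ≃* Cfsg.qdOver F)
    (𝓦 : Set (∀ (R : Type u) [Group R], Subgroup R))
    (h𝓦 : ∀ W ∈ 𝓦, IsCharPFunctor.{u} p W) :
    ¬ FamilyControlsStrongFusionIn p ((fun W => inducedFunctor (G := Q) W) '' 𝓦) ⊤ := by
  rintro ⟨T, -, hT, hidx, hc⟩
  rw [relIndex_top_right] at hidx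
  let S : Sylow p Q := hT.toSylow hidx
  haveI : Nontrivial (S : Subgroup Q) := Qd.sylow_nontrivial p e S
  have hW : ∀ W, IsCharPFunctor.{u} p W →
      W ↥(S : Subgroup Q) ≠ ⊥ ∧ (W ↥(S : Subgroup Q)).Characteristic :=
    fun W hW => ⟨hW.1 _ S.2 inferInstance, Functor.functor_characteristic hW S.2⟩
  obtain ⟨hZ1, hZc⟩ := hW _ (Qd.zjFun_isCharPFunctor p)
  refine Qd.not_controlsStrongFusion_of_mulEquiv p e S _ hZ1 hZc
    ⟨S, map_subtype_le _, fun A hA => ⟨hA, fun g hg => ?_⟩⟩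
  obtain ⟨n, c, hc0, hcs, -, hcl⟩ := hc A g (mem_top g) hA hg
  refine ⟨c (Fin.last n), ?_, fun a ha => (hcl a ha).symm⟩
  rw [normalizer_char_eq_of_mulEquiv p e S _ hZ1 hZc]
  suffices ∀ i, c i ∈ normalizer ((S : Subgroup Q) : Set Q) from this _
  intro i
  induction i using Fin.induction with
  | zero => rw [hc0]; exact one_mem _
  | succ i ih =>
    obtain ⟨_, ⟨W, hW𝓦, rfl⟩, hWi⟩ := hcs i
    obtain ⟨h1, h2⟩ := hW W (h𝓦 W hW𝓦)
    have h3 := hWi.2
    change _ ∈ normalizer (((W ↥(S : Subgroup Q)).map (S : Subgroup Q).subtype : Subgroup Q) : Set Q) at h3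
    rw [normalizer_char_eq_of_mulEquiv p e S _ h1 h2] at h3
    have := mul_mem h3 ih
    rwa [inv_mul_cancel_right] at this

end Cfsg.Agent.Lib.LocalChar.FamilyQd
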