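import Cfsg.Agent.Lib.LocalChar.Core

/-!
The Frattini subgroup lies in every subgroup with elementary abelian quotient.
-/

set_option autoImplicit false

namespace Cfsg.Agent.Lib.LocalChar

open Subgroup
open scoped commutatorElement

universe u

theorem frattini_le_of_elementary {X : Type u} [Group X] [Finite X] {p : ℕ} [hp : Fact p.Prime]
    {N : Subgroup X} (hc : _root_.commutator X ≤ N) (hpow : ∀ x : X, x ^ p ∈ N) :
    frattini X ≤ N := by
  intro x hx
  by_contra hxN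
  obtain ⟨M, hNM, hmax⟩ := (Set.toFinite {M : Subgroup X | N ≤ M ∧ x ∉ M}).exists_le_maximal
    (show N ∈ {M : Subgroup X | N ≤ M ∧ x ∉ M} from ⟨le_rfl, hxN⟩)
  haveI hMn : M.Normal := Subgroup.Normal.of_commutator_le X (hc.trans hmax.prop.1)
  have htop : M ⊔ zpowers x = ⊤ := by
    refine eq_top_iff.mpr fun y _ => ?_
    by_cases hy : y ∈ M
    · exact mem_sup_left hy
    have hx' : x ∈ M ⊔ zpowers y := by
      by_contra hxy
      exact hy (hmax.2 (show M ⊔ zpowers y ∈ {M : Subgroup X | N ≤ M ∧ x ∉ M} from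
        ⟨hmax.prop.1.trans le_sup_left, hxy⟩) le_sup_left (mem_sup_right (mem_zpowers y)))
    rw [← SetLike.mem_coe, Subgroup.normal_mul] at hx'
    obtain ⟨m, hm, z, hz, rfl⟩ := hx'
    obtain ⟨i, rfl⟩ := mem_zpowers_iff.mp hz
    have hyp : y ^ (p : ℤ) ∈ M := by rw [zpow_natCast]; exact hmax.prop.1 (hpow y)
    have hi : ¬ (p : ℤ) ∣ i := by
      rintro ⟨j, rfl⟩
      refine hmax.prop.2 (mul_mem hm ?_)
      rw [zpow_mul]
      exact zpow_mem hyp j
    obtain ⟨a, b, hab⟩ := Int.isCoprime_iff_gcd_eq_one.mpr (show Int.gcd i p = 1 from by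
      have := (Nat.Prime.coprime_iff_not_dvd hp.out).mpr
        (fun h => hi (Int.natCast_dvd.mpr h) : ¬ p ∣ i.natAbs)
      simpa [Int.gcd, Nat.coprime_iff_gcd_eq_one, Nat.gcd_comm] using this)
    have hyi : y ^ i ∈ M ⊔ zpowers (m * y ^ i) := by
      have h := mul_mem (inv_mem (mem_sup_left (T := zpowers (m * y ^ i)) hm))
        (mem_sup_right (S := M) (mem_zpowers (m * y ^ i)))
      simpa using h
    have hy1 : y = (y ^ i) ^ a * (y ^ (p : ℤ)) ^ b := by
      rw [← zpow_mul, ← zpow_mul, ← zpow_add, mul_comm i a, mul_comm (p : ℤ) b, hab, zpow_one]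
    have hgoal : (y ^ i) ^ a * (y ^ (p : ℤ)) ^ b ∈ M ⊔ zpowers (m * y ^ i) :=
      mul_mem (zpow_mem hyi a) (mem_sup_left (zpow_mem hyp b))
    rwa [← hy1] at hgoal
  have hco : IsCoatom M := by
    refine ⟨fun h => hmax.prop.2 (h ▸ mem_top x), fun K hK => ?_⟩
    have hxK : x ∈ K := by
      by_contra hxK
      exact hK.not_ge (hmax.2 (show K ∈ {M : Subgroup X | N ≤ M ∧ x ∉ M} from
        ⟨hmax.prop.1.trans hK.le, hxK⟩) hK.le)
    exact top_le_iff.mp (htop ▸ sup_le hK.le (zpowers_le.mpr hxK))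
  exact hmax.prop.2 (frattini_le_coatom hco hx)

theorem frattini_map_le {G : Type u} [Group G] [Finite G] {p : ℕ} [Fact p.Prime] {P K : Subgroup G}
    (hc : ⁅P, P⁆ ≤ K) (hpow : ∀ a ∈ P, a ^ p ∈ K) : (frattini ↥P).map P.subtype ≤ K := by
  rw [map_le_iff_le_comap]
  refine frattini_le_of_elementary ?_ fun a => hpow a a.2
  rw [← map_le_iff_le_comap, Subgroup.map_subtype_commutator]
  exact hc

end Cfsg.Agent.Lib.LocalChar
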