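import Mathlib
import Cfsg.Agent.Lib.SL2.Basic
import Cfsg.Agent.Lib.LinGroup.SLTwoSylow

/-!
# Modules of `SL₂(2ⁿ)` with a fixed point free element of order three

Higman's theorem, in an elementary form.  If `A` is an abelian group of exponent dividing four on
which `SL₂(K)`, `|K| = 2ⁿ ≥ 4`, acts so that `a + x a + x² a = 0` for `x = w u₁`, then `A` has
exponent two and `A = C ⊕ w C`, `C` the fixed points of the upper unitriangular group, which makes
it a sum of natural modules.  Equivariant biadditive maps between such modules vanish.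
-/

set_option autoImplicit false

namespace Cfsg.Agent.Lib.LocalChar.HigSL2

open Cfsg.Agent.Lib.SL2 (SLtwo upper lower diag weyl)

section Rel

variable {K : Type*} [Field K]

theorem diag_conj_upper (l : Kˣ) (s : K) :
    diag l * upper s = upper ((l : K) * l * s) * diag l := by
  apply SL2.ext_entries <;>
    simp [Matrix.mul_apply, Fin.sum_univ_two]
  field_simp

theorem diag_weyl (l : Kˣ) : diag l * (weyl : SLtwo K) = weyl * diag l⁻¹ := by
  apply SL2.ext_entries <;> simp [Matrix.mul_apply, Fin.sum_univ_two]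

variable [CharP K 2]

theorem weyl_weyl : (weyl : SLtwo K) * weyl = 1 := by
  apply SL2.ext_entries <;> simp [Matrix.mul_apply, Fin.sum_univ_two, CharTwo.neg_eq]

theorem weyl_upper_sq :
    (weyl : SLtwo K) * upper 1 * (weyl * upper 1) = upper 1 * weyl := by
  apply SL2.ext_entries <;>
    simp [Matrix.mul_apply, Fin.sum_univ_two, CharTwo.neg_eq, CharTwo.add_self_eq_zero]

theorem weyl_upper_weyl (s : K) : (weyl : SLtwo K) * upper s * weyl = lower s := by
  apply SL2.ext_entries <;> simp [Matrix.mul_apply, Fin.sum_univ_two, CharTwo.neg_eq]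

theorem exists_sq [Finite K] (s : K) : ∃ l : K, l * l = s := by
  have hinj : Function.Injective fun l : K => l * l := fun a b h => by
    have h' : (a + b) * (a + b) = 0 := by
      have h1 : a * a = b * b := h
      have h2 := CharTwo.add_self_eq_zero (b * b)
      have h3 := CharTwo.add_self_eq_zero (a * b)
      linear_combination h1 + h2 + h3
    exact CharTwo.add_eq_zero.1 (mul_self_eq_zero.1 h')
  exact Finite.injective_iff_surjective.1 hinj s

end Rel

variable {K : Type*} [Field K] [CharP K 2] [Finite K] {A : Type*} [AddCommGroup A]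
  (ρ : SLtwo K →* AddMonoid.End A)

theorem act_mul (g h : SLtwo K) (a : A) : ρ (g * h) a = ρ g (ρ h a) := by
  rw [map_mul]; rfl

theorem act_one (a : A) : ρ 1 a = a := by
  rw [map_one]; rfl

/-- The action of `diag s`, and zero for `s = 0`. -/
noncomputable def sm (s : K) : AddMonoid.End A :=
  haveI := Classical.decEq K
  if h : s = 0 then 0 else ρ (diag (Units.mk0 s h))

theorem sm_zero (a : A) : sm ρ 0 a = 0 := by
  simp [sm]

theorem sm_of_ne {s : K} (h : s ≠ 0) : sm ρ s = ρ (diag (Units.mk0 s h)) := by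
  simp [sm, h]

theorem sm_one (a : A) : sm ρ 1 a = a := by
  rw [sm_of_ne ρ one_ne_zero, show Units.mk0 (1 : K) one_ne_zero = 1 from Units.ext rfl,
    SL2.diag_one, act_one]

theorem sm_mul (s t : K) (a : A) : sm ρ (s * t) a = sm ρ s (sm ρ t a) := by
  by_cases hs : s = 0
  · rw [hs, zero_mul, sm_zero, sm_zero]
  by_cases ht : t = 0
  · rw [ht, mul_zero, sm_zero, map_zero]
  rw [sm_of_ne ρ hs, sm_of_ne ρ ht, sm_of_ne ρ (mul_ne_zero hs ht), ← act_mul, SL2.diag_mul,
    Units.mk0_mul]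

theorem sm_comm (s t : K) (a : A) : sm ρ s (sm ρ t a) = sm ρ t (sm ρ s a) := by
  rw [← sm_mul, ← sm_mul, mul_comm]

theorem sm_inj {s : K} (hs : s ≠ 0) {a : A} (h : sm ρ s a = 0) : a = 0 := by
  rw [← sm_one ρ a, ← inv_mul_cancel₀ hs, sm_mul, h, map_zero]

theorem sm_weyl (s : K) (a : A) : sm ρ s (ρ weyl a) = ρ weyl (sm ρ s⁻¹ a) := by
  by_cases hs : s = 0
  · rw [hs, inv_zero, sm_zero, sm_zero, map_zero]
  rw [sm_of_ne ρ hs, sm_of_ne ρ (inv_ne_zero hs), ← act_mul, ← act_mul, diag_weyl]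
  congr 4
  exact Units.ext rfl

theorem sm_upper {l : K} (hl : l ≠ 0) (s : K) (a : A) :
    sm ρ l (ρ (upper s) a) = ρ (upper (l * l * s)) (sm ρ l a) := by
  rw [sm_of_ne ρ hl, ← act_mul, ← act_mul, diag_conj_upper]
  rfl

theorem act_weyl_weyl (a : A) : ρ weyl (ρ weyl a) = a := by
  rw [← act_mul ρ, weyl_weyl, act_one]

theorem upper_upper (s t : K) (a : A) : ρ (upper s) (ρ (upper t) a) = ρ (upper (s + t)) a := by
  rw [← act_mul, SL2.upper_mul]

theorem upper_zero_apply (a : A) : ρ (upper 0) a = a := by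
  rw [SL2.upper_zero, act_one]

/-- Fixed by the upper unitriangular group and killed by two. -/
def fixTwo : AddSubgroup A where
  carrier := {v | (∀ s, ρ (upper s) v = v) ∧ v + v = 0}
  zero_mem' := ⟨fun _ => map_zero _, add_zero _⟩
  add_mem' := fun {a b} ha hb => ⟨fun s => by rw [map_add, ha.1, hb.1],
    by rw [show a + b + (a + b) = (a + a) + (b + b) by abel, ha.2, hb.2, add_zero]⟩
  neg_mem' := fun {a} ha => ⟨fun s => by rw [map_neg, ha.1],
    by rw [← neg_add, ha.2, neg_zero]⟩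

theorem neg_fixTwo {c : A} (hc : c ∈ fixTwo ρ) : -c = c :=
  neg_eq_of_add_eq_zero_left hc.2

theorem fixTwo_sm (s : K) {c : A} (hc : c ∈ fixTwo ρ) : sm ρ s c ∈ fixTwo ρ := by
  by_cases hs : s = 0
  · rw [hs, sm_zero]; exact zero_mem _
  refine ⟨fun t => ?_, by rw [← map_add, hc.2, map_zero]⟩
  rw [show t = s * s * (t / (s * s)) by field_simp, ← sm_upper ρ hs, hc.1]

/-- `C + w C`. -/
def nat : AddSubgroup A where
  carrier := {a | ∃ c ∈ fixTwo ρ, ∃ e ∈ fixTwo ρ, a = c + ρ weyl e}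
  zero_mem' := ⟨0, zero_mem _, 0, zero_mem _, by simp⟩
  add_mem' := by
    rintro _ _ ⟨c, hc, e, he, rfl⟩ ⟨c', hc', e', he', rfl⟩
    exact ⟨c + c', add_mem hc hc', e + e', add_mem he he', by rw [map_add]; abel⟩
  neg_mem' := by
    rintro _ ⟨c, hc, e, he, rfl⟩
    exact ⟨-c, neg_mem hc, -e, neg_mem he, by rw [map_neg]; abel⟩

/-- `v` is fixed by the upper group modulo `C + w C`. -/
def Top (v : A) : Prop := ∀ s, ρ (upper s) v - v ∈ nat ρ

/-- The hypothesis on the element of order three. -/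
def Fpf : Prop := ∀ a : A, a + ρ weyl (ρ (upper 1) a) + ρ (upper 1) (ρ weyl a) = 0

variable {ρ}
variable (hx : Fpf ρ)
include hx

theorem upper_weyl_fix (s : K) {c : A} (hc : c ∈ fixTwo ρ) :
    ρ (upper s) (ρ weyl c) = sm ρ s c + ρ weyl c := by
  by_cases hs : s = 0
  · rw [hs, upper_zero_apply, sm_zero, zero_add]
  obtain ⟨l, rfl⟩ := exists_sq s
  have hl : l ≠ 0 := fun h => hs (by rw [h, mul_zero])
  have hlc := fixTwo_sm ρ l hc
  have h1 : ρ weyl c = sm ρ l (ρ weyl (sm ρ l c)) := by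
    rw [sm_weyl, ← sm_mul, inv_mul_cancel₀ hl, sm_one]
  have h2 : ρ (upper 1) (ρ weyl (sm ρ l c)) = sm ρ l c + ρ weyl (sm ρ l c) := by
    have h := hx (sm ρ l c)
    rw [hlc.1] at h
    rw [eq_neg_of_add_eq_zero_right h, neg_add, neg_fixTwo ρ hlc, ← map_neg, neg_fixTwo ρ hlc]
  calc ρ (upper (l * l)) (ρ weyl c) = sm ρ l (ρ (upper 1) (ρ weyl (sm ρ l c))) := by
        rw [sm_upper ρ hl, ← h1, mul_one]
    _ = _ := by rw [h2, map_add, ← h1, sm_mul]

theorem sm_add (s t : K) {c : A} (hc : c ∈ fixTwo ρ) :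
    sm ρ (s + t) c = sm ρ s c + sm ρ t c := by
  have h := upper_weyl_fix hx (s + t) hc
  rw [← upper_upper, upper_weyl_fix hx t hc, map_add, upper_weyl_fix hx s hc,
    (fixTwo_sm ρ t hc).1] at h
  exact (add_right_cancel (b := ρ weyl c) (by rw [← h]; abel)).symm

theorem eq_zero_of_both {c e : A} (hc : c ∈ fixTwo ρ) (he : e ∈ fixTwo ρ)
    (h : c + ρ weyl e = 0) : c = 0 ∧ e = 0 := by
  have h1 := congrArg (ρ (upper 1)) h
  rw [map_add, map_zero, hc.1, upper_weyl_fix hx 1 he, sm_one] at h1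
  have he0 : e = 0 := by
    linear_combination (norm := abel) h1 - h
  rw [he0, map_zero, add_zero] at h
  exact ⟨h, he0⟩

theorem nat_upper (s : K) {c e : A} (hc : c ∈ fixTwo ρ) (he : e ∈ fixTwo ρ) :
    ρ (upper s) (c + ρ weyl e) - (c + ρ weyl e) = sm ρ s e := by
  rw [map_add, hc.1, upper_weyl_fix hx s he]
  abel

theorem nat_sm (l : K) {a : A} (ha : a ∈ nat ρ) : sm ρ l a ∈ nat ρ := by
  obtain ⟨c, hc, e, he, rfl⟩ := ha
  exact ⟨_, fixTwo_sm ρ l hc, _, fixTwo_sm ρ l⁻¹ he, by rw [map_add, sm_weyl]⟩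

theorem diff_sm {l : K} (hl : l ≠ 0) (s : K) (v : A) :
    ρ (upper s) (sm ρ l v) - sm ρ l v = sm ρ l (ρ (upper (s / (l * l))) v - v) := by
  rw [map_sub, sm_upper ρ hl, show l * l * (s / (l * l)) = s by field_simp]

theorem Top.sm {v : A} (hv : Top ρ v) {l : K} (hl : l ≠ 0) : Top ρ (sm ρ l v) := fun s => by
  rw [diff_sm hx hl]
  exact nat_sm hx l (hv _)

theorem diff_one {v : A} (hv : Top ρ v) : ρ (upper 1) v - v ∈ fixTwo ρ := by
  obtain ⟨c, hc, e, he, hf⟩ := hv 1
  have hu : ρ (upper 1) v = v + (c + ρ weyl e) := by rw [← hf]; abel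
  have h1 : ρ (upper 1) (ρ weyl v) = -(v + ρ weyl (v + (c + ρ weyl e))) := by
    have h := hx v
    rw [hu] at h
    exact eq_neg_of_add_eq_zero_right h
  have h2 := congrArg (ρ (upper 1)) h1
  rw [upper_upper, CharTwo.add_self_eq_zero, upper_zero_apply, map_neg, map_add, hu] at h2
  simp only [map_add, act_weyl_weyl, upper_weyl_fix hx 1 hc, sm_one, h1, he.1] at h2
  have he0 : ρ weyl e = 0 := by
    linear_combination (norm := abel) h2 - hc.2
  rw [hf, he0, add_zero]
  exact hc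

theorem diff_mem {v : A} (hv : Top ρ v) (s : K) : ρ (upper s) v - v ∈ fixTwo ρ := by
  by_cases hs : s = 0
  · rw [hs, upper_zero_apply, sub_self]; exact zero_mem _
  obtain ⟨l, rfl⟩ := exists_sq s
  have hl : l ≠ 0 := fun h => hs (by rw [h, mul_zero])
  have h := diff_one hx (hv.sm hx (inv_ne_zero hl))
  rw [diff_sm hx (inv_ne_zero hl)] at h
  have h' := fixTwo_sm ρ l h
  rwa [← sm_mul, mul_inv_cancel₀ hl, sm_one,
    show (1 : K) / (l⁻¹ * l⁻¹) = l * l by field_simp] at h'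

theorem diff_add {v : A} (hv : Top ρ v) (s t : K) :
    ρ (upper (s + t)) v - v = (ρ (upper s) v - v) + (ρ (upper t) v - v) := by
  have h := (diff_mem hx hv t).1 s
  rw [map_sub, upper_upper] at h
  rw [← h]
  abel

theorem upper_weyl {v : A} (hv : Top ρ v) {s : K} (hs : s ≠ 0) :
    ρ (upper s) (ρ weyl v) =
      -sm ρ s v - ρ weyl v + ρ weyl (ρ (upper s⁻¹) v - v) := by
  obtain ⟨l, rfl⟩ := exists_sq s
  have hl : l ≠ 0 := fun h => hs (by rw [h, mul_zero])
  have h1 : ρ weyl v = sm ρ l (ρ weyl (sm ρ l v)) := by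
    rw [sm_weyl, ← sm_mul, inv_mul_cancel₀ hl, sm_one]
  set g := ρ (upper (l * l)⁻¹) v - v with hg
  have hgf : g ∈ fixTwo ρ := diff_mem hx hv _
  have h2 : sm ρ l⁻¹ (ρ (upper 1) (sm ρ l v)) = v + g := by
    rw [sm_upper ρ (inv_ne_zero hl), ← sm_mul, inv_mul_cancel₀ hl, sm_one, hg,
      show l⁻¹ * l⁻¹ * 1 = (l * l)⁻¹ by rw [mul_one, mul_inv]]
    abel
  calc ρ (upper (l * l)) (ρ weyl v) = sm ρ l (ρ (upper 1) (ρ weyl (sm ρ l v))) := by
        rw [sm_upper ρ hl, ← h1, mul_one]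
    _ = sm ρ l (-(sm ρ l v + ρ weyl (ρ (upper 1) (sm ρ l v)))) := by
        rw [eq_neg_of_add_eq_zero_right (hx (sm ρ l v))]
    _ = -(sm ρ (l * l) v + ρ weyl (v + g)) := by
        rw [map_neg, map_add, sm_mul, sm_weyl, h2]
    _ = _ := by
        rw [map_add]
        have h3 : ρ weyl g + ρ weyl g = 0 := by rw [← map_add, hgf.2, map_zero]
        linear_combination (norm := abel) -h3

variable (h4 : ∀ a : A, a + a + (a + a) = 0)
include h4

theorem double_mem {v : A} (hv : Top ρ v) : v + v ∈ fixTwo ρ := by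
  refine ⟨fun s => ?_, h4 v⟩
  have h := (diff_mem hx hv s).2
  rw [map_add]
  linear_combination (norm := abel) h

/-- The basic identity. -/
theorem key {v : A} (hv : Top ρ v) {s t : K} (hs : s ≠ 0) (ht : t ≠ 0) (hr : s + t ≠ 0) :
    sm ρ (s + t) v + sm ρ t v - sm ρ s v =
      ((ρ (upper t) (sm ρ s v) - sm ρ s v) + sm ρ t (ρ (upper s⁻¹) v - v)) +
      ρ weyl ((v + v) + ((ρ (upper s⁻¹) v - v) + (ρ (upper t⁻¹) v - v) +
        (ρ (upper (s + t)⁻¹) v - v))) := by
  set gs := ρ (upper s⁻¹) v - v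
  set gt := ρ (upper t⁻¹) v - v
  set gr := ρ (upper (s + t)⁻¹) v - v
  have hgs : gs ∈ fixTwo ρ := diff_mem hx hv _
  have h : ρ (upper t) (ρ (upper s) (ρ weyl v)) = ρ (upper (s + t)) (ρ weyl v) := by
    rw [upper_upper, add_comm t s]
  rw [upper_weyl hx hv hr, upper_weyl hx hv hs, map_add, map_sub, map_neg,
    upper_weyl hx hv ht, upper_weyl_fix hx t hgs] at h
  have h5 := (fixTwo_sm ρ t hgs).2
  have h6 : ρ weyl gs + ρ weyl gs = 0 := by rw [← map_add, hgs.2, map_zero]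
  have h7 : ρ weyl (v + v) + ρ weyl (v + v) = 0 := by rw [← map_add, h4, map_zero]
  rw [map_add] at h7
  simp only [map_add]
  linear_combination (norm := abel) h - h5 - h6 - h7

theorem key_scaled {v : A} (hv : Top ρ v) {s t ν : K} (hs : s ≠ 0) (ht : t ≠ 0)
    (hr : s + t ≠ 0) (hν : ν ≠ 0) :
    (ρ (upper (ν * (s⁻¹ + t⁻¹ + (s + t)⁻¹))) v - v) +
        sm ρ ν (ρ (upper (s⁻¹ + t⁻¹ + (s + t)⁻¹)) v - v) =
      (v + v) + sm ρ ν (v + v) := by
  obtain ⟨m, hm⟩ := exists_sq ν⁻¹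
  have hm0 : m ≠ 0 := fun h => inv_ne_zero hν (by rw [← hm, h, mul_zero])
  have hν' : ν = (m * m)⁻¹ := by rw [hm, inv_inv]
  have hv' := hv.sm hx hm0
  have hD := double_mem hx h4 hv
  have hD' := double_mem hx h4 hv'
  have k1 := key hx h4 hv hs ht hr
  have k2 := key hx h4 hv' hs ht hr
  set e1 := (v + v) + ((ρ (upper s⁻¹) v - v) + (ρ (upper t⁻¹) v - v) +
    (ρ (upper (s + t)⁻¹) v - v)) with he1
  set e2 := (sm ρ m v + sm ρ m v) + ((ρ (upper s⁻¹) (sm ρ m v) - sm ρ m v) +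
    (ρ (upper t⁻¹) (sm ρ m v) - sm ρ m v) +
    (ρ (upper (s + t)⁻¹) (sm ρ m v) - sm ρ m v)) with he2
  have he1m : e1 ∈ fixTwo ρ :=
    add_mem hD (add_mem (add_mem (diff_mem hx hv _) (diff_mem hx hv _)) (diff_mem hx hv _))
  have he2m : e2 ∈ fixTwo ρ :=
    add_mem hD' (add_mem (add_mem (diff_mem hx hv' _) (diff_mem hx hv' _)) (diff_mem hx hv' _))
  have c1 := add_mem (diff_mem hx (hv.sm hx hs) t) (fixTwo_sm ρ t (diff_mem hx hv s⁻¹))
  have c2 := add_mem (diff_mem hx (hv'.sm hx hs) t) (fixTwo_sm ρ t (diff_mem hx hv' s⁻¹))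
  -- the coefficient of `w` is a difference
  have hn : sm ρ (s + t) (sm ρ m v) + sm ρ t (sm ρ m v) - sm ρ s (sm ρ m v) =
      sm ρ m (sm ρ (s + t) v + sm ρ t v - sm ρ s v) := by
    simp only [map_add, map_sub, sm_comm ρ _ m]
  have h2 := nat_upper hx 1 c2 he2m
  rw [← k2, hn, diff_sm hx hm0, k1, nat_upper hx _ c1 he1m, sm_one, ← sm_mul,
    show m * (1 / (m * m)) = m⁻¹ by field_simp] at h2
  have h3 := congrArg (sm ρ m⁻¹) h2
  rw [← sm_mul, show m⁻¹ * m⁻¹ = ν by rw [hν', mul_inv]] at h3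
  have hgm : ∀ y : K, sm ρ m⁻¹ (ρ (upper y) (sm ρ m v) - sm ρ m v) =
      ρ (upper (ν * y)) v - v := fun y => by
    rw [diff_sm hx hm0, ← sm_mul, inv_mul_cancel₀ hm0, sm_one,
      show y / (m * m) = ν * y by rw [hν', div_eq_inv_mul]]
  simp only [he1, he2, map_add, hgm, ← sm_mul, inv_mul_cancel₀ hm0, sm_one] at h3
  simp only [mul_add, diff_add hx hv, map_add]
  have d1 := (diff_mem hx hv (ν * s⁻¹)).2
  have d2 := (diff_mem hx hv (ν * t⁻¹)).2
  have d3 := (diff_mem hx hv (ν * (s + t)⁻¹)).2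
  have d4 := hD.2
  have d5 := (fixTwo_sm ρ ν hD).2
  rw [map_add] at d5
  linear_combination (norm := abel) h3 + d1 + d2 + d3 - d5

variable (hK : ∃ a : K, a ≠ 0 ∧ a ≠ 1)
include hK

/-- Such a `v` is killed by two and its cocycle is linear. -/
theorem top_linear {v : A} (hv : Top ρ v) :
    v + v = 0 ∧ ∀ s, ρ (upper s) v - v = sm ρ s (ρ (upper 1) v - v) := by
  set g : K → A := fun s => ρ (upper s) v - v with hg
  have gadd : ∀ s t, g (s + t) = g s + g t := diff_add hx hv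
  have g0 : g 0 = 0 := by simp only [hg, upper_zero_apply, sub_self]
  have gmem : ∀ s, g s ∈ fixTwo ρ := diff_mem hx hv
  have hD := double_mem hx h4 hv
  -- for a pair `1, a`
  have pair : ∀ a : K, a ≠ 0 → a ≠ 1 → ∀ ν : K, ν ≠ 0 →
      (v + v) + sm ρ ν (v + v) = 0 ∧
        (1 + a⁻¹ + (1 + a)⁻¹ ≠ 0 → g ν = sm ρ ν (g 1)) := by
    intro a ha0 ha1 ν hν
    have h1a : 1 + a ≠ 0 := fun h => ha1 (CharTwo.add_eq_zero.1 h).symm
    set E := (v + v) + sm ρ ν (v + v) with hE
    have hEm : E ∈ fixTwo ρ := add_mem hD (fixTwo_sm ρ ν hD)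
    have hG : ∀ z : K, z ≠ 0 →
        g (ν * ((1 + a⁻¹ + (1 + a)⁻¹) * z)) + sm ρ ν (g ((1 + a⁻¹ + (1 + a)⁻¹) * z)) = E := by
      intro z hz
      have hz' := inv_ne_zero hz
      have h := key_scaled hx h4 hv (s := z⁻¹) (t := z⁻¹ * a) hz' (mul_ne_zero hz' ha0)
        (by rw [show z⁻¹ + z⁻¹ * a = z⁻¹ * (1 + a) by ring]; exact mul_ne_zero hz' h1a) hν
      have he : (z⁻¹)⁻¹ + (z⁻¹ * a)⁻¹ + (z⁻¹ + z⁻¹ * a)⁻¹ = (1 + a⁻¹ + (1 + a)⁻¹) * z := by
        rw [show z⁻¹ + z⁻¹ * a = z⁻¹ * (1 + a) by ring]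
        field_simp
      rw [he] at h
      exact h
    by_cases h0 : 1 + a⁻¹ + (1 + a)⁻¹ = 0
    · have h := hG 1 one_ne_zero
      rw [h0, zero_mul, mul_zero, g0, map_zero, add_zero] at h
      exact ⟨h.symm, fun hne => absurd h0 hne⟩
    · have hall : ∀ y : K, y ≠ 0 → g (ν * y) + sm ρ ν (g y) = E := fun y hy => by
        have h := hG (y / (1 + a⁻¹ + (1 + a)⁻¹)) (div_ne_zero hy h0)
        rwa [mul_div_cancel₀ _ h0] at h
      have e1 := hall 1 one_ne_zero
      have e2 := hall a ha0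
      have e3 := hall (1 + a) h1a
      rw [mul_add, gadd, gadd, map_add] at e3
      have hE0 : E = 0 := by
        linear_combination (norm := abel) e3 - e1 - e2
      refine ⟨hE0, fun _ => ?_⟩
      rw [hE0, mul_one] at e1
      rw [eq_neg_of_add_eq_zero_left e1, neg_fixTwo ρ (fixTwo_sm ρ ν (gmem 1))]
  obtain ⟨a, ha0, ha1⟩ := hK
  have hv2 : v + v = 0 := by
    have h := (pair a ha0 ha1 a ha0).1
    nth_rewrite 1 [← sm_one ρ (v + v)] at h
    rw [← sm_add hx 1 a hD] at h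
    exact sm_inj ρ (fun h' => ha1 (CharTwo.add_eq_zero.1 h').symm) h
  refine ⟨hv2, fun s => ?_⟩
  show g s = sm ρ s (g 1)
  by_cases hs0 : s = 0
  · rw [hs0, g0, sm_zero]
  by_cases hs1 : s = 1
  · rw [hs1, sm_one]
  by_cases h0 : 1 + s⁻¹ + (1 + s)⁻¹ = 0
  · -- symmetry of the basic identity
    have h1s : 1 + s ≠ 0 := fun h => hs1 (CharTwo.add_eq_zero.1 h).symm
    have hq : s * s + s + 1 = 0 := by
      field_simp at h0
      linear_combination h0 - s * CharTwo.two_eq_zero (R := K)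
    have k1 := key hx h4 hv hs0 one_ne_zero (by rwa [add_comm])
    have k2 := key hx h4 hv one_ne_zero hs0 h1s
    have hsv : sm ρ s v + sm ρ s v = 0 := by rw [← map_add, hv2, map_zero]
    have g1s : ρ (upper 1) (sm ρ s v) - sm ρ s v = sm ρ s (g (1 / (s * s))) := diff_sm hx hs0 1 v
    rw [sm_one, sm_one, g1s, add_comm s 1, inv_one] at k1
    simp only [sm_one, inv_one] at k2
    have es : 1 / (s * s) = s := by
      field_simp
      linear_combination -(s - 1) * hq
    have ei : s⁻¹ = s + 1 := by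
      field_simp
      linear_combination -hq + CharTwo.two_eq_zero (R := K)
    rw [es] at k1
    have hsum : sm ρ s (g s) + g s⁻¹ = g s + sm ρ s (g 1) := by
      simp only [hg] at k1 k2 ⊢
      simp only [map_add] at k1 k2
      linear_combination (norm := abel) -k1 + k2 - hsv + hv2
    rw [ei, gadd] at hsum
    have h : sm ρ s (g s) + g 1 = sm ρ s (g 1) := by
      linear_combination (norm := abel) hsum
    -- apply `s⁻¹ = s + 1`
    have h' : sm ρ s (g s) = g 1 + sm ρ s (g 1) := by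
      linear_combination (norm := abel) h + (gmem 1).2 - (gmem 1).2 + (gmem 1).2 - (gmem 1).2 -
        (gmem 1).2
    nth_rewrite 1 [← sm_one ρ (g 1)] at h'
    rw [← sm_add hx 1 s (gmem 1), show 1 + s = s * s by
      linear_combination -hq + (1 + s) * CharTwo.two_eq_zero (R := K), sm_mul] at h'
    exact sub_eq_zero.1 (sm_inj ρ hs0 (by rw [map_sub, h', sub_self]))
  · exact (pair s hs0 hs1 s hs0).2 h0

variable [Finite A]

/-- `A` has exponent two and is `C + w C`. -/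
theorem nat_eq_top : nat ρ = ⊤ := by
  classical
  by_contra hne
  haveI hNn : Nontrivial (A ⧸ nat ρ) := QuotientAddGroup.nontrivial_iff.2 hne
  have hinv : ∀ s, nat ρ ≤ (nat ρ).comap (ρ (upper s)) := by
    rintro s _ ⟨c, hc, e, he, rfl⟩
    have h := nat_upper hx s hc he
    rw [sub_eq_iff_eq_add] at h
    exact (h.symm ▸ add_mem ⟨_, fixTwo_sm ρ s he, 0, zero_mem _, by simp⟩ ⟨c, hc, e, he, rfl⟩ :
      ρ (upper s) (c + ρ weyl e) ∈ nat ρ)
  let act : K → (A ⧸ nat ρ) →+ (A ⧸ nat ρ) := fun s =>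
    QuotientAddGroup.map _ _ (ρ (upper s)) (hinv s)
  letI : MulAction (Multiplicative K) (A ⧸ nat ρ) :=
    { smul := fun s q => act s.toAdd q
      one_smul := fun q => by
        induction q using QuotientAddGroup.induction_on with
        | H a => exact congrArg QuotientAddGroup.mk (upper_zero_apply ρ a)
      mul_smul := fun s t q => by
        induction q using QuotientAddGroup.induction_on with
        | H a => exact congrArg QuotientAddGroup.mk (upper_upper ρ s.toAdd t.toAdd a).symm }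
  have hP : IsPGroup 2 (Multiplicative K) := fun s => ⟨1, by
    rw [pow_one, sq]
    exact congrArg Multiplicative.ofAdd (CharTwo.add_self_eq_zero s.toAdd)⟩
  have h2 : 2 ∣ Nat.card (A ⧸ nat ρ) := by
    obtain ⟨r, hr, hrd⟩ := Nat.exists_prime_and_dvd (Finite.one_lt_card (α := A ⧸ nat ρ)).ne'
    haveI : Fact r.Prime := ⟨hr⟩
    obtain ⟨q, hq⟩ := exists_prime_addOrderOf_dvd_card' r hrd
    have hq4 : (4 : ℕ) • q = 0 := by
      obtain ⟨a, rfl⟩ := QuotientAddGroup.mk_surjective q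
      rw [← QuotientAddGroup.mk_nsmul, show (4 : ℕ) • a = 0 by
        rw [show (4 : ℕ) • a = a + a + (a + a) by abel, h4], QuotientAddGroup.mk_zero]
    have h := addOrderOf_dvd_of_nsmul_eq_zero hq4
    rw [hq] at h
    have hr2 : r = 2 := (Nat.prime_dvd_prime_iff_eq hr Nat.prime_two).1
      (hr.dvd_of_dvd_pow (n := 2) (by simpa using h))
    exact hr2 ▸ hrd
  obtain ⟨b, hb, hb0⟩ := hP.exists_fixed_point_of_prime_dvd_card_of_fixed_point (A ⧸ nat ρ) h2
    (a := 0) (fun s => map_zero (act s.toAdd))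
  obtain ⟨v, rfl⟩ := QuotientAddGroup.mk_surjective b
  have hv : Top ρ v := fun s => by
    rw [← QuotientAddGroup.eq_iff_sub_mem]
    exact hb (Multiplicative.ofAdd s)
  obtain ⟨hv2, hlin⟩ := top_linear hx h4 hK hv
  set g := ρ (upper 1) v - v
  have hg : g ∈ fixTwo ρ := diff_mem hx hv 1
  have hgW : ρ weyl g + ρ weyl g = 0 := by rw [← map_add, hg.2, map_zero]
  have hv' : v + ρ weyl g ∈ fixTwo ρ := by
    refine ⟨fun s => ?_, by linear_combination (norm := abel) hv2 + hgW⟩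
    rw [map_add, upper_weyl_fix hx s hg]
    have h := hlin s
    have h' := (fixTwo_sm ρ s hg).2
    linear_combination (norm := abel) h + h'
  refine hb0 (((QuotientAddGroup.eq_zero_iff v).2 ?_).symm)
  rw [show v = (v + ρ weyl g) + ρ weyl g by linear_combination (norm := abel) -hgW]
  exact ⟨_, hv', _, hg, rfl⟩

/-- The exponent is two. -/
theorem add_self (a : A) : a + a = 0 := by
  obtain ⟨c, hc, e, he, rfl⟩ :=
    ((nat_eq_top hx h4 hK).symm ▸ AddSubgroup.mem_top a : a ∈ nat ρ)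
  rw [show c + ρ weyl e + (c + ρ weyl e) = (c + c) + ρ weyl (e + e) by rw [map_add]; abel,
    hc.2, he.2, map_zero, add_zero]

/-- A sum of natural modules. -/
theorem exists_coords : ∃ (k : ℕ) (π : A ≃+ (Fin k → Fin 2 → K)),
    ∀ (g : SLtwo K) (a : A) (i : Fin k),
      π (ρ g a) i = (g : Matrix (Fin 2) (Fin 2) K).mulVec (π a i) := by
  classical
  have hall : ∀ a : A, ∃ c ∈ fixTwo ρ, ∃ e ∈ fixTwo ρ, a = c + ρ weyl e := fun a =>
    ((nat_eq_top hx h4 hK).symm ▸ AddSubgroup.mem_top a : a ∈ nat ρ)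
  letI : Module K (fixTwo ρ) :=
    { smul := fun s c => ⟨sm ρ s c.1, fixTwo_sm ρ s c.2⟩
      one_smul := fun c => Subtype.ext (sm_one ρ c.1)
      mul_smul := fun s t c => Subtype.ext (sm_mul ρ s t c.1)
      smul_zero := fun s => Subtype.ext (map_zero (sm ρ s))
      smul_add := fun s c d => Subtype.ext (map_add (sm ρ s) c.1 d.1)
      add_smul := fun s t c => Subtype.ext (sm_add hx s t c.2)
      zero_smul := fun c => Subtype.ext (sm_zero ρ c.1) }
  haveI : Module.Finite K (fixTwo ρ) := Module.Finite.of_finite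
  let b := Module.finBasis K (fixTwo ρ)
  have p1e : ∀ (s : K) {c e : A}, c ∈ fixTwo ρ → e ∈ fixTwo ρ →
      ρ (upper s) (c + ρ weyl e) - (c + ρ weyl e) = sm ρ s e := fun s _ _ hc he =>
    nat_upper hx s hc he
  have hmem : ∀ a : A, ρ (upper 1) a - a ∈ fixTwo ρ := fun a => by
    obtain ⟨c, hc, e, he, rfl⟩ := hall a
    rw [p1e 1 hc he, sm_one]
    exact he
  let p : A →+ fixTwo ρ :=
    { toFun := fun a => ⟨ρ (upper 1) a - a, hmem a⟩
      map_zero' := Subtype.ext (by simp)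
      map_add' := fun x y => Subtype.ext (by
        show ρ (upper 1) (x + y) - (x + y) = (ρ (upper 1) x - x) + (ρ (upper 1) y - y)
        rw [map_add]; abel) }
  have pval : ∀ {c e : A}, c ∈ fixTwo ρ → ∀ he : e ∈ fixTwo ρ,
      p (c + ρ weyl e) = ⟨e, he⟩ := fun hc he => Subtype.ext (by
    show _ - _ = _
    rw [p1e 1 hc he, sm_one])
  have pw : ∀ {c e : A}, ∀ hc : c ∈ fixTwo ρ, e ∈ fixTwo ρ →
      p (ρ weyl (c + ρ weyl e)) = ⟨c, hc⟩ := fun hc he => by
    rw [map_add (ρ weyl), act_weyl_weyl, add_comm]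
    exact pval he hc
  let π₀ : A →+ (Fin (Module.finrank K (fixTwo ρ)) → Fin 2 → K) :=
    { toFun := fun a i => ![b.repr (p (ρ weyl a)) i, b.repr (p a) i]
      map_zero' := by ext i j; fin_cases j <;> simp
      map_add' := fun x y => by ext i j; fin_cases j <;> simp }
  have hbij : Function.Bijective π₀ := by
    refine ⟨(injective_iff_map_eq_zero π₀).2 fun a ha => ?_, fun f => ?_⟩
    · obtain ⟨c, hc, e, he, rfl⟩ := hall a
      have h0 : ∀ i j, ![b.repr (⟨c, hc⟩ : fixTwo ρ) i, b.repr (⟨e, he⟩ : fixTwo ρ) i] j = 0 :=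
        fun i j => by
          have h := congrFun (congrFun ha i) j
          rw [← pw hc he, ← pval hc he]
          exact h
      have hc0 : (⟨c, hc⟩ : fixTwo ρ) = 0 := b.repr.injective (by
        ext i; simpa using h0 i 0)
      have he0 : (⟨e, he⟩ : fixTwo ρ) = 0 := b.repr.injective (by
        ext i; simpa using h0 i 1)
      rw [show c = 0 from congrArg Subtype.val hc0, show e = 0 from congrArg Subtype.val he0]
      simp
    · set c : fixTwo ρ := b.equivFun.symm fun i => f i 0 with hcdef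
      set e : fixTwo ρ := b.equivFun.symm fun i => f i 1 with hedef
      refine ⟨(c : A) + ρ weyl e, ?_⟩
      funext i j
      show ![b.repr (p (ρ weyl ((c : A) + ρ weyl e))) i, b.repr (p ((c : A) + ρ weyl e)) i] j = _
      rw [pw c.2 e.2, pval c.2 e.2]
      fin_cases j
      · have h := congrFun (b.equivFun.apply_symm_apply fun i => f i 0) i
        rw [← hcdef] at h
        simpa using h
      · have h := congrFun (b.equivFun.apply_symm_apply fun i => f i 1) i
        rw [← hedef] at h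
        simpa using h
  refine ⟨_, AddEquiv.ofBijective π₀ hbij, ?_⟩
  let S : Subgroup (SLtwo K) :=
    { carrier := {g | ∀ a i, π₀ (ρ g a) i = (g : Matrix (Fin 2) (Fin 2) K).mulVec (π₀ a i)}
      one_mem' := fun a i => by simp [act_one]
      mul_mem' := fun {g h} hg hh a i => by
        rw [act_mul, hg, hh, Matrix.SpecialLinearGroup.coe_mul, Matrix.mulVec_mulVec]
      inv_mem' := fun {g} hg a i => by
        have h := hg (ρ g⁻¹ a) i
        rw [← act_mul, mul_inv_cancel, act_one] at h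
        rw [h, Matrix.mulVec_mulVec, ← Matrix.SpecialLinearGroup.coe_mul, inv_mul_cancel,
          Matrix.SpecialLinearGroup.coe_one, Matrix.one_mulVec] }
  have hu : ∀ s, upper s ∈ S := fun s a i => by
    obtain ⟨c, hc, e, he, rfl⟩ := hall a
    have h2 : ρ (upper s) (c + ρ weyl e) = (sm ρ s e + c) + ρ weyl e := by
      have h := p1e s hc he
      rw [sub_eq_iff_eq_add] at h
      rw [h]; abel
    show ![b.repr (p (ρ weyl (ρ (upper s) _))) i, b.repr (p (ρ (upper s) _)) i] =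
      ((upper s : SLtwo K) : Matrix (Fin 2) (Fin 2) K).mulVec
        ![b.repr (p (ρ weyl (c + ρ weyl e))) i, b.repr (p (c + ρ weyl e)) i]
    rw [h2, pw hc he, pval hc he, pw (add_mem (fixTwo_sm ρ s he) hc) he,
      pval (add_mem (fixTwo_sm ρ s he) hc) he]
    have h3 : (⟨sm ρ s e + c, add_mem (fixTwo_sm ρ s he) hc⟩ : fixTwo ρ) =
        s • (⟨e, he⟩ : fixTwo ρ) + ⟨c, hc⟩ := rfl
    rw [h3, map_add, map_smul]
    ext j
    fin_cases j <;> simp [Matrix.mulVec, dotProduct, Fin.sum_univ_two, add_comm]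
  have hw : (weyl : SLtwo K) ∈ S := fun a i => by
    show ![b.repr (p (ρ weyl (ρ weyl a))) i, b.repr (p (ρ weyl a)) i] =
      ((weyl : SLtwo K) : Matrix (Fin 2) (Fin 2) K).mulVec
        ![b.repr (p (ρ weyl a)) i, b.repr (p a) i]
    rw [act_weyl_weyl]
    ext j
    fin_cases j <;> simp [Matrix.mulVec, dotProduct, Fin.sum_univ_two, CharTwo.neg_eq]
  intro g
  have htop : S = ⊤ := LinGroup.closure_upper_lower hu fun s =>
    weyl_upper_weyl s ▸ mul_mem (mul_mem hw (hu s)) hw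
  have hg : g ∈ S := htop ▸ Subgroup.mem_top g
  exact hg

omit [Finite A] in
/-- There are no equivariant pairings. -/
theorem pairing_eq_zero {B : Type*} [AddCommGroup B] {σ : SLtwo K →* AddMonoid.End B}
    (hσ : Fpf σ) (hB2 : ∀ b : B, b + b = 0) (hA : nat ρ = ⊤) (hB : nat σ = ⊤)
    (β : A →+ A →+ B) (heq : ∀ g a a', β (ρ g a) (ρ g a') = σ g (β a a')) (a a' : A) :
    β a a' = 0 := by
  obtain ⟨x, hx0, hx1⟩ := hK
  have hpair : ∀ v ∈ fixTwo ρ, ∀ v' ∈ fixTwo ρ, β v v' ∈ fixTwo σ ∧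
      β v (ρ weyl v') = β v v' + σ weyl (β v v') := by
    intro v hv v' hv'
    set c := β v v' with hc
    set d := β v (ρ weyl v') with hd
    set d' := β (ρ weyl v) v' with hd'
    have hcf : c ∈ fixTwo σ := ⟨fun s => by rw [hc, ← heq, hv.1, hv'.1], hB2 _⟩
    refine ⟨hcf, ?_⟩
    have u1 : σ (upper 1) d = c + d := by
      rw [hd, ← heq, hv.1, upper_weyl_fix hx 1 hv', sm_one, map_add]
    have u3 := upper_weyl_fix hσ 1 hcf
    rw [sm_one, hc, ← heq, ← heq, upper_weyl_fix hx 1 hv, upper_weyl_fix hx 1 hv', sm_one,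
      sm_one] at u3
    simp only [map_add, AddMonoidHom.add_apply] at u3
    have hdd : d + d' = 0 := by
      rw [hd, hd']
      linear_combination (norm := abel) u3
    have hwd : σ weyl d = d := by
      have h1 : σ weyl d = d' := by rw [hd, hd', ← heq, act_weyl_weyl]
      rw [h1, eq_neg_of_add_eq_zero_right hdd]
      exact neg_eq_of_add_eq_zero_left (hB2 d)
    obtain ⟨e0, he0, e, he, hde⟩ := (hB.symm ▸ AddSubgroup.mem_top d : d ∈ nat σ)
    have h5 : (e - e0) + σ weyl (e0 - e) = 0 := by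
      have h := hwd
      rw [hde, map_add, act_weyl_weyl] at h
      rw [map_sub]
      linear_combination (norm := abel) h
    have hee : e0 = e :=
      sub_eq_zero.1 (eq_zero_of_both hσ (sub_mem he he0) (sub_mem he0 he) h5).2
    have h6 := nat_upper hσ 1 he0 he
    rw [← hde, u1, sm_one, add_sub_cancel_right] at h6
    rw [hde, hee, h6]
  have hzero : ∀ v ∈ fixTwo ρ, ∀ v' ∈ fixTwo ρ, β v v' = 0 := by
    intro v hv v' hv'
    obtain ⟨hcf, hd⟩ := hpair v hv v' hv'
    obtain ⟨l, hl⟩ := exists_sq x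
    have hl0 : l ≠ 0 := fun h => hx0 (by rw [← hl, h, mul_zero])
    obtain ⟨hcf', hd'⟩ := hpair _ (fixTwo_sm ρ l hv) _ (fixTwo_sm ρ l⁻¹ hv')
    have h1 : sm σ l (β v (ρ weyl v')) = β (sm ρ l v) (ρ weyl (sm ρ l⁻¹ v')) := by
      rw [← sm_weyl, sm_of_ne σ hl0, sm_of_ne ρ hl0, heq]
    rw [hd, hd', map_add, sm_weyl] at h1
    have h2 : (sm σ l (β v v') - β (sm ρ l v) (sm ρ l⁻¹ v')) +
        σ weyl (sm σ l⁻¹ (β v v') - β (sm ρ l v) (sm ρ l⁻¹ v')) = 0 := by
      rw [map_sub]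
      linear_combination (norm := abel) h1
    obtain ⟨e1, e2⟩ := eq_zero_of_both hσ (sub_mem (fixTwo_sm σ l hcf) hcf')
      (sub_mem (fixTwo_sm σ l⁻¹ hcf) hcf') h2
    have h3 : sm σ l (β v v') = sm σ l⁻¹ (β v v') :=
      (sub_eq_zero.1 e1).trans (sub_eq_zero.1 e2).symm
    have h4' : sm σ x (β v v') = β v v' := by
      rw [← hl, sm_mul, h3, ← sm_mul, mul_inv_cancel₀ hl0, sm_one]
    refine sm_inj σ (s := x + 1) (fun h => hx1 (CharTwo.add_eq_zero.1 h)) ?_
    rw [sm_add hσ x 1 hcf, h4', sm_one, hB2]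
  obtain ⟨c, hc, e, he, rfl⟩ := (hA.symm ▸ AddSubgroup.mem_top a : a ∈ nat ρ)
  obtain ⟨c', hc', e', he', rfl⟩ := (hA.symm ▸ AddSubgroup.mem_top a' : a' ∈ nat ρ)
  have z1 : ∀ v ∈ fixTwo ρ, ∀ v' ∈ fixTwo ρ, β v (ρ weyl v') = 0 := fun v hv v' hv' => by
    rw [(hpair v hv v' hv').2, hzero v hv v' hv', map_zero, add_zero]
  have z2 : ∀ v ∈ fixTwo ρ, ∀ v' ∈ fixTwo ρ, β (ρ weyl v) v' = 0 := fun v hv v' hv' => by
    rw [← act_weyl_weyl ρ v', heq, z1 v hv v' hv', map_zero]
  simp only [map_add, AddMonoidHom.add_apply, hzero c hc c' hc', z1 c hc e' he', z2 e he c' hc',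
    heq, hzero e he e' he', map_zero, add_zero]

end Cfsg.Agent.Lib.LocalChar.HigSL2
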