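import Cfsg.Agent.Lib.LocalChar.HigmanSL2
import Cfsg.Agent.Lib.SL2.Conjugacy
import Cfsg.Prelude.Def_BaumannBlocks

/-!
# Normal 2-subgroups with quotient `SL₂(2ⁿ)` and a fixed point free element of order three

Such a subgroup is elementary abelian and a product of natural modules (Higman).
-/

set_option autoImplicit false

namespace Cfsg.Agent.Lib.LocalChar.HigSL2

open Cfsg.Agent.Lib.SL2 (SLtwo upper lower diag weyl)
open scoped commutatorElement IsMulCommutative

universe u v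

variable {G : Type u} [Group G] [Finite G] {K : Type v} [Field K] [Finite K] [CharP K 2]

/-- The identity `q · q^x · q^(x²) = 1`. -/
theorem norm_eq_one (Q : Subgroup G) [Q.Normal] {x : G} (hx3 : x ^ 3 = 1)
    (hfpf : ∀ q ∈ Q, x * q * x⁻¹ = q → q = 1) {q : G} (hq : q ∈ Q) :
    q * (x * q * x⁻¹) * (x * x * q * (x * x)⁻¹) = 1 := by
  have hQn : ∀ r ∈ Q, x * r * x⁻¹ ∈ Q := fun r hr => Subgroup.Normal.conj_mem inferInstance r hr x
  let f : ↥Q → ↥Q := fun r => r⁻¹ * ⟨x * r * x⁻¹, hQn r r.2⟩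
  have hinj : Function.Injective f := fun r t h => by
    have h' : (r : G)⁻¹ * (x * r * x⁻¹) = (t : G)⁻¹ * (x * t * x⁻¹) := congrArg Subtype.val h
    have hfix : x * ((t : G) * (r : G)⁻¹) * x⁻¹ = (t : G) * (r : G)⁻¹ := by
      calc x * ((t : G) * (r : G)⁻¹) * x⁻¹
          = (t : G) * ((t : G)⁻¹ * (x * t * x⁻¹)) * ((r : G)⁻¹ * (x * r * x⁻¹))⁻¹ * (r : G)⁻¹ := by
            group
        _ = _ := by rw [h']; group
    have h1 := hfpf _ (mul_mem t.2 (inv_mem r.2)) hfix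
    exact Subtype.ext (mul_inv_eq_one.1 h1).symm
  obtain ⟨r, hr⟩ := (Finite.injective_iff_surjective.1 hinj) ⟨q, hq⟩
  have hr' : (r : G)⁻¹ * (x * r * x⁻¹) = q := congrArg Subtype.val hr
  have hx3' : x * x * x = 1 := by rw [← hx3, pow_succ, pow_two]
  rw [← hr']
  calc (r : G)⁻¹ * (x * r * x⁻¹) * (x * ((r : G)⁻¹ * (x * r * x⁻¹)) * x⁻¹) *
        (x * x * ((r : G)⁻¹ * (x * r * x⁻¹)) * (x * x)⁻¹)
      = (r : G)⁻¹ * ((x * x * x) * r * (x * x * x)⁻¹) := by group
    _ = 1 := by rw [hx3']; group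

omit [Finite G] in
/-- Elements of order three of `SL₂` in characteristic two are conjugate. -/
theorem exists_conj_weyl_upper {X : SLtwo K} (h1 : X ≠ 1) (h3 : X ^ 3 = 1) :
    ∃ k : SLtwo K, k * X * k⁻¹ = weyl * upper 1 := by
  have hdet := SL2.det_entries X
  have h3' : X * X * X = 1 := by rw [← h3, pow_succ, pow_two]
  have e00 := congrArg (fun g : SLtwo K => g 0 0) h3'
  have e01 := congrArg (fun g : SLtwo K => g 0 1) h3'
  have e10 := congrArg (fun g : SLtwo K => g 1 0) h3'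
  have e11 := congrArg (fun g : SLtwo K => g 1 1) h3'
  simp only [SL2.mul_00, SL2.mul_01, SL2.mul_10, SL2.mul_11,
    Matrix.SpecialLinearGroup.coe_one, Matrix.one_apply_eq,
    Matrix.one_apply_ne (show (0 : Fin 2) ≠ 1 by decide),
    Matrix.one_apply_ne (show (1 : Fin 2) ≠ 0 by decide)] at e00 e01 e10 e11
  have h2 := CharTwo.two_eq_zero (R := K)
  have hns : ¬ SL2.IsScalarMat (X : Matrix (Fin 2) (Fin 2) K) := by
    rintro ⟨s1, s2, s3⟩
    apply h1
    have hsq : X 0 0 * X 0 0 = 1 := by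
      have := hdet
      rw [s1, s2, ← s3] at this
      linear_combination this
    have h00 : X 0 0 = 1 := by
      have h : (X 0 0 + 1) * (X 0 0 + 1) = 0 := by linear_combination hsq + (X 0 0 + 1) * h2
      exact (CharTwo.add_eq_zero.1 (mul_self_eq_zero.1 h))
    apply SL2.ext_entries <;> simp [s1, s2, ← s3, h00]
  set τ := X 0 0 + X 1 1 with hτ
  have k01 : (τ * τ + 1) * X 0 1 = 0 := by
    linear_combination e01 + (X 0 1) * hdet + (X 0 1) * h2
  have k10 : (τ * τ + 1) * X 1 0 = 0 := by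
    linear_combination e10 + (X 1 0) * hdet + (X 1 0) * h2
  have kd : (τ * τ + 1) * (X 0 0 - X 1 1) = 0 := by
    linear_combination e00 - e11 + (X 0 0 - X 1 1) * hdet +
      (X 0 0 - X 1 1) * h2
  have hτ1 : τ = 1 := by
    by_contra hne
    have hne' : τ * τ + 1 ≠ 0 := fun h => by
      have h' : (τ + 1) * (τ + 1) = 0 := by linear_combination h + τ * h2
      exact hne (CharTwo.add_eq_zero.1 (mul_self_eq_zero.1 h'))
    exact hns ⟨(mul_eq_zero.1 k01).resolve_left hne', (mul_eq_zero.1 k10).resolve_left hne',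
      sub_eq_zero.1 ((mul_eq_zero.1 kd).resolve_left hne')⟩
  let gX : GL (Fin 2) K := Matrix.SpecialLinearGroup.toGL X
  let gY : GL (Fin 2) K := Matrix.SpecialLinearGroup.toGL (weyl * upper 1)
  have hns2 : ¬ SL2.IsScalarMat (gY : Matrix (Fin 2) (Fin 2) K) := fun h => by
    simpa [gY, SL2.IsScalarMat, Matrix.mul_apply, Fin.sum_univ_two] using h.1
  have htr : (gX : Matrix (Fin 2) (Fin 2) K) 0 0 + (gX : Matrix (Fin 2) (Fin 2) K) 1 1 =
      (gY : Matrix (Fin 2) (Fin 2) K) 0 0 + (gY : Matrix (Fin 2) (Fin 2) K) 1 1 := by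
    show X 0 0 + X 1 1 = (weyl * upper 1 : SLtwo K) 0 0 + (weyl * upper 1 : SLtwo K) 1 1
    rw [← hτ, hτ1]
    simp [Matrix.mul_apply, Fin.sum_univ_two, CharTwo.neg_eq]
  obtain ⟨u, hu⟩ := isConj_iff.1 (SL2.isConj_GL (g := gX) (h := gY) hns hns2 htr
    ((Matrix.SpecialLinearGroup.det_coe X).trans
      (Matrix.SpecialLinearGroup.det_coe (weyl * upper 1)).symm))
  have hdu : (u : Matrix (Fin 2) (Fin 2) K).det ≠ 0 :=
    (Matrix.isUnit_iff_isUnit_det _).1 u.isUnit |>.ne_zero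
  obtain ⟨l, hl⟩ := exists_sq ((u : Matrix (Fin 2) (Fin 2) K).det)⁻¹
  let k : SLtwo K := ⟨l • (u : Matrix (Fin 2) (Fin 2) K), by
    rw [Matrix.det_smul, Fintype.card_fin, sq, hl, inv_mul_cancel₀ hdu]⟩
  refine ⟨k, mul_inv_eq_iff_eq_mul.2 (Subtype.ext ?_)⟩
  have hu' : (u : Matrix (Fin 2) (Fin 2) K) * (X : Matrix (Fin 2) (Fin 2) K) =
      ((weyl * upper 1 : SLtwo K) : Matrix (Fin 2) (Fin 2) K) * (u : Matrix (Fin 2) (Fin 2) K) :=
    congrArg (fun g : GL (Fin 2) K => (g : Matrix (Fin 2) (Fin 2) K))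
      (mul_inv_eq_iff_eq_mul.1 hu)
  rw [Matrix.SpecialLinearGroup.coe_mul, Matrix.SpecialLinearGroup.coe_mul (weyl * upper 1) k]
  show (l • (u : Matrix (Fin 2) (Fin 2) K)) * (X : Matrix (Fin 2) (Fin 2) K) =
    _ * (l • (u : Matrix (Fin 2) (Fin 2) K))
  rw [Matrix.smul_mul, hu', Matrix.mul_smul]

/-- A lift of `w u₁` of order three without fixed points on `Q`. -/
theorem exists_lift (Q : Subgroup G) [Q.Normal] (hQ : IsPGroup 2 Q) (e : G ⧸ Q ≃* SLtwo K) {x : G}
    (hx : orderOf x = 3) (hfpf : ∀ q ∈ Q, x * q * x⁻¹ = q → q = 1) :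
    ∃ g : G, e (QuotientGroup.mk' Q g) = weyl * upper 1 ∧ g ^ 3 = 1 ∧
      ∀ q ∈ Q, g * q * g⁻¹ = q → q = 1 := by
  have hx3 : x ^ 3 = 1 := hx ▸ pow_orderOf_eq_one x
  have hxQ : x ∉ Q := fun h => by
    obtain ⟨i, hi⟩ := hQ ⟨x, h⟩
    have h1 : orderOf x ∣ 2 ^ i := orderOf_dvd_of_pow_eq_one (congrArg Subtype.val hi)
    rw [hx] at h1
    have := Nat.prime_three.dvd_of_dvd_pow h1
    omega
  obtain ⟨k, hk⟩ := exists_conj_weyl_upper (X := e (QuotientGroup.mk' Q x))
    (fun h => hxQ ((QuotientGroup.eq_one_iff x).1 (e.map_eq_one_iff.1 h)))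
    (by rw [← map_pow, ← map_pow, hx3, map_one, map_one])
  obtain ⟨k', rfl⟩ := e.surjective k
  obtain ⟨k'', rfl⟩ := QuotientGroup.mk'_surjective Q k'
  refine ⟨k'' * x * k''⁻¹, ?_, by rw [conj_pow, hx3, mul_one, mul_inv_cancel], fun q hq h => ?_⟩
  · rw [map_mul, map_mul, map_inv, map_mul, map_mul, map_inv, hk]
  · have hq' : k''⁻¹ * q * k'' ∈ Q := by
      simpa using Subgroup.Normal.conj_mem inferInstance q hq k''⁻¹
    have h1 := hfpf _ hq' (by
      calc x * (k''⁻¹ * q * k'') * x⁻¹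
          = k''⁻¹ * (k'' * x * k''⁻¹ * q * (k'' * x * k''⁻¹)⁻¹) * k'' := by group
        _ = _ := by rw [h])
    calc q = k'' * (k''⁻¹ * q * k'') * k''⁻¹ := by group
      _ = 1 := by rw [h1]; group

section

variable (Q N : Subgroup G) [Q.Normal] [N.Normal] [IsMulCommutative N]

/-- Conjugation on an abelian normal subgroup. -/
def conjEnd : G →* AddMonoid.End (Additive N) where
  toFun g :=
    { toFun := fun a => Additive.ofMul (⟨g * (Additive.toMul a : N) * g⁻¹,
        Subgroup.Normal.conj_mem inferInstance _ (Additive.toMul a).2 g⟩ : N)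
      map_zero' := Additive.toMul.injective (Subtype.ext (by simp))
      map_add' := fun a b => Additive.toMul.injective (Subtype.ext (by simp [mul_assoc])) }
  map_one' := AddMonoidHom.ext fun a => Additive.toMul.injective (Subtype.ext (by simp; rfl))
  map_mul' g h := AddMonoidHom.ext fun a => Additive.toMul.injective (Subtype.ext (by
    show g * h * ((Additive.toMul a : N) : G) * (g * h)⁻¹ =
      g * (h * ((Additive.toMul a : N) : G) * h⁻¹) * g⁻¹
    group))

variable (e : G ⧸ Q ≃* SLtwo K) (hc : ∀ q ∈ Q, ∀ z ∈ N, q * z = z * q)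

/-- The action of `SL₂(K)`. -/
noncomputable def act : SLtwo K →* AddMonoid.End (Additive N) :=
  (QuotientGroup.lift Q (conjEnd N) fun q hq => AddMonoidHom.ext fun a =>
    Additive.toMul.injective (Subtype.ext (by
      show q * ((Additive.toMul a : N) : G) * q⁻¹ = _
      rw [hc q hq _ (Additive.toMul a).2, mul_inv_cancel_right]
      rfl))).comp e.symm.toMonoidHom

omit [Finite G] [Finite K] [CharP K 2] in
theorem act_val (g : G) (a : Additive N) :
    ((Additive.toMul (act Q N e hc (e (QuotientGroup.mk' Q g)) a) : N) : G) =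
      g * ((Additive.toMul a : N) : G) * g⁻¹ := by
  simp only [act, MonoidHom.comp_apply, MulEquiv.coe_toMonoidHom, MulEquiv.symm_apply_apply]
  rfl

omit [Finite G] in
theorem act_fpf {g : G} (hg : e (QuotientGroup.mk' Q g) = weyl * upper 1)
    (hnorm : ∀ z ∈ N, z * (g * z * g⁻¹) * (g * g * z * (g * g)⁻¹) = 1) :
    Fpf (A := Additive N) (act Q N e hc) := by
  intro a
  rw [← act_mul, ← act_mul]
  have h2 : upper 1 * weyl = e (QuotientGroup.mk' Q (g * g)) := by
    rw [map_mul, map_mul, hg, weyl_upper_sq]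
  rw [← hg, h2]
  refine Additive.toMul.injective (Subtype.ext ?_)
  show ((Additive.toMul a : N) : G) * _ * _ = 1
  rw [act_val, act_val]
  exact hnorm _ (Additive.toMul a).2

omit [Finite G] [Finite K] [CharP K 2] in
theorem act_exists (s : SLtwo K) :
    ∃ g : G, e (QuotientGroup.mk' Q g) = s := by
  obtain ⟨s', rfl⟩ := e.surjective s
  obtain ⟨g, rfl⟩ := QuotientGroup.mk'_surjective Q s'
  exact ⟨g, rfl⟩

end

/-- Higman: `Q` is elementary abelian. -/
theorem elementary (hK : ∃ a : K, a ≠ 0 ∧ a ≠ 1) :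
    ∀ (m : ℕ) {G : Type u} [Group G] [Finite G] (Q : Subgroup G) [Q.Normal], Nat.card G ≤ m →
      IsPGroup 2 Q → ∀ (_e : G ⧸ Q ≃* SLtwo K) (x : G), orderOf x = 3 →
      (∀ q ∈ Q, x * q * x⁻¹ = q → q = 1) →
      (∀ q ∈ Q, ∀ r ∈ Q, q * r = r * q) ∧ ∀ q ∈ Q, q * q = 1 := by
  intro m
  induction m with
  | zero =>
    intro G _ _ Q _ hm
    exact absurd Nat.card_pos (by omega : ¬ 0 < Nat.card G)
  | succ m ih =>
    intro G _ _ Q hQn hm hQ e x hx hfpf
    classical
    rcases eq_or_ne Q ⊥ with rfl | hQ1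
    · exact ⟨fun q hq r hr => by simp [Subgroup.mem_bot.1 hq, Subgroup.mem_bot.1 hr],
        fun q hq => by simp [Subgroup.mem_bot.1 hq]⟩
    obtain ⟨g0, hg0, hg03, hgfpf⟩ := exists_lift Q hQ e hx hfpf
    have hnorm : ∀ q ∈ Q, q * (g0 * q * g0⁻¹) * (g0 * g0 * q * (g0 * g0)⁻¹) = 1 :=
      fun q hq => norm_eq_one Q hg03 hgfpf hq
    -- central involutions
    let N : Subgroup G :=
      { carrier := {z | z ∈ Q ∧ (∀ q ∈ Q, q * z = z * q) ∧ z * z = 1}
        one_mem' := ⟨one_mem _, fun q _ => by simp, by simp⟩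
        mul_mem' := by
          rintro a b ⟨ha, ha', ha2⟩ ⟨hb, hb', hb2⟩
          refine ⟨mul_mem ha hb, fun q hq => ?_, ?_⟩
          · rw [← mul_assoc, ha' q hq, mul_assoc, hb' q hq, mul_assoc]
          · rw [show a * b * (a * b) = a * (b * a) * b by group, ha' b hb,
              show a * (a * b) * b = (a * a) * (b * b) by group, ha2, hb2, mul_one]
        inv_mem' := by
          rintro a ⟨ha, ha', ha2⟩
          rw [inv_eq_of_mul_eq_one_right ha2]
          exact ⟨ha, ha', ha2⟩ }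
    have hNQ : N ≤ Q := fun z hz => hz.1
    haveI hNn : N.Normal := ⟨fun z hz g => ⟨hQn.conj_mem z hz.1 g, fun q hq => by
      have h := hz.2.1 (g⁻¹ * q * g) (by simpa using hQn.conj_mem q hq g⁻¹)
      calc q * (g * z * g⁻¹) = g * ((g⁻¹ * q * g) * z) * g⁻¹ := by group
        _ = g * (z * (g⁻¹ * q * g)) * g⁻¹ := by rw [h]
        _ = _ := by group, by
      rw [show g * z * g⁻¹ * (g * z * g⁻¹) = g * (z * z) * g⁻¹ by group, hz.2.2]
      group⟩⟩
    haveI hNc : IsMulCommutative N := ⟨⟨fun a b => Subtype.ext (b.2.2.1 a a.2.1)⟩⟩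
    have hN1 : N ≠ ⊥ := by
      haveI : Nontrivial Q := (Subgroup.nontrivial_iff_ne_bot Q).2 hQ1
      haveI := Fact.mk Nat.prime_two
      haveI : Nontrivial (Subgroup.center Q) := hQ.center_nontrivial
      have hd : 2 ∣ Nat.card (Subgroup.center Q) := by
        obtain ⟨k, hk⟩ := (hQ.to_subgroup (Subgroup.center Q)).exists_card_eq
        rw [hk]
        refine dvd_pow_self 2 fun h => ?_
        have := Finite.one_lt_card (α := Subgroup.center Q)
        rw [hk, h] at this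
        omega
      obtain ⟨z, hz⟩ := exists_prime_orderOf_dvd_card' 2 hd
      intro h
      have hzN : ((z : Q) : G) ∈ N := by
        refine ⟨(z : Q).2, fun q hq => congrArg Subtype.val
          (Subgroup.mem_center_iff.1 z.2 ⟨q, hq⟩), ?_⟩
        have hp := pow_orderOf_eq_one z
        rw [hz, sq] at hp
        exact congrArg (fun w : Subgroup.center Q => ((w : Q) : G)) hp
      rw [h, Subgroup.mem_bot] at hzN
      have : z = 1 := Subtype.ext (Subtype.ext hzN)
      rw [this, orderOf_one] at hz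
      omega
    -- the quotient
    set π := QuotientGroup.mk' N with hπ
    set Qb := Q.map π with hQb
    haveI : Qb.Normal := Subgroup.Normal.map hQn π (QuotientGroup.mk'_surjective N)
    have hcard : Nat.card (G ⧸ N) ≤ m := by
      have h := Subgroup.card_eq_card_quotient_mul_card_subgroup N
      have h2 : 2 ≤ Nat.card N := (Subgroup.one_lt_card_iff_ne_bot N).2 hN1
      have hpos : 0 < Nat.card (G ⧸ N) := Nat.card_pos
      have : Nat.card (G ⧸ N) * 2 ≤ Nat.card (G ⧸ N) * Nat.card N := Nat.mul_le_mul_left _ h2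
      omega
    let eb : (G ⧸ N) ⧸ Qb ≃* SLtwo K :=
      (QuotientGroup.quotientQuotientEquivQuotient N Q hNQ).trans e
    have hg0o : orderOf g0 = 3 := by
      refine orderOf_eq_prime hg03 fun h => ?_
      rw [h, map_one, map_one] at hg0
      have h' := congrArg (fun t : SLtwo K => t 0 0) hg0
      simp [Matrix.mul_apply, Fin.sum_univ_two] at h'
    have hgb : orderOf (π g0) = 3 := by
      refine orderOf_eq_prime (by rw [← map_pow, hg03, map_one]) fun h => ?_
      have : g0 ∈ Q := hNQ ((QuotientGroup.eq_one_iff g0).1 h)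
      rw [show QuotientGroup.mk' Q g0 = 1 from (QuotientGroup.eq_one_iff g0).2 this, map_one] at hg0
      have h' := congrArg (fun t : SLtwo K => t 0 0) hg0
      simp [Matrix.mul_apply, Fin.sum_univ_two] at h'
    have hfb : ∀ qb ∈ Qb, π g0 * qb * (π g0)⁻¹ = qb → qb = 1 := by
      rintro _ ⟨q, hq, rfl⟩ h
      rw [← map_inv, ← map_mul, ← map_mul] at h
      set z := g0 * q * g0⁻¹ * q⁻¹ with hz
      have hzN : z ∈ N := (QuotientGroup.eq_one_iff z).1 (by
        show π z = 1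
        rw [hz, map_mul, h, map_inv, mul_inv_cancel])
      have h1 : g0 * q * g0⁻¹ = z * q := by rw [hz]; group
      have h2 : g0 * g0 * q * (g0 * g0)⁻¹ = (g0 * z * g0⁻¹) * (z * q) := by
        calc g0 * g0 * q * (g0 * g0)⁻¹ = g0 * (g0 * q * g0⁻¹) * g0⁻¹ := by group
          _ = g0 * (z * q) * g0⁻¹ := by rw [h1]
          _ = g0 * z * g0⁻¹ * (g0 * q * g0⁻¹) := by group
          _ = _ := by rw [h1]
      have hn := hnorm q hq
      rw [h1, h2] at hn
      -- `q³ ∈ N`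
      have hzg : g0 * z * g0⁻¹ ∈ N := hNn.conj_mem z hzN g0
      have hcube : q * q * q ∈ N := by
        have h5 : q * (z * q) * (g0 * z * g0⁻¹ * (z * q)) =
            (q * q * q) * ((g0 * z * g0⁻¹) * (z * z)) := by
          have a1 := hzN.2.1 q hq
          have a2 := hzg.2.1 q hq
          have a3 := hzg.2.1 z hzN.1
          set w := g0 * z * g0⁻¹
          have c1 : Commute q z := a1
          have c2 : Commute q w := a2
          have c3 : Commute z w := a3
          calc q * (z * q) * (w * (z * q)) = q * (q * z) * (w * (q * z)) := by rw [c1.eq]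
            _ = q * q * ((z * w) * q) * z := by group
            _ = q * q * (q * (z * w)) * z := by rw [(c1.mul_right c2).eq]
            _ = q * q * (q * (w * z)) * z := by rw [c3.eq]
            _ = _ := by group
        rw [h5] at hn
        rw [eq_inv_of_mul_eq_one_left hn]
        exact inv_mem (mul_mem hzg (mul_mem hzN hzN))
      obtain ⟨i, hi⟩ := hQ ⟨q, hq⟩
      have hi' : q ^ 2 ^ i = 1 := congrArg Subtype.val hi
      show π q = 1
      have o1 : orderOf (π q) ∣ 2 ^ i := orderOf_dvd_of_pow_eq_one (by rw [← map_pow, hi', map_one])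
      have o2 : orderOf (π q) ∣ 3 := orderOf_dvd_of_pow_eq_one (by
        rw [← map_pow, pow_succ, pow_two]
        exact (QuotientGroup.eq_one_iff _).2 hcube)
      exact orderOf_eq_one_iff.1 (Nat.eq_one_of_dvd_coprimes
        (Nat.Coprime.pow_left i (by norm_num : Nat.Coprime 2 3)) o1 o2)
    obtain ⟨hab, hsq⟩ := ih Qb hcard (hQ.map π) eb (π g0) hgb hfb
    have hcomm : ∀ a ∈ Q, ∀ b ∈ Q, ⁅a, b⁆ ∈ N := fun a ha b hb =>
      (QuotientGroup.eq_one_iff _).1 (by
        show π ⁅a, b⁆ = 1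
        rw [map_commutatorElement, commutatorElement_eq_one_iff_mul_comm]
        exact hab _ (Subgroup.mem_map_of_mem π ha) _ (Subgroup.mem_map_of_mem π hb))
    have hsqN : ∀ q ∈ Q, q * q ∈ N := fun q hq =>
      (QuotientGroup.eq_one_iff _).1 (by
        show π (q * q) = 1
        rw [map_mul]
        exact hsq _ (Subgroup.mem_map_of_mem π hq))
    haveI : IsMulCommutative Qb := ⟨⟨fun a b => Subtype.ext (hab _ a.2 _ b.2)⟩⟩
    -- the actions
    set σ := act Q N e fun q hq z hz => hz.2.1 q hq with hσdef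
    set ρ := act Qb Qb eb hab with hρdef
    have hfσ : Fpf σ := act_fpf Q N e _ hg0 fun z hz => hnorm z hz.1
    have hfρ : Fpf ρ := act_fpf Qb Qb eb _ (g := π g0) hg0
      fun qb hqb => norm_eq_one Qb (by rw [← map_pow, hg03, map_one]) hfb hqb
    have hN2 : ∀ b : Additive N, b + b = 0 := fun b =>
      Additive.toMul.injective (Subtype.ext (Additive.toMul b : N).2.2.2)
    have hM2 : ∀ b : Additive Qb, b + b = 0 := fun b =>
      Additive.toMul.injective (Subtype.ext (hsq _ (Additive.toMul b : Qb).2))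
    have hNtop := nat_eq_top hfσ (fun b => by simp [hN2]) hK
    have hMtop := nat_eq_top hfρ (fun b => by simp [hM2]) hK
    -- the commutator pairing
    have hlift : ∀ a : Qb, ∃ q ∈ Q, π q = (a : G ⧸ N) := fun a => a.2
    choose ℓ hℓ hℓπ using hlift
    have hwell : ∀ a q : G, a ∈ Q → q ∈ Q → ∀ b : G, b ∈ Q → π a = π q → ⁅a, b⁆ = ⁅q, b⁆ := by
      intro a q _ _ b hb h
      obtain ⟨z, hz, rfl⟩ : ∃ z ∈ N, a = q * z := ⟨q⁻¹ * a, (QuotientGroup.eq_one_iff _).1 (by
        show π (q⁻¹ * a) = 1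
        rw [map_mul, map_inv, h, inv_mul_cancel]), by group⟩
      have hzb : z * b * z⁻¹ = b := by rw [← hz.2.1 b hb, mul_inv_cancel_right]
      calc ⁅q * z, b⁆ = q * (z * b * z⁻¹) * q⁻¹ * b⁻¹ := by rw [commutatorElement_def]; group
        _ = _ := by rw [hzb, commutatorElement_def]
    have hwell2 : ∀ a : G, a ∈ Q → ∀ b q : G, b ∈ Q → q ∈ Q → π b = π q → ⁅a, b⁆ = ⁅a, q⁆ := by
      intro a ha b q hb hq h
      rw [← commutatorElement_inv b a, ← commutatorElement_inv q a, hwell b q hb hq a ha h]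
    have hmulL : ∀ a b c : G, a ∈ Q → b ∈ Q → c ∈ Q → ⁅a * b, c⁆ = ⁅a, c⁆ * ⁅b, c⁆ := by
      intro a b c ha hb hc
      have h2 := hcomm b hb c hc
      calc ⁅a * b, c⁆ = (a * ⁅b, c⁆) * a⁻¹ * ⁅a, c⁆ := by simp only [commutatorElement_def]; group
        _ = ⁅b, c⁆ * ⁅a, c⁆ := by rw [h2.2.1 a ha]; group
        _ = _ := (h2.2.1 _ (hNQ (hcomm a ha c hc))).symm
    have hmulR : ∀ a b c : G, a ∈ Q → b ∈ Q → c ∈ Q → ⁅a, b * c⁆ = ⁅a, b⁆ * ⁅a, c⁆ := by
      intro a b c ha hb hc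
      have h2 := hcomm a ha c hc
      calc ⁅a, b * c⁆ = ⁅a, b⁆ * (b * ⁅a, c⁆ * b⁻¹) := by simp only [commutatorElement_def]; group
        _ = _ := by rw [h2.2.1 b hb]; group
    let pr : Qb → Qb → N := fun a b => ⟨⁅ℓ a, ℓ b⁆, hcomm _ (hℓ a) _ (hℓ b)⟩
    have hprL : ∀ a b c : Qb, pr (a * b) c = pr a c * pr b c := fun a b c => Subtype.ext (by
      show ⁅ℓ (a * b), ℓ c⁆ = ⁅ℓ a, ℓ c⁆ * ⁅ℓ b, ℓ c⁆
      rw [hwell _ (ℓ a * ℓ b) (hℓ _) (mul_mem (hℓ a) (hℓ b)) _ (hℓ c)
        (by rw [map_mul, hℓπ, hℓπ, hℓπ]; rfl), hmulL _ _ _ (hℓ a) (hℓ b) (hℓ c)])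
    have hprR : ∀ a b c : Qb, pr a (b * c) = pr a b * pr a c := fun a b c => Subtype.ext (by
      show ⁅ℓ a, ℓ (b * c)⁆ = ⁅ℓ a, ℓ b⁆ * ⁅ℓ a, ℓ c⁆
      rw [hwell2 _ (hℓ a) _ (ℓ b * ℓ c) (hℓ _) (mul_mem (hℓ b) (hℓ c))
        (by rw [map_mul, hℓπ, hℓπ, hℓπ]; rfl), hmulR _ _ _ (hℓ a) (hℓ b) (hℓ c)])
    let β : Additive Qb →+ Additive Qb →+ Additive N :=
      AddMonoidHom.mk' (fun a => AddMonoidHom.mk'
          (fun b => Additive.ofMul (pr (Additive.toMul a) (Additive.toMul b)))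
          (fun b c => congrArg Additive.ofMul (hprR _ _ _)))
        (fun a b => AddMonoidHom.ext fun c => congrArg Additive.ofMul (hprL _ _ _))
    have heq : ∀ s a b, β (ρ s a) (ρ s b) = σ s (β a b) := by
      intro s a b
      obtain ⟨g, rfl⟩ := act_exists Q e s
      refine Additive.toMul.injective (Subtype.ext ?_)
      have va : ((Additive.toMul (ρ (e (QuotientGroup.mk' Q g)) a) : Qb) : G ⧸ N) =
          π g * (Additive.toMul a : Qb) * (π g)⁻¹ := act_val Qb Qb eb hab (π g) a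
      have vb : ((Additive.toMul (ρ (e (QuotientGroup.mk' Q g)) b) : Qb) : G ⧸ N) =
          π g * (Additive.toMul b : Qb) * (π g)⁻¹ := act_val Qb Qb eb hab (π g) b
      rw [hσdef, act_val]
      show ⁅ℓ _, ℓ _⁆ = g * ⁅ℓ _, ℓ _⁆ * g⁻¹
      rw [hwell _ (g * ℓ (Additive.toMul a) * g⁻¹) (hℓ _) (hQn.conj_mem _ (hℓ _) g) _ (hℓ _)
          (by rw [hℓπ, va, map_mul, map_mul, map_inv, hℓπ]),
        hwell2 _ (hQn.conj_mem _ (hℓ _) g) _ (g * ℓ (Additive.toMul b) * g⁻¹) (hℓ _)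
          (hQn.conj_mem _ (hℓ _) g) (by rw [hℓπ, vb, map_mul, map_mul, map_inv, hℓπ])]
      simp only [commutatorElement_def]
      group
    have habel : ∀ q ∈ Q, ∀ r ∈ Q, q * r = r * q := by
      intro q hq r hr
      rw [← commutatorElement_eq_one_iff_mul_comm]
      let a : Qb := ⟨π q, Subgroup.mem_map_of_mem π hq⟩
      let b : Qb := ⟨π r, Subgroup.mem_map_of_mem π hr⟩
      have h0 : β (Additive.ofMul a) (Additive.ofMul b) = 0 :=
        pairing_eq_zero hfρ (fun c => by simp [hM2]) hK hfσ hN2 hMtop hNtop β heq _ _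
      have h1 : ⁅ℓ a, ℓ b⁆ = 1 := congrArg (fun c : Additive N => ((Additive.toMul c : N) : G)) h0
      rw [← h1, hwell q (ℓ a) hq (hℓ a) r hr (hℓπ a).symm,
        hwell2 _ (hℓ a) r (ℓ b) hr (hℓ b) (hℓπ b).symm]
    refine ⟨habel, fun q hq => ?_⟩
    haveI : IsMulCommutative Q := ⟨⟨fun a b => Subtype.ext (habel _ a.2 _ b.2)⟩⟩
    have hfQ : Fpf (act Q Q e habel) := act_fpf Q Q e _ hg0 hnorm
    have h4 : ∀ a : Additive Q, a + a + (a + a) = 0 := fun a =>
      Additive.toMul.injective (Subtype.ext (hsqN _ (Additive.toMul a : Q).2).2.2)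
    have h := add_self hfQ h4 hK (Additive.ofMul (⟨q, hq⟩ : Q))
    exact congrArg (fun c : Additive Q => ((Additive.toMul c : Q) : G)) h

/-- `Q` is a product of normal subgroups, each a natural module. -/
theorem decomposition (Q : Subgroup G) [Q.Normal] (hQ : IsPGroup 2 Q)
    (hK : ∃ a : K, a ≠ 0 ∧ a ≠ 1) (e : G ⧸ Q ≃* SLtwo K) (x : G) (hx : orderOf x = 3)
    (hfpf : ∀ q ∈ Q, x * q * x⁻¹ = q → q = 1) :
    ((∀ q ∈ Q, ∀ r ∈ Q, q * r = r * q) ∧ ∀ q ∈ Q, q * q = 1) ∧
      ∃ (k : ℕ) (V : Fin k → Subgroup G), (∀ i, V i ≤ Q ∧ (V i).Normal ∧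
        Cfsg.ActsAsSL2OnSection K ⊤ ⊤ (V i) ⊥) ∧ iSupIndep V ∧ ⨆ i, V i = Q := by
  classical
  obtain ⟨hab, hsq⟩ := elementary hK (Nat.card G) Q le_rfl hQ e x hx hfpf
  refine ⟨⟨hab, hsq⟩, ?_⟩
  haveI : IsMulCommutative Q := ⟨⟨fun a b => Subtype.ext (hab _ a.2 _ b.2)⟩⟩
  obtain ⟨g0, hg0, hg03, hgfpf⟩ := exists_lift Q hQ e hx hfpf
  have hfQ : Fpf (act Q Q e hab) :=
    act_fpf Q Q e _ hg0 fun q hq => norm_eq_one Q hg03 hgfpf hq
  have h4 : ∀ a : Additive Q, a + a + (a + a) = 0 := fun a => by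
    have h : a + a = 0 :=
      Additive.toMul.injective (Subtype.ext (hsq _ (Additive.toMul a : Q).2))
    simp [h]
  obtain ⟨k, π, hπ⟩ := exists_coords hfQ h4 hK
  let c : Q → Fin k → Fin 2 → K := fun q => π (Additive.ofMul q)
  have cmul : ∀ a b, c (a * b) = c a + c b := fun a b => map_add π _ _
  have cone : c 1 = 0 := map_zero π
  have cinj : Function.Injective c := π.injective.comp Additive.ofMul.injective
  have cconj : ∀ (g : G) (q : Q) (h : g * q * g⁻¹ ∈ Q) (i : Fin k),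
      c ⟨g * q * g⁻¹, h⟩ i =
        ((e (QuotientGroup.mk' Q g) : SLtwo K) : Matrix (Fin 2) (Fin 2) K).mulVec (c q i) := by
    intro g q h i
    have h1 : (Additive.ofMul (⟨g * q * g⁻¹, h⟩ : Q)) =
        act Q Q e hab (e (QuotientGroup.mk' Q g)) (Additive.ofMul q) :=
      Additive.toMul.injective (Subtype.ext (act_val Q Q e hab g (Additive.ofMul q)).symm)
    show π _ i = _
    rw [h1, hπ]
  let V : Fin k → Subgroup G := fun i =>
    { carrier := {g | ∃ h : g ∈ Q, ∀ j, j ≠ i → c ⟨g, h⟩ j = 0}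
      one_mem' := ⟨one_mem Q, fun j _ => congrFun cone j⟩
      mul_mem' := fun {a b} ha hb => ⟨mul_mem ha.1 hb.1, fun j hj => by
        rw [show (⟨a * b, mul_mem ha.1 hb.1⟩ : Q) = ⟨a, ha.1⟩ * ⟨b, hb.1⟩ from rfl, cmul,
          Pi.add_apply, ha.2 j hj, hb.2 j hj, add_zero]⟩
      inv_mem' := fun {a} ha => ⟨inv_mem ha.1, fun j hj => by
        show π (Additive.ofMul ((⟨a, ha.1⟩ : Q)⁻¹)) j = 0
        rw [ofMul_inv, map_neg, Pi.neg_apply]
        exact neg_eq_zero.2 (ha.2 j hj)⟩ }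
  have hVQ : ∀ i, V i ≤ Q := fun i g hg => hg.1
  have hVn : ∀ i, (V i).Normal := fun i => ⟨fun a ha g => by
    refine ⟨Subgroup.Normal.conj_mem inferInstance a ha.1 g, fun j hj => ?_⟩
    rw [cconj g ⟨a, ha.1⟩, ha.2 j hj, Matrix.mulVec_zero]⟩
  have hadd : ∀ (i : Fin k) (f : Fin 2 → K),
      ((Additive.toMul (π.symm (Pi.single i f)) : Q) : G) ∈ V i := fun i f =>
    ⟨(Additive.toMul (π.symm (Pi.single i f)) : Q).2, fun j hj => by
      show π (π.symm (Pi.single i f)) j = 0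
      rw [π.apply_symm_apply, Pi.single_eq_of_ne hj]⟩
  refine ⟨k, V, fun i => ⟨hVQ i, hVn i, ?_⟩, ?_, ?_⟩
  · let ψ : ↥(V i) →* Multiplicative (Fin 2 → K) :=
      { toFun := fun v => Multiplicative.ofAdd (c ⟨v, v.2.1⟩ i)
        map_one' := congrArg Multiplicative.ofAdd (congrFun cone i)
        map_mul' := fun a b => congrArg Multiplicative.ofAdd
          (congrFun (cmul ⟨a, a.2.1⟩ ⟨b, b.2.1⟩) i) }
    refine ⟨fun g _ => ?_, bot_le,
      (e.toMonoidHom.comp (QuotientGroup.mk' Q)).comp (⊤ : Subgroup G).subtype, ψ, ?_, ?_, ?_, ?_⟩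
    · rw [Subgroup.normalizer_eq_top_iff.2 (hVn i)]
      exact Subgroup.mem_top g
    · refine MonoidHom.range_eq_top.2 fun s => ?_
      obtain ⟨g, hg⟩ := act_exists Q e s
      exact ⟨⟨g, Subgroup.mem_top g⟩, hg⟩
    · intro f
      refine ⟨⟨_, hadd i (Multiplicative.toAdd f)⟩, ?_⟩
      show Multiplicative.ofAdd (π (π.symm (Pi.single i (Multiplicative.toAdd f))) i) = f
      rw [π.apply_symm_apply, Pi.single_eq_same]
      rfl
    · intro v
      rw [Subgroup.mem_bot]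
      constructor
      · intro h
        have h0 : c ⟨v, v.2.1⟩ = 0 := funext fun j => by
          rcases eq_or_ne j i with rfl | hj
          · exact congrArg Multiplicative.toAdd h
          · exact v.2.2 j hj
        exact congrArg Subtype.val (cinj (h0.trans cone.symm))
      · intro h
        rw [show v = 1 from Subtype.ext h, map_one]
    · intro g v
      exact ⟨⟨(g : G) * v * (g : G)⁻¹, (hVn i).conj_mem _ v.2 g⟩, rfl,
        cconj g ⟨v, v.2.1⟩ _ i⟩
  · refine fun i => disjoint_iff.2 (eq_bot_iff.2 fun g hg => ?_)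
    let Z : Subgroup G :=
      { carrier := {g | ∃ h : g ∈ Q, c ⟨g, h⟩ i = 0}
        one_mem' := ⟨one_mem Q, congrFun cone i⟩
        mul_mem' := fun {a b} ha hb => ⟨mul_mem ha.1 hb.1, by
          rw [show (⟨a * b, mul_mem ha.1 hb.1⟩ : Q) = ⟨a, ha.1⟩ * ⟨b, hb.1⟩ from rfl, cmul,
            Pi.add_apply, ha.2, hb.2, add_zero]⟩
        inv_mem' := fun {a} ha => ⟨inv_mem ha.1, by
          show π (Additive.ofMul ((⟨a, ha.1⟩ : Q)⁻¹)) i = 0
          rw [ofMul_inv, map_neg, Pi.neg_apply]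
          exact neg_eq_zero.2 ha.2⟩ }
    have hle : ⨆ (j : Fin k) (_ : j ≠ i), V j ≤ Z :=
      iSup₂_le fun j hj g hg => ⟨hg.1, hg.2 i hj.symm⟩
    obtain ⟨hgV, hgZ⟩ := hg
    have h0 : c ⟨g, hgV.1⟩ = 0 := funext fun j => by
      rcases eq_or_ne j i with rfl | hj
      · exact (hle hgZ).2
      · exact hgV.2 j hj
    exact Subgroup.mem_bot.2 (congrArg Subtype.val (cinj (h0.trans cone.symm)))
  · refine le_antisymm (iSup_le hVQ) fun g hg => ?_
    let W : Subgroup Q := (⨆ i, V i).subgroupOf Q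
    have hsum : ∀ s : Finset (Fin k),
        (Additive.toMul (∑ i ∈ s, π.symm (Pi.single i (c ⟨g, hg⟩ i))) : Q) ∈ W := by
      intro s
      induction s using Finset.induction with
      | empty => rw [Finset.sum_empty]; exact one_mem W
      | insert i s his ih =>
        rw [Finset.sum_insert his]
        exact mul_mem (Subgroup.mem_subgroupOf.2 (le_iSup V i (hadd i _))) ih
    have h := hsum Finset.univ
    rw [← map_sum, Finset.univ_sum_single] at h
    show g ∈ ⨆ i, V i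
    have h' : (π.symm (c ⟨g, hg⟩)) = Additive.ofMul (⟨g, hg⟩ : Q) := π.symm_apply_apply _
    rw [h'] at h
    exact Subgroup.mem_subgroupOf.1 h

end Cfsg.Agent.Lib.LocalChar.HigSL2
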