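import Mathlib
import Cfsg.Prelude.Def_LocalEven
import Cfsg.Agent.Lib.PReduced.Kieler
import Cfsg.Agent.S0542

/-!
# Kieler's lemma for groups of local characteristic `p`
-/

set_option autoImplicit false

namespace Cfsg.Agent.Lib.LocalChar.KielerLocal

open Cfsg Subgroup Cfsg.Agent.Lib Cfsg.Agent.Lib.PReduced
open Cfsg.Agent.Lib.Fusion (IsSylowIn)

variable {H : Type*} [Group H] [Finite H] {p : ℕ} [Fact p.Prime]

theorem charP_inf_normalizer_local (hH : IsOfLocalCharacteristic p H) {U : Subgroup H}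
    (hU : IsPGroup p U) (hU1 : U ≠ ⊥) {Y : Subgroup H} (hY : Y.IsSubnormal) :
    (Y ⊓ normalizer (U : Set H)) ⊓
        centralizer (pCoreOf p (Y ⊓ normalizer (U : Set H)) : Set H) ≤
      pCoreOf p (Y ⊓ normalizer (U : Set H)) := by
  have h1 := CharP.centralizer_pCore_le_of_isSubnormal (hH.2 U hU hU1)
    (hY.subgroupOf (K := normalizer (U : Set H)))
  have h2 := Amalgam.charP_map (normalizer (U : Set H)).subtype_injective
    ((Amalgam.charP_iff_ambient _).1 h1)
  rwa [subgroupOf_map_subtype] at h2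

theorem omegaZ_le (p : ℕ) (T : Subgroup H) : omegaZ p T ≤ T :=
  (Omega.le_self p _).trans inf_le_left

theorem normalizer_le_normalizer_omegaZ (p : ℕ) (T : Subgroup H) :
    normalizer (T : Set H) ≤ normalizer (omegaZ p T : Set H) :=
  (Coprime.le_normalizer_inf_centralizer (K := T) (A := T) le_rfl le_rfl).trans
    (Omega.normalizer_le p _)

theorem omegaZ_ne_bot {T : Subgroup H} (hT : IsPGroup p T) (h : T ≠ ⊥) : omegaZ p T ≠ ⊥ := by
  obtain ⟨z, hz, hz1, hzp, hzc⟩ := exists_order_p_central hT le_rfl Subgroup.le_normalizer h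
  intro hb
  exact hz1 (by simpa [hb] using
    (Omega.mem_of_pow_eq_one (p := p) (H := T ⊓ centralizer (T : Set H)) ⟨hz, hzc⟩ hzp))

/-- Kieler's lemma in a group of local characteristic `p`. -/
theorem kieler_local (hH : IsOfLocalCharacteristic p H) (T : Sylow p H) {L : Subgroup H}
    (hL : L.IsSubnormal) :
    ((T : Subgroup H) ⊓ L ≠ ⊥ → L ⊓ centralizer (omegaZ p (T : Subgroup H) : Set H) =
        L ⊓ centralizer (omegaZ p ((T : Subgroup H) ⊓ L) : Set H)) ∧
      IsSylowIn p ((T : Subgroup H) ⊓ L) L := by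
  induction hL with
  | top => simp only [inf_top_eq, implies_true, true_and]; exact isSylowIn_top T
  | step L M hLM hMs hN ih =>
    have hn : M ≤ normalizer (L : Set H) := (normal_subgroupOf_iff_le_normalizer hLM).1 hN
    have hLs : L.IsSubnormal := .step L M hLM hMs hN
    have hTL0 := isSylowIn_inf ih.2 hLM hn
    rw [inf_assoc, inf_of_le_right hLM] at hTL0
    refine ⟨fun hne => ?_, hTL0⟩
    set TM := (T : Subgroup H) ⊓ M with hTM
    set TL := (T : Subgroup H) ⊓ L with hTL
    have hTLM : TL ≤ TM := inf_le_inf_left _ hLM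
    have hneM : TM ≠ ⊥ := fun hb => hne (le_bot_iff.1 (hTLM.trans_eq hb))
    have key : ∀ U : Subgroup H, IsPGroup p U → U ≠ ⊥ → TM ≤ normalizer (U : Set H) →
        (L ⊓ normalizer (U : Set H)) ⊓ centralizer (omegaZ p TM : Set H) =
          (L ⊓ normalizer (U : Set H)) ⊓ centralizer (omegaZ p TL : Set H) := by
      intro U hU hU1 hTU
      have hnn : M ⊓ normalizer (U : Set H) ≤
          normalizer ((L ⊓ normalizer (U : Set H) : Subgroup H) : Set H) := by
        intro g hg
        apply Amalgam.mem_normalizer_of_map_conj_eq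
        rw [Subgroup.map_inf _ _ _ (MulAut.conj g).injective,
          Amalgam.map_conj_eq_of_mem_normalizer (hn hg.1), Amalgam.map_conj_eq_of_mem hg.2]
      have h := kieler_step (p := p) (inf_le_inf_right _ hLM) hnn
        (ih.2.of_le (le_inf inf_le_right hTU) inf_le_left)
        (charP_inf_normalizer_local hH hU hU1 hMs) (charP_inf_normalizer_local hH hU hU1 hLs)
      have e : TM ⊓ (L ⊓ normalizer (U : Set H)) = TL := by
        rw [← inf_assoc, hTM, inf_assoc (T : Subgroup H), inf_of_le_right hLM, ← hTL]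
        exact inf_of_le_left (hTLM.trans hTU)
      rwa [e] at h
    have hTMp : IsPGroup p TM := T.2.to_le inf_le_left
    have hTLp : IsPGroup p TL := T.2.to_le inf_le_left
    have hTTL : TM ≤ normalizer (omegaZ p TL : Set H) := by
      refine le_trans (fun t ht => ?_) (normalizer_le_normalizer_omegaZ p TL)
      apply Amalgam.mem_normalizer_of_map_conj_eq
      rw [hTL, Subgroup.map_inf _ _ _ (MulAut.conj t).injective,
        Amalgam.map_conj_eq_of_mem ht.1, Amalgam.map_conj_eq_of_mem_normalizer (hn ht.2)]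
    have h1 := key _ (hTLp.to_le (omegaZ_le p TL)) (omegaZ_ne_bot hTLp hne) hTTL
    have h2 := key _ (hTMp.to_le (omegaZ_le p TM)) (omegaZ_ne_bot hTMp hneM)
      (Subgroup.le_normalizer.trans (normalizer_le_normalizer_omegaZ p TM))
    have hcn : ∀ A : Subgroup H, centralizer (A : Set H) ≤ normalizer (A : Set H) :=
      fun A => centralizer_le_normalizer _
    have h0 := ih.1 hneM
    ext x
    constructor
    · intro hx
      have hxM : x ∈ M ⊓ centralizer (omegaZ p TM : Set H) := h0 ▸ ⟨hLM hx.1, hx.2⟩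
      have : x ∈ (L ⊓ normalizer (omegaZ p TM : Set H)) ⊓ centralizer (omegaZ p TL : Set H) :=
        h2 ▸ ⟨⟨hx.1, hcn _ hxM.2⟩, hxM.2⟩
      exact ⟨hx.1, this.2⟩
    · intro hx
      have : x ∈ (L ⊓ normalizer (omegaZ p TL : Set H)) ⊓ centralizer (omegaZ p TM : Set H) :=
        h1.symm ▸ ⟨⟨hx.1, hcn _ hx.2⟩, hx.2⟩
      have hxM : x ∈ M ⊓ centralizer (omegaZ p (T : Subgroup H) : Set H) :=
        h0.symm ▸ ⟨hLM hx.1, this.2⟩
      exact ⟨hx.1, hxM.2⟩

/-- A subnormal subgroup containing a Sylow `p`-subgroup contains every `p`-element. -/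
theorem mem_of_isSubnormal_of_sylow_le {J : Subgroup H} (hJ : J.IsSubnormal) (Q : Sylow p H)
    (hQ : (Q : Subgroup H) ≤ J) {x : H} {k : ℕ} (hx : orderOf x = p ^ k) : x ∈ J := by
  have hxp : IsPGroup p (Subgroup.zpowers x) :=
    IsPGroup.of_card (n := k) (by rw [Nat.card_zpowers, hx])
  obtain ⟨P, hP⟩ := hxp.exists_le_sylow
  obtain ⟨P', hP'⟩ := S0542.result p J hJ P
  have h1 : Nat.card ((P : Subgroup H).subgroupOf J) = Nat.card ((Q : Subgroup H).subgroupOf J) := by
    rw [← hP']
    have := Sylow.card_eq_multiplicity P'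
    have := Sylow.card_eq_multiplicity (Q.subtype hQ)
    rw [Sylow.coe_subtype] at this
    omega
  have h2 : Nat.card ↥((P : Subgroup H) ⊓ J) = Nat.card (P : Subgroup H) := by
    have e1 : Nat.card ((P : Subgroup H).subgroupOf J) = Nat.card ↥((P : Subgroup H) ⊓ J) := by
      rw [← inf_subgroupOf_right]
      exact Nat.card_congr (subgroupOfEquivOfLe inf_le_right).toEquiv
    rw [← e1, h1, Nat.card_congr (subgroupOfEquivOfLe hQ).toEquiv,
      Sylow.card_eq_multiplicity P, Sylow.card_eq_multiplicity Q]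
  have h3 := eq_of_le_of_card_ge (inf_le_left : (P : Subgroup H) ⊓ J ≤ P) h2.ge
  exact inf_eq_left.1 h3 (hP (mem_zpowers x))

end Cfsg.Agent.Lib.LocalChar.KielerLocal
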