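import Mathlib
import Cfsg.Agent.Lib.SL2.Basic
import Cfsg.Agent.Lib.LinGroup.SLTwoSylow

/-!
# Quadratic modules of `SL₂(F)`

If the upper unitriangular group acts quadratically on an irreducible nontrivial module `M` of
`SL₂(F)`, then `M` is the natural module. The module splits as `C ⊕ D` (fixed points of the two
unitriangular groups) and the Weyl elements make `t ↦ A_t` a ring map on `C`.
The same follows when `|M| ≤ |C|²` and `p • M = 0`.
-/

set_option autoImplicit false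

namespace Cfsg.Agent.Lib.LocalChar.QuadSL2

open Matrix
open Cfsg.Agent.Lib.SL2 (SLtwo upper lower)

variable {F : Type*} [Field F] {M : Type*} [AddCommGroup M]

/-- Bundled data of an action. -/
abbrev Act (F : Type*) [Field F] (M : Type*) [AddCommGroup M] :=
  SLtwo F →* AddMonoid.End M

/-- Fixed points of the upper unitriangular group. -/
def fixU (ρ : Act F M) : AddSubgroup M where
  carrier := {v | ∀ t, ρ (upper t) v = v}
  zero_mem' := fun _ => map_zero _
  add_mem' := fun ha hb t => by rw [map_add, ha t, hb t]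
  neg_mem' := fun ha t => by rw [map_neg, ha t]

/-- Fixed points of the lower unitriangular group. -/
def fixL (ρ : Act F M) : AddSubgroup M where
  carrier := {v | ∀ t, ρ (lower t) v = v}
  zero_mem' := fun _ => map_zero _
  add_mem' := fun ha hb t => by rw [map_add, ha t, hb t]
  neg_mem' := fun ha t => by rw [map_neg, ha t]

/-- `upper t - 1`. -/
def A (ρ : Act F M) (t : F) : M →+ M := (show M →+ M from ρ (upper t)) - AddMonoidHom.id M

/-- `lower t - 1`. -/
def B (ρ : Act F M) (t : F) : M →+ M := (show M →+ M from ρ (lower t)) - AddMonoidHom.id M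

/-- The monomial element with upper right entry `t`. -/
def mono (t : F) : SLtwo F := upper t * lower (-t⁻¹) * upper t

/-- No proper nonzero invariant subgroup. -/
def IsIrred (ρ : Act F M) : Prop :=
  ∀ W : AddSubgroup M, (∀ g, ∀ v ∈ W, ρ g v ∈ W) → W = ⊥ ∨ W = ⊤

variable (ρ : Act F M)

theorem act_mul (g h : SLtwo F) (v : M) : ρ (g * h) v = ρ g (ρ h v) := by rw [map_mul]; rfl

theorem act_one (v : M) : ρ 1 v = v := by rw [map_one]; rfl

theorem act_inv_act (g : SLtwo F) (v : M) : ρ g⁻¹ (ρ g v) = v := by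
  rw [← act_mul, inv_mul_cancel, act_one]

theorem A_apply (t : F) (v : M) : ρ (upper t) v = v + A ρ t v :=
  (add_sub_cancel v (ρ (upper t) v)).symm

theorem B_apply (t : F) (v : M) : ρ (lower t) v = v + B ρ t v :=
  (add_sub_cancel v (ρ (lower t) v)).symm

theorem A_eq (t : F) (v : M) : A ρ t v = ρ (upper t) v - v := rfl

theorem B_def (t : F) (v : M) : B ρ t v = ρ (lower t) v - v := rfl

theorem B_zero (v : M) : B ρ 0 v = 0 := by
  rw [B_def, SL2.lower_zero, act_one, sub_self]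

theorem A_zero (v : M) : A ρ 0 v = 0 := by
  rw [A_eq, SL2.upper_zero, act_one, sub_self]

theorem A_of_mem {v : M} (h : v ∈ fixU ρ) (t : F) : A ρ t v = 0 := sub_eq_zero.2 (h t)

theorem B_of_mem {v : M} (h : v ∈ fixL ρ) (t : F) : B ρ t v = 0 := sub_eq_zero.2 (h t)

theorem mono_coe {t : F} (ht : t ≠ 0) :
    mono t 0 0 = 0 ∧ mono t 0 1 = t ∧ mono t 1 0 = -t⁻¹ ∧ mono t 1 1 = 0 := by
  refine ⟨?_, ?_, ?_, ?_⟩ <;> simp [mono, SL2.mul_00, SL2.mul_01, SL2.mul_10, SL2.mul_11, ht]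

theorem upper_mul_mono {t : F} (ht : t ≠ 0) (s : F) :
    upper s * mono t = mono t * lower (-s / t ^ 2) := by
  obtain ⟨a, b, c, d⟩ := mono_coe ht
  apply SL2.ext_entries <;> simp [SL2.mul_00, SL2.mul_01, SL2.mul_10, SL2.mul_11, a, b, c, d] <;>
    field_simp

theorem lower_mul_mono {t : F} (ht : t ≠ 0) (s : F) :
    lower s * mono t = mono t * upper (-s * t ^ 2) := by
  obtain ⟨a, b, c, d⟩ := mono_coe ht
  apply SL2.ext_entries <;> simp [SL2.mul_00, SL2.mul_01, SL2.mul_10, SL2.mul_11, a, b, c, d] <;>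
    field_simp

theorem diag_mul_mono (s : Fˣ) {t : F} (ht : t ≠ 0) :
    SL2.diag s * mono t = mono ((s : F) * t) := by
  obtain ⟨a, b, c, d⟩ := mono_coe ht
  obtain ⟨a', b', c', d'⟩ := mono_coe (mul_ne_zero s.ne_zero ht)
  apply SL2.ext_entries <;>
    simp only [SL2.mul_00, SL2.mul_01, SL2.mul_10, SL2.mul_11, SL2.diag_00, SL2.diag_01,
      SL2.diag_10, SL2.diag_11, a, b, c, d, a', b', c', d', Units.val_inv_eq_inv_val] <;>
    field_simp <;> ring

theorem upper_mul_diag (s : Fˣ) (t : F) :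
    upper t * SL2.diag s = SL2.diag s * upper (t / (s : F) ^ 2) := by
  apply SL2.ext_entries <;> simp [SL2.mul_00, SL2.mul_01, SL2.mul_10, SL2.mul_11] <;>
    field_simp

theorem lower_mul_diag (s : Fˣ) (t : F) :
    lower t * SL2.diag s = SL2.diag s * lower (t * (s : F) ^ 2) := by
  apply SL2.ext_entries <;> simp [SL2.mul_00, SL2.mul_01, SL2.mul_10, SL2.mul_11] <;>
    field_simp

theorem mono_mem_fixL {t : F} (ht : t ≠ 0) {c : M} (hc : c ∈ fixU ρ) :
    ρ (mono t) c ∈ fixL ρ := fun s => by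
  rw [← act_mul, lower_mul_mono ht, act_mul, hc]

theorem mono_mem_fixU {t : F} (ht : t ≠ 0) {d : M} (hd : d ∈ fixL ρ) :
    ρ (mono t) d ∈ fixU ρ := fun s => by
  rw [← act_mul, upper_mul_mono ht, act_mul, hd]

theorem diag_mem_fixU (s : Fˣ) {c : M} (hc : c ∈ fixU ρ) : ρ (SL2.diag s) c ∈ fixU ρ := fun t => by
  rw [← act_mul, upper_mul_diag, act_mul, hc]

theorem diag_mem_fixL (s : Fˣ) {d : M} (hd : d ∈ fixL ρ) : ρ (SL2.diag s) d ∈ fixL ρ := fun t => by
  rw [← act_mul, lower_mul_diag, act_mul, hd]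

/-- An element fixed by both unitriangular groups is fixed by everything. -/
theorem fix_all {v : M} (hu : v ∈ fixU ρ) (hl : v ∈ fixL ρ) (g : SLtwo F) : ρ g v = v := by
  let H : Subgroup (SLtwo F) :=
    { carrier := {g | ρ g v = v}
      one_mem' := act_one ρ v
      mul_mem' := fun {a b} ha hb => by
        show ρ (a * b) v = v
        rw [act_mul, hb, ha]
      inv_mem' := fun {a} ha => by
        show ρ a⁻¹ v = v
        conv_lhs => rw [← ha]
        exact act_inv_act ρ a v }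
  have : H = ⊤ := LinGroup.closure_upper_lower hu hl
  exact (this.symm ▸ Subgroup.mem_top g : g ∈ H)

theorem fix_inf (hfix : ∀ v, (∀ g, ρ g v = v) → v = 0) {v : M} (hu : v ∈ fixU ρ)
    (hl : v ∈ fixL ρ) : v = 0 := hfix v (fix_all ρ hu hl)

theorem split_unique (hfix : ∀ v, (∀ g, ρ g v = v) → v = 0) {c c' d d' : M}
    (hc : c ∈ fixU ρ) (hc' : c' ∈ fixU ρ) (hd : d ∈ fixL ρ) (hd' : d' ∈ fixL ρ)
    (h : c + d = c' + d') : c = c' ∧ d = d' := by
  have h1 : c - c' = d' - d := by rw [sub_eq_sub_iff_add_eq_add, h, add_comm]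
  have h2 : c - c' = 0 := fix_inf ρ hfix (sub_mem hc hc') (h1 ▸ sub_mem hd' hd)
  have h3 : c = c' := sub_eq_zero.1 h2
  exact ⟨h3, by rwa [h3, add_right_inj] at h⟩

theorem fix_zero_of_irred (hirr : IsIrred ρ) (hnt : ∃ g v, ρ g v ≠ v) :
    ∀ v, (∀ g, ρ g v = v) → v = 0 := by
  intro v hv
  let W : AddSubgroup M :=
    { carrier := {v | ∀ g, ρ g v = v}
      zero_mem' := fun g => map_zero _
      add_mem' := fun ha hb g => by rw [map_add, ha g, hb g]
      neg_mem' := fun ha g => by rw [map_neg, ha g] }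
  rcases hirr W (fun g w hw g' => by rw [← act_mul, hw, hw]) with h | h
  · exact AddSubgroup.mem_bot.1 (h ▸ (hv : v ∈ W))
  · obtain ⟨g, w, hgw⟩ := hnt
    exact absurd ((h.symm ▸ AddSubgroup.mem_top w : w ∈ W) g) hgw

section Quadratic

variable (hfix : ∀ v, (∀ g, ρ g v = v) → v = 0) (hA : ∀ t v, A ρ t v ∈ fixU ρ)
  (hB : ∀ t v, B ρ t v ∈ fixL ρ)

include hA in
theorem A_add (s t : F) (v : M) : A ρ (s + t) v = A ρ s v + A ρ t v := by
  have h : ρ (upper (s + t)) v = v + A ρ s v + A ρ t v := by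
    rw [← SL2.upper_mul, act_mul, A_apply ρ t v, map_add, hA t v s, A_apply ρ s v]
  rw [A_apply ρ (s + t) v, add_assoc] at h
  exact add_left_cancel h

include hB in
theorem B_add (s t : F) (v : M) : B ρ (s + t) v = B ρ s v + B ρ t v := by
  have h : ρ (lower (s + t)) v = v + B ρ s v + B ρ t v := by
    rw [← SL2.lower_mul, act_mul, B_apply ρ t v, map_add, hB t v s, B_apply ρ s v]
  rw [B_apply ρ (s + t) v, add_assoc] at h
  exact add_left_cancel h

include hfix hA hB in
theorem mono_fixU {t : F} (ht : t ≠ 0) {c : M} (hc : c ∈ fixU ρ) :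
    c + A ρ t (B ρ (-t⁻¹) c) = 0 ∧ ρ (mono t) c = B ρ (-t⁻¹) c := by
  set b := B ρ (-t⁻¹) c
  have h1 : ρ (mono t) c = (c + A ρ t b) + b := by
    rw [mono, act_mul, act_mul, hc t, B_apply ρ (-t⁻¹) c, map_add, hc t, A_apply ρ t b]
    abel
  have h2 := split_unique ρ hfix (add_mem hc (hA t b)) (fixU ρ).zero_mem (hB _ _)
    (mono_mem_fixL ρ ht hc) (by rw [zero_add, h1] : c + A ρ t b + b = 0 + ρ (mono t) c)
  exact ⟨h2.1, h2.2.symm⟩

include hfix hA hB in
theorem mono_fixL {t : F} (ht : t ≠ 0) {d : M} (hd : d ∈ fixL ρ) :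
    d + B ρ (-t⁻¹) (A ρ t d) = 0 ∧ ρ (mono t) d = A ρ t d := by
  set a := A ρ t d
  set b := B ρ (-t⁻¹) a
  have h1 : ρ (mono t) d = (a + a + A ρ t b) + (d + b) := by
    rw [mono, act_mul, act_mul, A_apply ρ t d, map_add (ρ (lower (-t⁻¹))), hd (-t⁻¹),
      B_apply ρ (-t⁻¹) a, map_add, map_add, A_apply ρ t d, A_apply ρ t b, hA t d t]
    abel
  have h2 := split_unique ρ hfix (add_mem (add_mem (hA t d) (hA t d)) (hA t b))
    (mono_mem_fixU ρ ht hd) (add_mem hd (hB _ _)) (fixL ρ).zero_mem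
    (by rw [add_zero, h1] : a + a + A ρ t b + (d + b) = ρ (mono t) d + 0)
  refine ⟨h2.2, ?_⟩
  rw [← h2.1, show b = -d from eq_neg_of_add_eq_zero_right h2.2, map_neg]
  show a + a + -a = a
  abel

include hfix hA hB in
theorem A_one_B_one {c : M} (hc : c ∈ fixU ρ) : A ρ 1 (B ρ 1 c) = c := by
  have h := (mono_fixU ρ hfix hA hB one_ne_zero hc).1
  rw [inv_one] at h
  have h1 := B_add ρ hB 1 (-1) c
  rw [add_neg_cancel] at h1
  have h2 : B ρ 0 c = 0 := B_zero ρ c
  rw [eq_neg_of_add_eq_zero_right (h1.symm.trans h2), map_neg] at h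
  exact (add_neg_eq_zero.1 h).symm

/-- The scalar action on the fixed points. -/
def sc (t : F) : M →+ M := (A ρ t).comp (B ρ 1)

include hA in
theorem sc_mem (t : F) (c : M) : sc ρ t c ∈ fixU ρ := hA t _

include hfix hA hB in
theorem diag_fixU (s : Fˣ) {c : M} (hc : c ∈ fixU ρ) : ρ (SL2.diag s) c = sc ρ (s : F) c := by
  have h1 : ρ (mono 1) (B ρ 1 c) = c :=
    (mono_fixL ρ hfix hA hB one_ne_zero (hB 1 c)).2.trans (A_one_B_one ρ hfix hA hB hc)
  conv_lhs => rw [← h1]
  rw [← act_mul, diag_mul_mono s one_ne_zero, mul_one]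
  exact (mono_fixL ρ hfix hA hB s.ne_zero (hB 1 c)).2

include hfix hA hB in
theorem sc_mul (s t : F) {c : M} (hc : c ∈ fixU ρ) : sc ρ (s * t) c = sc ρ s (sc ρ t c) := by
  rcases eq_or_ne s 0 with rfl | hs
  · simp [sc, A_zero]
  rcases eq_or_ne t 0 with rfl | ht
  · simp [sc, A_zero]
  have h1 := diag_fixU ρ hfix hA hB (Units.mk0 s hs * Units.mk0 t ht) hc
  rw [← SL2.diag_mul, act_mul, diag_fixU ρ hfix hA hB (Units.mk0 t ht) hc,
    diag_fixU ρ hfix hA hB (Units.mk0 s hs) (sc_mem ρ hA _ c)] at h1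
  exact h1.symm

include hfix hA hB in
theorem sc_one {c : M} (hc : c ∈ fixU ρ) : sc ρ 1 c = c := A_one_B_one ρ hfix hA hB hc

include hA in
theorem sc_add (s t : F) (c : M) : sc ρ (s + t) c = sc ρ s c + sc ρ t c := A_add ρ hA s t _

include hfix hA hB in
theorem B_eq {u : F} {c : M} (hc : c ∈ fixU ρ) : B ρ u c = B ρ 1 (sc ρ u c) := by
  rcases eq_or_ne u 0 with rfl | hu
  · simp [sc, A_zero, B_zero]
  set d := B ρ u c with hd
  have hdD : d ∈ fixL ρ := hB u c
  -- read both sides through `A 1`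
  have h1 : d + B ρ (-1) (A ρ 1 d) = 0 := by
    simpa using (mono_fixL ρ hfix hA hB one_ne_zero hdD).1
  have h2 : d = B ρ 1 (A ρ 1 d) := by
    have h3 := B_add ρ hB 1 (-1) (A ρ 1 d)
    rw [add_neg_cancel] at h3
    have h4 : B ρ 0 (A ρ 1 d) = 0 := B_zero ρ _
    exact (eq_neg_of_add_eq_zero_left h1).trans (eq_neg_of_add_eq_zero_left (h3.symm.trans h4)).symm
  have h5 : c + A ρ (-u⁻¹) d = 0 := by
    simpa [hd, inv_neg, hu] using
      (mono_fixU ρ hfix hA hB (neg_ne_zero.2 (inv_ne_zero hu)) hc).1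
  have h6 : A ρ (-u⁻¹) d = sc ρ (-u⁻¹) (A ρ 1 d) := by
    conv_lhs => rw [h2]
    rfl
  have h7 : sc ρ u c + sc ρ (-1) (A ρ 1 d) = 0 := by
    rw [show (-1 : F) = u * (-u⁻¹) by field_simp, sc_mul ρ hfix hA hB _ _ (hA 1 d), ← map_add,
      ← h6, h5, map_zero]
  have h8 : sc ρ (-1) (A ρ 1 d) = -(A ρ 1 d) := by
    have h9 := sc_add ρ hA 1 (-1) (A ρ 1 d)
    rw [add_neg_cancel, sc_one ρ hfix hA hB (hA 1 d)] at h9
    refine eq_neg_of_add_eq_zero_right (h9.symm.trans ?_)
    simp [sc, A_zero]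
  rw [h8, add_neg_eq_zero] at h7
  rw [h7, ← h2]

/-- The comparison map attached to a fixed point. -/
def natMap (c : M) (hA : ∀ t v, A ρ t v ∈ fixU ρ) : (Fin 2 → F) →+ M where
  toFun z := sc ρ (z 0) c + B ρ 1 (sc ρ (z 1) c)
  map_zero' := by simp [sc, A_zero]
  map_add' z z' := by
    simp only [Pi.add_apply, sc_add ρ hA, map_add]
    abel

include hfix hA hB in
theorem natMap_upper {c : M} (hc : c ∈ fixU ρ) (t : F) (z : Fin 2 → F) :
    ρ (upper t) (natMap ρ c hA z) =
      natMap ρ c hA ((upper t : SLtwo F).1 *ᵥ z) := by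
  have hz : ((upper t : SLtwo F).1 *ᵥ z) 0 = z 0 + t * z 1 ∧
      ((upper t : SLtwo F).1 *ᵥ z) 1 = z 1 := by
    constructor <;> simp [Matrix.mulVec, dotProduct, Fin.sum_univ_two, upper, SL2.ofEntries]
  show ρ (upper t) (sc ρ (z 0) c + B ρ 1 (sc ρ (z 1) c)) = sc ρ _ c + B ρ 1 (sc ρ _ c)
  rw [hz.1, hz.2, map_add, (sc_mem ρ hA (z 0) c) t, A_apply ρ t, sc_add ρ hA,
    sc_mul ρ hfix hA hB t (z 1) hc]
  show _ = _ + A ρ t (B ρ 1 (sc ρ (z 1) c)) + _
  abel

include hfix hA hB in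
theorem natMap_lower {c : M} (hc : c ∈ fixU ρ) (t : F) (z : Fin 2 → F) :
    ρ (lower t) (natMap ρ c hA z) =
      natMap ρ c hA ((lower t : SLtwo F).1 *ᵥ z) := by
  have hz : ((lower t : SLtwo F).1 *ᵥ z) 0 = z 0 ∧
      ((lower t : SLtwo F).1 *ᵥ z) 1 = t * z 0 + z 1 := by
    constructor <;> simp [Matrix.mulVec, dotProduct, Fin.sum_univ_two, lower, SL2.ofEntries]
  show ρ (lower t) (sc ρ (z 0) c + B ρ 1 (sc ρ (z 1) c)) = sc ρ _ c + B ρ 1 (sc ρ _ c)
  rw [hz.1, hz.2, map_add, hB 1 _ t, B_apply ρ t,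
    B_eq ρ hfix hA hB (sc_mem ρ hA (z 0) c), sc_add ρ hA, map_add (B ρ 1),
    sc_mul ρ hfix hA hB t (z 0) hc]
  abel

include hfix hA hB in
theorem natMap_injective {c : M} (hc : c ∈ fixU ρ) (hc0 : c ≠ 0) :
    Function.Injective (natMap ρ c hA) := by
  refine (injective_iff_map_eq_zero _).2 fun z hz => ?_
  have h := split_unique ρ hfix (sc_mem ρ hA (z 0) c) (fixU ρ).zero_mem
    (hB 1 _) (fixL ρ).zero_mem
    (hz.trans (add_zero 0).symm : sc ρ (z 0) c + B ρ 1 (sc ρ (z 1) c) = 0 + 0)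
  have key : ∀ a : F, sc ρ a c = 0 → a = 0 := fun a ha => by
    by_contra hne
    have := sc_mul ρ hfix hA hB a⁻¹ a hc
    rw [inv_mul_cancel₀ hne, sc_one ρ hfix hA hB hc, ha, map_zero] at this
    exact hc0 this
  have h2 : sc ρ (z 1) c = 0 := by
    have := A_one_B_one ρ hfix hA hB (sc_mem ρ hA (z 1) c)
    rw [h.2, map_zero] at this
    exact this.symm
  funext i
  fin_cases i
  · exact key _ h.1
  · exact key _ h2

end Quadratic

theorem B_mem_of_A_mem (hA : ∀ t v, A ρ t v ∈ fixU ρ) (t : F) (v : M) : B ρ t v ∈ fixL ρ := by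
  have h : lower t = mono 1 * upper (-t) * (mono 1)⁻¹ := by
    rw [eq_mul_inv_iff_mul_eq, lower_mul_mono one_ne_zero]
    simp
  have h1 : B ρ t v = ρ (mono 1) (A ρ (-t) (ρ (mono 1)⁻¹ v)) := by
    rw [B_def, A_eq, map_sub, ← act_mul, ← act_mul, ← act_mul, ← h, mul_inv_cancel,
      act_one]
  rw [h1]
  exact mono_mem_fixL ρ one_ne_zero (hA _ _)

/-- **Quadratic irreducible modules of `SL₂(F)` are natural.** -/
theorem exists_natural (hirr : IsIrred ρ) (hnt : ∃ g v, ρ g v ≠ v)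
    (hA : ∀ t v, A ρ t v ∈ fixU ρ) :
    ∃ ψ : M ≃+ (Fin 2 → F), ∀ (g : SLtwo F) (v : M), ψ (ρ g v) = g.1 *ᵥ ψ v := by
  have hfix := fix_zero_of_irred ρ hirr hnt
  have hB := B_mem_of_A_mem ρ hA
  obtain ⟨c, hc, hc0⟩ : ∃ c, c ∈ fixU ρ ∧ c ≠ 0 := by
    by_contra hcon
    push Not at hcon
    obtain ⟨g, v, hgv⟩ := hnt
    have hU : ∀ w t, ρ (upper t) w = w := fun w t =>
      sub_eq_zero.1 (hcon _ (hA t w))
    have hL : ∀ w t, ρ (lower t) w = w := fun w t => by
      have h : lower t = mono 1 * upper (-t) * (mono 1)⁻¹ := by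
        rw [eq_mul_inv_iff_mul_eq, lower_mul_mono one_ne_zero]
        simp
      rw [h, act_mul, act_mul, hU, ← act_mul, mul_inv_cancel, act_one]
    exact hgv (fix_all ρ (hU v) (hL v) g)
  set Φ := natMap ρ c hA with hΦ
  let H : Subgroup (SLtwo F) :=
    { carrier := {g | ∀ z, ρ g (Φ z) = Φ (g.1 *ᵥ z)}
      one_mem' := fun z => by simp
      mul_mem' := fun {a b} ha hb z => by
        rw [act_mul, hb, ha, Matrix.mulVec_mulVec]
        rfl
      inv_mem' := fun {a} ha z => by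
        have h := ha ((a⁻¹).1 *ᵥ z)
        rw [Matrix.mulVec_mulVec, ← Matrix.SpecialLinearGroup.coe_mul, mul_inv_cancel,
          Matrix.SpecialLinearGroup.coe_one, Matrix.one_mulVec] at h
        rw [← h, act_inv_act] }
  have hH : H = ⊤ := LinGroup.closure_upper_lower
    (fun t z => natMap_upper ρ hfix hA hB hc t z) (fun t z => natMap_lower ρ hfix hA hB hc t z)
  have heq : ∀ g z, ρ g (Φ z) = Φ (g.1 *ᵥ z) := fun g =>
    (hH.symm ▸ Subgroup.mem_top g : g ∈ H)
  have hinj := natMap_injective ρ hfix hA hB hc hc0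
  have hsurj : Function.Surjective Φ := by
    rcases hirr Φ.range (by rintro g _ ⟨z, rfl⟩; exact ⟨_, (heq g z).symm⟩) with h | h
    · refine absurd ?_ hc0
      have : Φ ![1, 0] ∈ Φ.range := ⟨_, rfl⟩
      rw [h, AddSubgroup.mem_bot] at this
      exact absurd (hinj (this.trans (map_zero Φ).symm)) fun h' => by simpa using congrFun h' 0
    · exact AddMonoidHom.range_eq_top.1 h
  refine ⟨(AddEquiv.ofBijective Φ ⟨hinj, hsurj⟩).symm, fun g v => ?_⟩
  obtain ⟨z, rfl⟩ := hsurj v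
  rw [heq]
  have key : ∀ y, (AddEquiv.ofBijective Φ ⟨hinj, hsurj⟩).symm (Φ y) = y := fun y =>
    (AddEquiv.ofBijective Φ ⟨hinj, hsurj⟩).symm_apply_apply y
  rw [key, key]

/-- If `|M| ≤ |C|²` on an irreducible module of exponent `p`, the action is quadratic. -/
theorem quadratic_of_card [Finite M] [Fintype F] (p : ℕ) [Fact p.Prime] [CharP F p]
    (hM : ∀ v : M, p • v = 0) (hirr : IsIrred ρ) (hnt : ∃ g v, ρ g v ≠ v)
    (hcard : Nat.card M ≤ Nat.card (fixU ρ) ^ 2) : ∀ t v, A ρ t v ∈ fixU ρ := by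
  classical
  have hfix := fix_zero_of_irred ρ hirr hnt
  -- the two fixed point groups span
  have hDC : Nat.card (fixU ρ) ≤ Nat.card (fixL ρ) := by
    refine Nat.card_le_card_of_injective
      (fun c : fixU ρ => (⟨ρ (mono 1) c, mono_mem_fixL ρ one_ne_zero c.2⟩ : fixL ρ))
      fun a b hab => Subtype.ext ?_
    have := congrArg (fun d : fixL ρ => ρ (mono (1 : F))⁻¹ (d : M)) hab
    simpa [act_inv_act] using this
  have hspan : ∀ v : M, ∃ c ∈ fixU ρ, ∃ d ∈ fixL ρ, v = c + d := by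
    let f : fixU ρ × fixL ρ → M := fun x => (x.1 : M) + (x.2 : M)
    have hf : Function.Injective f := by
      rintro ⟨a, b⟩ ⟨a', b'⟩ h
      obtain ⟨h1, h2⟩ := split_unique ρ hfix a.2 a'.2 b.2 b'.2 h
      exact Prod.ext (Subtype.ext h1) (Subtype.ext h2)
    have hle : Nat.card M ≤ Nat.card (fixU ρ × fixL ρ) := by
      rw [Nat.card_prod]
      calc Nat.card M ≤ Nat.card (fixU ρ) ^ 2 := hcard
        _ ≤ _ := by rw [sq]; exact Nat.mul_le_mul_left _ hDC
    have hbij := (Nat.bijective_iff_injective_and_card f).2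
      ⟨hf, le_antisymm (Nat.card_le_card_of_injective f hf) hle⟩
    intro v
    obtain ⟨⟨a, b⟩, h⟩ := hbij.2 v
    exact ⟨a, a.2, b, b.2, h.symm⟩
  -- the two groups commute
  have hcomm : ∀ s t (v : M), A ρ s (A ρ t v) = A ρ t (A ρ s v) := by
    intro s t v
    have h := act_mul ρ (upper s) (upper t) v
    have h' := act_mul ρ (upper t) (upper s) v
    rw [SL2.upper_mul] at h h'
    rw [add_comm t s, h] at h'
    simp only [A_apply, map_add] at h'
    rw [← add_assoc, ← add_assoc, add_right_comm v (A ρ t v)] at h'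
    exact add_left_cancel h'
  have hnil : ∀ t v, (⇑(A ρ t))^[p] v = 0 := by
    intro t v
    by_cases hv0 : ∀ w : M, w = 0
    · exact hv0 _
    push Not at hv0
    obtain ⟨w, hw⟩ := hv0
    haveI : CharP (AddMonoid.End M) p := by
      have ho : addOrderOf (1 : AddMonoid.End M) = p :=
        addOrderOf_eq_prime (AddMonoidHom.ext fun u => hM u)
          fun h => hw (congrArg (fun f : AddMonoid.End M => f w) h)
      exact ho ▸ CharP.addOrderOf_one _
    have hpow : ∀ n : ℕ, upper t ^ n = upper ((n : F) * t) := fun n => by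
      induction n with
      | zero => simp [SL2.upper_zero]
      | succ n ih => rw [pow_succ, ih, SL2.upper_mul, Nat.cast_succ, add_mul, one_mul]
    have h0 : (ρ (upper t) - 1) ^ p = 0 := by
      rw [sub_pow_char_of_commute (p := p) (Commute.one_right _), one_pow, ← map_pow, hpow,
        CharP.cast_eq_zero, zero_mul, SL2.upper_zero, map_one, sub_self]
    have h1 := congrArg (fun f : AddMonoid.End M => f v) h0
    rwa [AddMonoid.End.coe_pow] at h1
  -- something outside `fixU` is moved into it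
  obtain ⟨v₀, hv₀, hv₀C⟩ : ∃ v, v ∉ fixU ρ ∧ ∀ t, A ρ t v ∈ fixU ρ := by
    suffices ∀ T : Finset F, ∃ v, v ∉ fixU ρ ∧ ∀ t ∈ T, A ρ t v ∈ fixU ρ by
      obtain ⟨v, h1, h2⟩ := this Finset.univ
      exact ⟨v, h1, fun t => h2 t (Finset.mem_univ t)⟩
    intro T
    induction T using Finset.induction with
    | empty =>
      obtain ⟨g, v, hgv⟩ := hnt
      by_contra hcon
      push Not at hcon
      have hall : ∀ w, w ∈ fixU ρ := fun w => by
        by_contra hw
        obtain ⟨t, ht, -⟩ := hcon w hw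
        simp at ht
      exact hgv (fix_all ρ (hall v) (fun s => by
        obtain ⟨w, hw⟩ : ∃ w, ρ (mono 1) w = v := ⟨ρ (mono 1)⁻¹ v, by
          rw [← act_mul, mul_inv_cancel, act_one]⟩
        exact hw ▸ mono_mem_fixL ρ one_ne_zero (hall w) s) g)
    | @insert t T _ ih =>
      obtain ⟨v, hv, hT⟩ := ih
      have hex : ∃ k, (⇑(A ρ t))^[k] v ∈ fixU ρ := ⟨p, by rw [hnil]; exact zero_mem _⟩
      obtain ⟨k, hk⟩ : ∃ k, Nat.find hex = k + 1 :=
        ⟨Nat.find hex - 1, by
          have : 0 < Nat.find hex := (Nat.find_pos hex).2 (by simpa using hv)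
          omega⟩
      refine ⟨(⇑(A ρ t))^[k] v, Nat.find_min hex (by omega), ?_⟩
      intro s hs
      rcases Finset.mem_insert.1 hs with rfl | hs
      · have := Nat.find_spec hex
        rwa [hk, Function.iterate_succ_apply'] at this
      · have hc : ∀ j : ℕ, A ρ s ((⇑(A ρ t))^[j] v) = (⇑(A ρ t))^[j] (A ρ s v) := by
          intro j
          induction j with
          | zero => rfl
          | succ j ihj => rw [Function.iterate_succ_apply', hcomm, ihj, Function.iterate_succ_apply']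
        rw [hc]
        cases k with
        | zero => exact hT s hs
        | succ j =>
          rw [Function.iterate_succ_apply, A_of_mem ρ (hT s hs), iterate_map_zero]
          exact zero_mem _
  -- those of `fixL` moved into `fixU` form a diagonal invariant group
  let E : AddSubgroup M :=
    { carrier := {d | d ∈ fixL ρ ∧ ∀ t, A ρ t d ∈ fixU ρ}
      zero_mem' := ⟨zero_mem _, fun t => by rw [map_zero]; exact zero_mem _⟩
      add_mem' := fun ha hb => ⟨add_mem ha.1 hb.1, fun t => by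
        rw [map_add]; exact add_mem (ha.2 t) (hb.2 t)⟩
      neg_mem' := fun ha => ⟨neg_mem ha.1, fun t => by rw [map_neg]; exact neg_mem (ha.2 t)⟩ }
  obtain ⟨d₀, hd₀, hd₀0⟩ : ∃ d ∈ E, d ≠ 0 := by
    obtain ⟨c, hc, d, hd, rfl⟩ := hspan v₀
    refine ⟨d, ⟨hd, fun t => ?_⟩, fun h => hv₀ (by rw [h, add_zero]; exact hc)⟩
    have := hv₀C t
    rwa [map_add, A_of_mem ρ hc, zero_add] at this
  set W := fixU ρ ⊔ E
  have hCW : ∀ x ∈ fixU ρ, x ∈ W := fun x hx => AddSubgroup.mem_sup_left hx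
  have hEW : ∀ x ∈ E, x ∈ W := fun x hx => AddSubgroup.mem_sup_right hx
  have horb : ∀ g : SLtwo F, ρ g d₀ ∈ W := by
    intro g
    have hdet := SL2.det_entries g
    by_cases h11 : g 1 1 = 0
    · have hb : g 0 1 ≠ 0 := fun h => by simp [h11, h] at hdet
      have hg : g = upper (-(g 0 0 * g 0 1)) * mono (g 0 1) := by
        obtain ⟨a, b, c, d⟩ := mono_coe hb
        apply SL2.ext_entries <;>
          simp [SL2.mul_00, SL2.mul_01, SL2.mul_10, SL2.mul_11, a, b, c, d, h11] <;>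
          field_simp <;> linear_combination (norm := (simp [h11]; ring)) -hdet
      rw [hg, act_mul]
      have := mono_mem_fixU ρ hb hd₀.1
      rw [this]
      exact hCW _ this
    · have hg : g = upper (g 0 1 / g 1 1) * SL2.diag (Units.mk0 (g 1 1)⁻¹ (inv_ne_zero h11)) *
          lower (g 1 0 / g 1 1) := by
        apply SL2.ext_entries <;>
          simp [SL2.mul_00, SL2.mul_01, SL2.mul_10, SL2.mul_11] <;>
          field_simp <;> linear_combination hdet
      rw [hg, act_mul, act_mul, hd₀.1, A_apply]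
      have hdiag : ∀ s : Fˣ, ρ (SL2.diag s) d₀ ∈ E := fun s => ⟨diag_mem_fixL ρ s hd₀.1, fun t => by
        rw [A_eq, ← act_mul, upper_mul_diag, act_mul, ← map_sub]
        exact diag_mem_fixU ρ s (hd₀.2 _)⟩
      exact add_mem (hEW _ (hdiag _)) (hCW _ ((hdiag _).2 _))
  -- so everything is moved into the fixed points
  set W' : AddSubgroup M := AddSubgroup.closure (Set.range fun g => ρ g d₀)
  have hW'W : W' ≤ W := (AddSubgroup.closure_le _).2 (by rintro _ ⟨g, rfl⟩; exact horb g)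
  have hW'inv : ∀ g, ∀ v ∈ W', ρ g v ∈ W' := by
    intro g v hv
    refine (AddSubgroup.closure_le (W'.comap (ρ g))).2 ?_ hv
    rintro _ ⟨h, rfl⟩
    exact AddSubgroup.subset_closure ⟨g * h, act_mul ρ g h d₀⟩
  have hd₀W : d₀ ∈ W' := AddSubgroup.subset_closure ⟨1, act_one ρ d₀⟩
  have htop : W' = ⊤ := (hirr W' hW'inv).resolve_left fun h =>
    hd₀0 (AddSubgroup.mem_bot.1 (h ▸ hd₀W))
  intro t v
  obtain ⟨c, hc, d, hd, rfl⟩ := AddSubgroup.mem_sup.1 (hW'W (htop.symm ▸ AddSubgroup.mem_top v))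
  rw [map_add, A_of_mem ρ hc, zero_add]
  exact hd.2 t

end Cfsg.Agent.Lib.LocalChar.QuadSL2
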