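import Cfsg.Prelude.Def_BaumannBlocks
import Cfsg.Agent.Lib.PGroup.QuadraticPair
import Cfsg.Agent.Lib.LocalChar.QuadraticSL2

/-!
# Quadratic modules of `SL₂(F)` inside a group
-/

set_option autoImplicit false

namespace Cfsg.Agent.Lib.LocalChar.QuadSL2

open Subgroup
open scoped Pointwise commutatorElement IsMulCommutative

variable {X : Type*} [Group X] [Finite X] {p : ℕ} [Fact p.Prime]

/-- The coordinates of an irreducible quadratic module of `SL₂(F)`, as a section. -/
theorem actsAsSL2 (G V : Subgroup X) (hV : Cfsg.IsElementaryAbelian p V)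
    (hGV : G ≤ normalizer (V : Set X)) (F : Type) [Field F] [Fintype F] (n : ℕ)
    (hF : Fintype.card F = p ^ n)
    (e : ↥G ≃* Matrix.SpecialLinearGroup (Fin 2) F)
    (hirr : ∀ U : Subgroup X, U ≤ V → G ≤ normalizer (U : Set X) → U = ⊥ ∨ U = V)
    (hnt : ⁅V, G⁆ ≠ ⊥) (S : Sylow p ↥G)
    (hyp : ⁅⁅V, (S : Subgroup ↥G).map G.subtype⁆, (S : Subgroup ↥G).map G.subtype⁆ = ⊥ ∨
      Nat.card ↥V ≤ Nat.card ↥(V ⊓ centralizer
        (((S : Subgroup ↥G).map G.subtype : Subgroup X) : Set X)) ^ 2) :
    Cfsg.ActsAsSL2OnSection F ⊤ G V ⊥ := by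
  classical
  haveI : IsMulCommutative V := hV.1
  haveI : CharP F p := charP_of_card_eq_prime_pow (f := n) hF
  -- move `S` to the upper unitriangular group
  obtain ⟨g, hg⟩ := LinGroup.exists_conj_upperSub p (S.mapSurjective (f := e.toMonoidHom) e.surjective)
  set e' : ↥G ≃* Matrix.SpecialLinearGroup (Fin 2) F := e.trans (MulAut.conj g).symm with he'
  have hS : ∀ x : ↥G, x ∈ (S : Subgroup ↥G) ↔ e' x ∈ LinGroup.upperSub := by
    intro x
    have h1 : x ∈ (S : Subgroup ↥G) ↔ e x ∈
        ((S.mapSurjective (f := e.toMonoidHom) e.surjective : Sylow p _) :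
          Subgroup (Matrix.SpecialLinearGroup (Fin 2) F)) := by
      show x ∈ (S : Subgroup ↥G) ↔ e.toMonoidHom x ∈ (S : Subgroup ↥G).map e.toMonoidHom
      exact (mem_map_iff_mem e.injective).symm
    rw [h1, hg, Subgroup.mem_pointwise_smul_iff_inv_smul_mem]
    rfl
  let ρ : Act F (Additive V) := (QuadraticPair.actAdd V G hGV).comp e'.symm.toMonoidHom
  have hval : ∀ (l : Matrix.SpecialLinearGroup (Fin 2) F) (v : Additive V),
      ((Additive.toMul (ρ l v) : V) : X) =
        (e'.symm l : X) * (Additive.toMul v : V) * (e'.symm l : X)⁻¹ := fun l v => rfl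
  have hnt' : ∃ l v, ρ l v ≠ v := by
    by_contra hcon
    push Not at hcon
    refine hnt (commutator_eq_bot_iff_le_centralizer.2 fun v hv => mem_centralizer_iff.2 fun l hl => ?_)
    have h := congrArg (fun w : Additive V => ((Additive.toMul w : V) : X))
      (hcon (e' ⟨l, hl⟩) (Additive.ofMul (⟨v, hv⟩ : V)))
    simp only [hval, MulEquiv.symm_apply_apply, toMul_ofMul] at h
    exact mul_inv_eq_iff_eq_mul.1 h
  have hirr' : IsIrred ρ := by
    intro W hW
    let U : Subgroup X :=
      { carrier := {x | ∃ h : x ∈ V, Additive.ofMul (⟨x, h⟩ : V) ∈ W}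
        one_mem' := ⟨one_mem V, W.zero_mem⟩
        mul_mem' := by
          rintro a b ⟨ha, ha'⟩ ⟨hb, hb'⟩
          exact ⟨mul_mem ha hb, W.add_mem ha' hb'⟩
        inv_mem' := by
          rintro a ⟨ha, ha'⟩
          exact ⟨inv_mem ha, W.neg_mem ha'⟩ }
    have hUG : G ≤ normalizer (U : Set X) := by
      have key : ∀ l ∈ G, ∀ x ∈ U, l * x * l⁻¹ ∈ U := by
        rintro l hl x ⟨hx, hxW⟩
        refine ⟨(mem_normalizer_iff.1 (hGV hl) x).1 hx, ?_⟩
        convert hW (e' ⟨l, hl⟩) _ hxW using 1
        apply Additive.toMul.injective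
        apply Subtype.ext
        rw [hval, MulEquiv.symm_apply_apply]
        rfl
      refine fun l hl => mem_normalizer_iff.2 fun x => ⟨key l hl x, fun h => ?_⟩
      have := key l⁻¹ (inv_mem hl) _ h
      simpa [mul_assoc] using this
    rcases hirr U (fun x hx => hx.1) hUG with h | h
    · refine Or.inl ((AddSubgroup.eq_bot_iff_forall _).2 fun w hw => ?_)
      have : ((Additive.toMul w : V) : X) ∈ U := ⟨(Additive.toMul w : V).2, hw⟩
      rw [h, mem_bot] at this
      exact Additive.toMul.injective (Subtype.ext this)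
    · refine Or.inr (_root_.eq_top_iff.2 fun w _ => ?_)
      have h1 : ((Additive.toMul w : V) : X) ∈ U := by rw [h]; exact (Additive.toMul w : V).2
      exact h1.2
  have hup : ∀ t, (e'.symm (SL2.upper t) : X) ∈ (S : Subgroup ↥G).map G.subtype := fun t =>
    mem_map_of_mem _ ((hS _).2 (by
      rw [MulEquiv.apply_symm_apply]
      exact LinGroup.mem_upperSub_iff.2 ⟨t, rfl⟩))
  have hmemU : ∀ v : Additive V, ((Additive.toMul v : V) : X) ∈
      centralizer (((S : Subgroup ↥G).map G.subtype : Subgroup X) : Set X) ↔ v ∈ fixU ρ := by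
    intro v
    constructor
    · intro h t
      apply Additive.toMul.injective
      apply Subtype.ext
      rw [hval, mem_centralizer_iff.1 h _ (hup t), mul_inv_cancel_right]
    · intro h
      refine mem_centralizer_iff.2 ?_
      rintro _ ⟨x, hx, rfl⟩
      obtain ⟨t, ht⟩ := LinGroup.mem_upperSub_iff.1 ((hS x).1 hx)
      have h1 := congrArg (fun w : Additive V => ((Additive.toMul w : V) : X)) (h t)
      simp only [hval, ← ht, MulEquiv.symm_apply_apply] at h1
      exact mul_inv_eq_iff_eq_mul.1 h1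
  have hA : ∀ t v, A ρ t v ∈ fixU ρ := by
    rcases hyp with h | h
    · intro t v
      refine (hmemU _).1 ?_
      set w : X := ((Additive.toMul v : V) : X)
      set s : X := (e'.symm (SL2.upper t) : X)
      have h1 : ((Additive.toMul (A ρ t v) : V) : X) = ⁅w, s⁆⁻¹ := by
        rw [A_eq, toMul_sub, Subgroup.coe_div, hval]
        simp [commutatorElement_def, div_eq_mul_inv, mul_assoc, w, s]
      rw [h1]
      exact inv_mem (commutator_eq_bot_iff_le_centralizer.1 h
        (commutator_mem_commutator (Additive.toMul v : V).2 (hup t)))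
    · refine quadratic_of_card ρ p (fun v => ?_) hirr' hnt' ?_
      · apply Additive.toMul.injective
        apply Subtype.ext
        rw [toMul_nsmul, toMul_zero, SubgroupClass.coe_pow]
        exact hV.2 _ (Additive.toMul v : V).2
      · refine le_trans (le_of_eq ?_) (le_trans h (Nat.pow_le_pow_left (le_of_eq ?_) 2))
        · exact Nat.card_congr Additive.toMul
        · refine Nat.card_congr ⟨fun x => ⟨Additive.ofMul (⟨x.1, x.2.1⟩ : V), (hmemU _).1 x.2.2⟩,
            fun x => ⟨((Additive.toMul (x.1 : Additive V) : V) : X),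
              ⟨(Additive.toMul (x.1 : Additive V) : V).2, (hmemU _).2 x.2⟩⟩, fun x => rfl, fun x => rfl⟩
  obtain ⟨ψ, hψ⟩ := exists_natural ρ hirr' hnt' hA
  refine ⟨hGV, bot_le, e'.toMonoidHom, AddMonoidHom.toMultiplicativeRight ψ.toAddMonoidHom,
    MonoidHom.range_eq_top.2 e'.surjective, fun y => ⟨Additive.toMul (ψ.symm (Multiplicative.toAdd y)),
      by simp⟩, fun u => ?_, fun l u => ?_⟩
  · rw [mem_bot]
    constructor
    · intro h
      have : ψ (Additive.ofMul u) = 0 := h
      rw [AddEquiv.map_eq_zero_iff] at this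
      exact congrArg Subtype.val (this : u = 1)
    · intro h
      have : u = 1 := Subtype.ext h
      rw [this, map_one]
  · refine ⟨Additive.toMul (ρ (e' l) (Additive.ofMul u)), ?_, ?_⟩
    · rw [hval, MulEquiv.symm_apply_apply]
      rfl
    · exact hψ (e' l) (Additive.ofMul u)

end Cfsg.Agent.Lib.LocalChar.QuadSL2
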