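import Cfsg.Agent.Lib.LocalChar.Reduced

/-!
`Y_L` for subnormal subgroups `L`.
-/

set_option autoImplicit false

namespace Cfsg.Agent.Lib.LocalChar

open Subgroup
open scoped commutatorElement Pointwise

universe u

variable {G : Type u} [Group G] [Finite G] {p : ℕ} [hp : Fact p.Prime]

omit [Finite G] hp in
theorem IsRedIn.conj {L V : Subgroup G} (h : IsRedIn p L V) {g : G}
    (hg : g ∈ normalizer (L : Set G)) : IsRedIn p L (V.map (MulAut.conj g).toMonoidHom) := by
  have hgL := conj_map_eq_of_mem hg
  refine ⟨(map_mono h.1).trans hgL.le, ?_, ElemAbelian.map h.2.2.1 _, fun D hD hn hc => ?_⟩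
  · rw [normalizer_conj_map, ← hgL]
    exact map_mono h.2.1
  rw [centralizer_conj_map] at hc ⊢
  have hg' : g⁻¹ ∈ normalizer (L : Set G) := inv_mem hg
  have hgL' := conj_map_eq_of_mem hg'
  have key := h.2.2.2 (D.map (MulAut.conj g⁻¹).toMonoidHom) ((map_mono hD).trans hgL'.le)
    (by rw [normalizer_conj_map, ← hgL']; exact map_mono hn) ?_
  · have := map_mono (f := (MulAut.conj g).toMonoidHom) key
    rwa [conj_map_conj_map, mul_inv_cancel, conj_map_one] at this
  · rintro _ ⟨x, hx, rfl⟩ hxc
    have hxc' : Nat.Coprime (orderOf x) p := by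
      rwa [MulEquiv.coe_toMonoidHom, MulEquiv.orderOf_eq] at hxc
    obtain ⟨y, hy, hyx⟩ := hc x hx hxc'
    have : (MulAut.conj g⁻¹).toMonoidHom x = y := by rw [← hyx]; simp [mul_assoc]
    rw [this]; exact hy

theorem normalizer_le_normalizer_largest (L : Subgroup G) :
    normalizer (L : Set G) ≤ normalizer ((largestPReducedOf p L : Subgroup G) : Set G) := by
  intro g hg
  exact mem_normalizer_of_conj_map_le ((isRedIn_largest L).conj hg).le_largest

omit [Finite G] hp in
theorem exists_iterCommutator_le_of_isSubnormal {L : Subgroup G} (hL : L.IsSubnormal)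
    (Y : Subgroup G) {D : Subgroup G} (hD : D ≤ L) : ∃ n, iterCommutator Y D n ≤ L := by
  induction hL with
  | top => exact ⟨0, le_top⟩
  | step H' K' hle _ hn ih =>
    obtain ⟨n, hn'⟩ := ih (hD.trans hle)
    exact ⟨n + 1, (commutator_mono hn' hD).trans (le_normalizer_iff_commutator_le_right.mp
      ((normal_subgroupOf_iff_le_normalizer hle).mp hn))⟩

/-- A subnormal subgroup acting as a `p`-group on `Y_G` centralizes it. -/
theorem le_centralizer_largest_of_isSubnormal {D : Subgroup G} (hD : D.IsSubnormal)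
    (hc : ∀ x ∈ D, Nat.Coprime (orderOf x) p → x ∈ centralizer (largestPReduced p G : Set G)) :
    D ≤ centralizer (largestPReduced p G : Set G) := by
  obtain ⟨-, hn, -, hred⟩ := isRedIn_largest (p := p) (⊤ : Subgroup G)
  rw [largestPReducedOf_top] at hn hred
  set C := centralizer (largestPReduced p G : Set G) with hC
  haveI : (largestPReduced p G).Normal := normalizer_eq_top_iff.mp (top_le_iff.mp hn)
  have hp' : IsPGroup p ↥(D.map (QuotientGroup.mk' C)) := by
    refine isPGroup_subgroup_of_forall_coprime ?_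
    rintro _ ⟨x, hx, rfl⟩ hxc
    obtain ⟨k, hk⟩ := Transfer.exists_pow_coprime (p := p) x
    have h2 : (QuotientGroup.mk' C x) ^ p ^ k ∈ (⊥ : Subgroup (G ⧸ C)) := by
      rw [mem_bot, ← map_pow]
      exact (QuotientGroup.eq_one_iff _).mpr (hc _ (pow_mem hx _) hk)
    exact mem_bot.mp (mem_of_pow_mem_of_coprime h2 hxc)
  have h1 : D ≤ (pCore p (G ⧸ C)).comap (QuotientGroup.mk' C) :=
    map_le_iff_le_comap.mp (le_pCore_of_isSubnormal
      (hD.map (QuotientGroup.mk'_surjective C)) hp')
  refine h1.trans (hred _ le_top le_normalizer_of_normal fun x hx hxc => ?_)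
  exact (QuotientGroup.eq_one_iff x).mp (eq_one_of_mem_pGroup PSolvable.pCore_isPGroup hx
    (coprime_orderOf_map (QuotientGroup.mk' C) hxc))

theorem inf_centralizer_inf_le {L : Subgroup G} (hL : L.IsSubnormal) :
    L ⊓ centralizer ((largestPReduced p G ⊓ L : Subgroup G) : Set G) ≤
      centralizer (largestPReduced p G : Set G) := by
  set Y := largestPReduced p G
  set D := L ⊓ centralizer ((Y ⊓ L : Subgroup G) : Set G) with hD
  have hY := isRedIn_largest (p := p) (⊤ : Subgroup G)
  rw [largestPReducedOf_top] at hY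
  have hYn : D ≤ normalizer (Y : Set G) := le_top.trans hY.2.1
  have hDn : L ≤ normalizer (D : Set G) := le_normalizer_inf_of_le Subgroup.le_normalizer
    (le_normalizer_centralizer_of_le
      (le_normalizer_inf_of_le (le_top.trans hY.2.1) Subgroup.le_normalizer))
  refine le_centralizer_largest_of_isSubnormal
    (Subgroup.IsSubnormal.step D L inf_le_left hL (normal_subgroupOf_of_le_normalizer hDn)) ?_
  intro x hx hxc
  obtain ⟨n, hn⟩ := exists_iterCommutator_le_of_isSubnormal hL Y (D := D) inf_le_left
  have hnY : ∀ i, iterCommutator Y D i ≤ Y := by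
    intro i
    induction i with
    | zero => exact le_rfl
    | succ i ih =>
      exact (commutator_mono ih le_rfl).trans (le_normalizer_iff_commutator_le_left.mp hYn)
  refine mem_centralizer_of_iterCommutator hY.isPGroup hYn (n := n + 1) ?_ hx hxc
  refine commutator_eq_bot_iff_le_centralizer.mpr ((le_inf (hnY n) hn).trans ?_)
  exact le_centralizer_iff.mp inf_le_right

theorem isRedIn_inf {L : Subgroup G} (hL : L.IsSubnormal) :
    IsRedIn p L (largestPReduced p G ⊓ L) := by
  set Y := largestPReduced p G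
  have hY := isRedIn_largest (p := p) (⊤ : Subgroup G)
  rw [largestPReducedOf_top] at hY
  refine ⟨inf_le_right, le_normalizer_inf_of_le (le_top.trans hY.2.1) Subgroup.le_normalizer,
    ElemAbelian.of_comm_of_pow (fun a ha b hb => ElemAbelian.comm hY.2.2.1 ha.1 hb.1)
      (fun a ha => ElemAbelian.pow_eq_one hY.2.2.1 ha.1), fun D hD hn hc => ?_⟩
  refine (le_centralizer_largest_of_isSubnormal
    (Subgroup.IsSubnormal.step D L hD hL (normal_subgroupOf_of_le_normalizer hn))
    fun x hx hxc => inf_centralizer_inf_le hL ⟨hD hx, hc x hx hxc⟩).trans ?_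
  exact centralizer_le inf_le_left

theorem inf_largestPReducedOf_eq {L : Subgroup G} (hL : L.IsSubnormal) :
    largestPReduced p G ⊓ L = largestPReduced p G ⊓ largestPReducedOf p L :=
  le_antisymm (le_inf inf_le_left (isRedIn_inf hL).le_largest)
    (inf_le_inf_left _ (isRedIn_largest L).1)

/-- For `L` normal in `K`: what centralizes `Y_K` in `L` centralizes `Y_L`. -/
theorem inf_centralizer_le_of_normal {K L : Subgroup G} (hLK : L ≤ K)
    (hn : K ≤ normalizer (L : Set G)) :
    L ⊓ centralizer ((largestPReducedOf p K : Subgroup G) : Set G) ≤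
      centralizer ((largestPReducedOf p L : Subgroup G) : Set G) := by
  set W := largestPReducedOf p L
  set Y := largestPReducedOf p K
  set K₀ := L ⊓ centralizer (Y : Set G)
  have hW := isRedIn_largest (p := p) L
  have hKW : K ≤ normalizer (W : Set G) := hn.trans (normalizer_le_normalizer_largest L)
  have hY := isRedIn_largest (p := p) K
  by_contra hle
  -- a minimal `K`-invariant subgroup of `K₀` acting nontrivially on `W`
  obtain ⟨R, hRmin⟩ := (Set.toFinite {R : Subgroup G | R ≤ K₀ ∧ K ≤ normalizer (R : Set G) ∧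
      ¬ R ≤ centralizer (W : Set G)}).exists_minimal ⟨K₀, le_rfl,
    le_normalizer_inf_of_le hn (le_normalizer_centralizer_of_le hY.2.1), hle⟩
  obtain ⟨hRK₀, hKR, hRW⟩ := hRmin.prop
  have hRL : R ≤ L := hRK₀.trans inf_le_left
  -- elements of order prime to `p` in `R` cannot all centralize `W`
  have hRc : ¬ ∀ x ∈ R, Nat.Coprime (orderOf x) p → x ∈ centralizer (W : Set G) :=
    fun h => hRW (hW.2.2.2 R hRL (hLK.trans hKR) h)
  have hsmall : ∀ R' : Subgroup G, R' ≤ R → K ≤ normalizer (R' : Set G) → R' ≠ R →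
      R' ≤ centralizer (W : Set G) := fun R' h1 h2 h3 => by
    by_contra h4
    exact h3 (hRmin.eq_of_le ⟨h1.trans hRK₀, h2, h4⟩ h1)
  -- a minimal `K`-invariant subgroup of `W` not centralized by `R`
  obtain ⟨U, hUmin⟩ := (Set.toFinite {U : Subgroup G | U ≤ W ∧ K ≤ normalizer (U : Set G) ∧
      ¬ R ≤ centralizer (U : Set G)}).exists_minimal ⟨W, le_rfl, hKW, hRW⟩
  obtain ⟨hUW, hKU, hRU⟩ := hUmin.prop
  have hUp : IsPGroup p ↥U := hW.isPGroup.to_le hUW
  have hRC : R ⊓ centralizer (U : Set G) ≤ centralizer (W : Set G) :=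
    hsmall _ inf_le_left (le_normalizer_inf_of_le hKR (le_normalizer_centralizer_of_le hKU))
      fun h => hRU (inf_eq_left.mp h)
  have hUR : ⁅U, R⁆ = U := by
    have hle' : ⁅U, R⁆ ≤ U :=
      le_normalizer_iff_commutator_le_left.mp ((hRL.trans hLK).trans hKU)
    by_contra hne
    have h4 : R ≤ centralizer ((⁅U, R⁆ : Subgroup G) : Set G) := by
      by_contra h5
      exact hne (hUmin.eq_of_le ⟨hle'.trans hUW, le_normalizer_commutator_of_le hKU hKR, h5⟩ hle')
    refine hRc fun x hx hxc => hRC ⟨hx, mem_centralizer_iff.mpr fun u hu => ?_⟩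
    have hc : ⁅u, x⁆ ∈ U := hle' (commutator_mem_commutator hu hx)
    exact (commute_of_commutator_fixed hUp hxc hc
      (mem_centralizer_iff.mp (h4 hx) _ (commutator_mem_commutator hu hx)).symm).symm.eq
  have hred : IsRedIn p K U := by
    refine ⟨hUW.trans (hW.1.trans hLK), hKU,
      ElemAbelian.of_comm_of_pow (fun a ha b hb => ElemAbelian.comm hW.2.2.1 (hUW ha) (hUW hb))
        (fun a ha => ElemAbelian.pow_eq_one hW.2.2.1 (hUW ha)), fun D hD hDn hc => ?_⟩
    have hRD : ⁅R, D⁆ ≤ centralizer (W : Set G) := by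
      refine hsmall _ (le_normalizer_iff_commutator_le_left.mp (hD.trans hKR))
        (le_normalizer_commutator_of_le hKR hDn) fun heq => hRc fun x hx hxc => ?_
      have hxD : x ∈ D :=
        le_normalizer_iff_commutator_le_right.mp ((hRL.trans hLK).trans hDn) (heq.ge hx)
      exact hRC ⟨hx, hc x hxD hxc⟩
    have hUD : ⁅U, D⁆ ≤ U := le_normalizer_iff_commutator_le_left.mp (hD.trans hKU)
    have h2 : R ≤ centralizer ((⁅U, D⁆ : Subgroup G) : Set G) := by
      by_contra h5
      have heq : ⁅U, D⁆ = U :=
        hUmin.eq_of_le ⟨hUD.trans hUW, le_normalizer_commutator_of_le hKU hDn, h5⟩ hUD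
      obtain ⟨P⟩ := (inferInstance : Nonempty (Sylow p ↥D))
      set P' := (P : Subgroup ↥D).map D.subtype
      have hP'D : P' ≤ D := map_subtype_le _
      have hP'U : P' ≤ normalizer (U : Set G) := hP'D.trans (hD.trans hKU)
      have hres : (pResidual p ↥D).map D.subtype ≤ centralizer (U : Set G) := resOf_le_iff.mpr hc
      have hUP : ⁅U, D⁆ ≤ ⁅U, P'⁆ := by
        refine commutator_le.mpr fun u hu d hd => ?_
        rw [← resOf_sup_sylow D P, sup_comm, ← SetLike.mem_coe,
          coe_mul_of_left_le_normalizer_right P' _ (hP'D.trans (le_normalizer_resOf D))] at hd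
        obtain ⟨t, ht, c, hc', rfl⟩ := hd
        dsimp only
        have huc : ⁅u, c⁆ = 1 := commutatorElement_eq_one_iff_mul_comm.mpr
          (mem_centralizer_iff.mp (hres hc') u hu)
        rw [show ⁅u, t * c⁆ = ⁅u, t⁆ * (t * ⁅u, c⁆ * t⁻¹) by
          simp only [commutatorElement_def]; group, huc, mul_one, mul_inv_cancel, mul_one]
        exact commutator_mem_commutator hu ht
      obtain ⟨m, hm⟩ := exists_iterCommutator_eq_bot_of_pGroup hUp (P.isPGroup'.map D.subtype) hP'U
      have hiter : ∀ i, U ≤ iterCommutator U P' i := by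
        intro i
        induction i with
        | zero => exact le_rfl
        | succ i ih => exact (heq.ge.trans hUP).trans (commutator_mono ih le_rfl)
      have hbot : U = ⊥ := le_bot_iff.mp ((hiter m).trans hm.le)
      refine hRU (fun r _ => mem_centralizer_iff.mpr fun u hu => ?_)
      rw [hbot, SetLike.mem_coe, mem_bot] at hu
      simp [hu]
    have h3 : ⁅⁅U, R⁆, D⁆ = ⊥ := by
      refine commutator_commutator_eq_bot_of_rotate ?_ ?_
      · exact commutator_eq_bot_iff_le_centralizer.mpr (hRD.trans (centralizer_le hUW))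
      · rw [commutator_comm D U]
        exact commutator_eq_bot_iff_le_centralizer.mpr (le_centralizer_iff.mp h2)
    rw [hUR] at h3
    exact le_centralizer_iff.mp (commutator_eq_bot_iff_le_centralizer.mp h3)
  refine hRU ?_
  exact (hRK₀.trans inf_le_right).trans (centralizer_le hred.le_largest)

theorem inf_centralizer_le_largestPReducedOf {L : Subgroup G} (hL : L.IsSubnormal) :
    L ⊓ centralizer (largestPReduced p G : Set G) ≤
      centralizer ((largestPReducedOf p L : Subgroup G) : Set G) := by
  induction hL with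
  | top =>
    rw [largestPReducedOf_top]
    exact inf_le_right
  | step H' K' hle _ hn ih =>
    exact (le_inf inf_le_left ((inf_le_inf_right _ hle).trans ih)).trans
      (inf_centralizer_le_of_normal hle ((normal_subgroupOf_iff_le_normalizer hle).mp hn))

end Cfsg.Agent.Lib.LocalChar
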