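import Cfsg.Agent.Lib.ZJ.Replacement
import Cfsg.Agent.Lib.PGroup.Extraspecial

/-!
# The replacement subgroup has no smaller rank

Elements of order dividing `p` of `A` give at least as many in the replaced subgroup, `p` odd.
-/

set_option autoImplicit false

namespace Cfsg.Agent.Lib.LocalChar

open Subgroup
open scoped commutatorElement

variable {S : Type*} [Group S]

theorem mul_pow_eq_one_of_commutator {p : ℕ} [Fact p.Prime] (hp : p ≠ 2) {u v : S}
    (hu : u ^ p = 1) (hv : v ^ p = 1) (hzu : Commute ⁅v, u⁆ u) (hzv : Commute ⁅v, u⁆ v) :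
    (u * v) ^ p = 1 := by
  set K : Subgroup S := closure {u, v} with hK
  set u' : K := ⟨u, subset_closure (Set.mem_insert u _)⟩
  set v' : K := ⟨v, subset_closure (Set.mem_insert_of_mem u rfl)⟩
  have hc : ⁅v', u'⁆ ∈ center K := by
    refine mem_center_iff.2 fun w => ?_
    have hle : K ≤ centralizer ({⁅v, u⁆} : Set S) := by
      rw [hK, closure_le]
      rintro x (rfl | rfl)
      · exact mem_centralizer_singleton_iff.2 hzu.symm.eq
      · exact mem_centralizer_singleton_iff.2 hzv.symm.eq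
    exact Subtype.ext (mem_centralizer_singleton_iff.1 (hle w.2))
  have h := congrArg Subtype.val (Extraspecial.mul_pow_eq hc p)
  have hz : (⁅v, u⁆ : S) ^ p = 1 := by
    have h1 := congrArg Subtype.val (Extraspecial.commutator_pow_left hc p)
    have h2 : ⁅v ^ p, u⁆ = ⁅v, u⁆ ^ p := h1
    rw [← h2, hv, commutatorElement_one_left]
  obtain ⟨m, hm⟩ : p ∣ p.choose 2 := by
    refine (Fact.out : p.Prime).dvd_choose_self (by norm_num) ?_
    have := (Fact.out : p.Prime).two_le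
    omega
  have h' : (u * v) ^ p = u ^ p * v ^ p * ⁅v, u⁆ ^ p.choose 2 := h
  rw [h', hu, hv, hm, pow_mul, hz, one_pow, one_mul, one_mul]

theorem card_omegaOne_replaced [Finite S] {p : ℕ} [Fact p.Prime] (hp : p ≠ 2) (A : Subgroup S)
    (hA : ∀ x ∈ A, ∀ y ∈ A, Commute x y) {b : S}
    (hbN : b ∈ normalizer (normalizer (A : Set S) : Set S))
    (hR : ∀ x ∈ ZJ.replaced A b, ∀ y ∈ ZJ.replaced A b, Commute x y) :
    Nat.card (Cfsg.omegaOne p A) ≤ Nat.card (Cfsg.omegaOne p (ZJ.replaced A b)) := by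
  classical
  set R := ZJ.replaced A b
  set σ : S ≃* S := MulAut.conj b⁻¹ with hσ
  set A₁ := A.map σ.toMonoidHom with hA₁
  have hσe : ∀ x, σ x = b⁻¹ * x * b := fun x => by simp [hσ]
  set N := normalizer (A : Set S) with hN
  have hAN : A ≤ N := le_normalizer
  have hNA₁ : ∀ n ∈ N, ∀ c ∈ A₁, n * c * n⁻¹ ∈ A₁ := by
    intro n hn c hc
    rw [hA₁, ZJ.mem_map_conj_inv] at hc ⊢
    have h := (mem_normalizer_iff.1 ((mem_normalizer_iff.1 hbN n).1 hn) _).1 hc
    simpa [mul_assoc] using h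
  have hσN : ∀ a ∈ A, σ a ∈ N := fun a ha => by
    rw [hσe]
    simpa using (mem_normalizer_iff.1 (inv_mem hbN) a).1 (hAN ha)
  have hx : ∀ a ∈ A, a⁻¹ * σ a ∈ R := fun a ha =>
    mem_sup_right (subset_closure ⟨a⁻¹, inv_mem ha, by rw [hσe, inv_inv]; group⟩)
  have hDR : A ⊓ A₁ ≤ R := le_sup_left
  -- the subgroup of elements of order dividing `p`
  have homega : ∀ (T : Subgroup S), (∀ x ∈ T, ∀ y ∈ T, Commute x y) → ∀ x,
      x ∈ Cfsg.omegaOne p T → x ∈ T ∧ x ^ p = 1 := by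
    intro T hT x hx
    refine closure_induction (p := fun x _ => x ∈ T ∧ x ^ p = 1) (fun _ h => h)
      ⟨one_mem T, one_pow p⟩ (fun a c _ _ ha hc => ⟨mul_mem ha.1 hc.1, ?_⟩)
      (fun a _ ha => ⟨inv_mem ha.1, by rw [inv_pow, ha.2, inv_one]⟩) hx
    rw [(hT a ha.1 c hc.1).mul_pow, ha.2, hc.2, one_mul]
  set Ω := Cfsg.omegaOne p A
  have hpow : ∀ a ∈ Ω, a⁻¹ * σ a ∈ Cfsg.omegaOne p R := by
    intro a ha
    obtain ⟨haA, hap⟩ := homega A hA a ha
    refine subset_closure ⟨hx a haA, ?_⟩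
    have hz : ⁅σ a, a⁻¹⁆ ∈ A ⊓ A₁ := by
      refine mem_inf.2 ⟨?_, ?_⟩
      · rw [commutatorElement_def]
        exact mul_mem ((mem_normalizer_iff.1 (hσN a haA) _).1 (inv_mem haA))
          (inv_mem (inv_mem haA))
      · rw [commutatorElement_def, mul_assoc, mul_assoc, ← mul_assoc a⁻¹]
        have hm : σ a ∈ A₁ := mem_map_of_mem _ haA
        exact mul_mem hm (hNA₁ a⁻¹ (inv_mem (hAN haA)) _ (inv_mem hm))
    refine mul_pow_eq_one_of_commutator hp (by rw [inv_pow, hap, inv_one])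
      (by rw [← map_pow, hap, map_one]) (hA _ hz.1 _ (inv_mem haA)) ?_
    obtain ⟨c, hc, hce⟩ := hz.2
    rw [← hce]
    exact (hA c hc a haA).map σ.toMonoidHom
  -- count along the cosets of the part sent into `A`
  set K : Subgroup Ω := (A.comap σ.toMonoidHom).subgroupOf Ω
  let f : (Ω ⧸ K) × K → Cfsg.omegaOne p R := fun q =>
    ⟨(q.1.out : S)⁻¹ * σ (q.1.out : S) * σ ((q.2 : Ω) : S), mul_mem (hpow _ q.1.out.2) (by
      obtain ⟨h1, h2⟩ := homega A hA _ (q.2 : Ω).2
      exact subset_closure ⟨hDR ⟨q.2.2, mem_map_of_mem _ h1⟩, by rw [← map_pow, h2, map_one]⟩)⟩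
  have hf : Function.Injective f := by
    rintro ⟨q, k⟩ ⟨q', k'⟩ h
    have h1 : (q.out : S)⁻¹ * σ (q.out : S) * σ ((k : Ω) : S) =
        (q'.out : S)⁻¹ * σ (q'.out : S) * σ ((k' : Ω) : S) := congrArg Subtype.val h
    have h2 : σ ((q'.out : S)⁻¹ * q.out) ∈ A := by
      have h3 : σ ((q'.out : S)⁻¹ * q.out) = σ (q'.out : S)⁻¹ * ((q.out : S) * (q'.out : S)⁻¹) *
          σ (q'.out : S) * (σ ((k' : Ω) : S) * (σ ((k : Ω) : S))⁻¹) := by
        have h4 : σ (q.out : S) = (q.out : S) * ((q'.out : S)⁻¹ * σ (q'.out : S) *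
            σ ((k' : Ω) : S)) * (σ ((k : Ω) : S))⁻¹ := by rw [← h1]; group
        rw [map_mul, h4, map_inv]; group
      rw [h3]
      refine mul_mem ?_ (mul_mem k'.2 (inv_mem k.2))
      have h5 := (mem_normalizer_iff.1 (inv_mem (hσN _ (homega A hA _ q'.out.2).1))
        ((q.out : S) * (q'.out : S)⁻¹)).1
        (mul_mem (homega A hA _ q.out.2).1 (inv_mem (homega A hA _ q'.out.2).1))
      simpa using h5
    have hq : q = q' := by
      rw [← q.out_eq, ← q'.out_eq]
      exact (QuotientGroup.eq.2 (show (q'.out)⁻¹ * q.out ∈ K from h2)).symm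
    subst hq
    exact Prod.ext rfl (Subtype.ext (Subtype.ext (σ.injective (mul_left_cancel h1))))
  calc Nat.card Ω = Nat.card ((Ω ⧸ K) × K) := by
        rw [Nat.card_prod, ← card_eq_card_quotient_mul_card_subgroup]
    _ ≤ _ := Nat.card_le_card_of_injective f hf

end Cfsg.Agent.Lib.LocalChar
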