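import Cfsg.Agent.Lib.PPD.Zsigmondy
import Cfsg.Agent.Lib.PPD.Basic
import Cfsg.Agent.Lib.SL2.Orders
import Cfsg.Agent.Lib.SL2.Conjugacy
import Cfsg.Agent.Lib.SL2.ToriExist
import Cfsg.Agent.Lib.LinGroup.SLTwoSylow
import Cfsg.Agent.Lib.OddLocal.ComplIn
import Cfsg.Prelude.Def_Transfer

/-!
# The fixed points of an element of order `p` of `SL₂(pⁿ)`

A nontrivial unipotent element and one of its conjugates generate a subgroup with an element of
order `m`, `p` having order `2n` modulo `m`. Hence its fixed points on a faithful module have index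
at least `pⁿ`.
-/

set_option autoImplicit false

namespace Cfsg.Agent.Lib.LocalChar.SL2Fix

open Subgroup
open scoped Pointwise
open Cfsg.Agent.Lib.SL2 (SLtwo upper lower)

/-- An odd divisor of `pⁿ + 1` seeing `p` with order `2n`. -/
theorem exists_modulus {p n : ℕ} (hp : p.Prime) (hn : 2 ≤ n) :
    ∃ m r : ℕ, r.Prime ∧ r ≠ 2 ∧ 3 ≤ m ∧ Odd m ∧ m ∣ p ^ n + 1 ∧ (∃ e, m = r ^ e) ∧
      ∀ j : ℕ, m ∣ p ^ j - 1 → j = 0 ∨ 2 * n ≤ j := by
  by_cases h26 : p = 2 ∧ 2 * n = 6
  · obtain ⟨rfl, h6⟩ := h26
    obtain rfl : n = 3 := by omega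
    refine ⟨9, 3, Nat.prime_three, by norm_num, by norm_num, by decide, by norm_num,
      ⟨2, by norm_num⟩, fun j hj => ?_⟩
    have h : orderOf ((2 : ℕ) : ZMod 9) = 6 := by
      refine (orderOf_eq_iff (by norm_num)).2 ⟨by decide, fun i hi hi0 => ?_⟩
      interval_cases i <;> decide
    rw [PPD.dvd_pow_sub_one_iff_orderOf_dvd (by norm_num), h] at hj
    rcases Nat.eq_zero_or_pos j with h0 | h0
    · exact Or.inl h0
    · exact Or.inr (Nat.le_of_dvd h0 hj)
  · obtain ⟨r, hr, hrd, hmin⟩ := PPD.exists_primitive_prime (a := p) (n := 2 * n) hp.two_le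
      (by omega) h26 (by omega)
    have hmin' : ∀ i : ℕ, 1 ≤ i → i < 2 * n → ¬ r ∣ p ^ i - 1 := fun i h1 h2 => hmin i h1 h2
    have hlt := PPD.lt_of_primitive hr hp.one_le (by omega) hrd hmin'
    have hord := PPD.orderOf_eq_of_primitive hp.one_le (by omega) hrd hmin'
    refine ⟨r, r, hr, by omega, by omega, hr.odd_of_ne_two (by omega), ?_, ⟨1, (pow_one r).symm⟩,
      fun j hj => ?_⟩
    · have h1 : p ^ (2 * n) - 1 = (p ^ n + 1) * (p ^ n - 1) := by
        rw [mul_comm 2 n, pow_mul, ← one_pow 2, Nat.sq_sub_sq]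
        simp
      rw [h1] at hrd
      exact (hr.dvd_mul.1 hrd).resolve_right (hmin n (by omega) (by omega))
    · rw [PPD.dvd_pow_sub_one_iff_orderOf_dvd hp.one_le, hord] at hj
      rcases Nat.eq_zero_or_pos j with h0 | h0
      · exact Or.inl h0
      · exact Or.inr (Nat.le_of_dvd h0 hj)

/-- A conjugate of a nontrivial unipotent and that unipotent reach every odd divisor of `q + 1`. -/
theorem exists_partner {F : Type*} [Field F] [Fintype F] {m : ℕ} (hm : Odd m) (h3 : 3 ≤ m)
    (hmd : m ∣ Fintype.card F + 1) {s : F} (hs : s ≠ 0) :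
    ∃ k : SLtwo F, orderOf ((upper s * (k * upper s * k⁻¹)) ^ 2) = m := by
  obtain ⟨g, hg⟩ := SL2.exists_elliptic (F := F)
  haveI := SL2.isCyclic_centralizer_elliptic hg
  obtain ⟨c, hc⟩ := IsCyclic.exists_generator (α := centralizer ({g} : Set (SLtwo F)))
  have hco : orderOf c = Fintype.card F + 1 := by
    rw [orderOf_eq_card_of_forall_mem_zpowers hc, SL2.card_centralizer_elliptic hg]
  obtain ⟨d, hd⟩ := hmd
  set z : SLtwo F := ((c ^ d : centralizer ({g} : Set (SLtwo F))) : SLtwo F) with hz
  have hzo : orderOf z = m := by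
    rw [hz, Subgroup.orderOf_coe, orderOf_pow_of_dvd (fun h => by rw [h, mul_zero] at hd; omega)
      (by rw [hco, hd]; exact dvd_mul_left d m), hco, hd, Nat.mul_div_cancel]
    exact Nat.pos_of_ne_zero fun h => by rw [h, mul_zero] at hd; omega
  set τ : F := z 0 0 + z 1 1 with hτ
  set c₀ : F := τ / s with hc₀
  -- the partner
  have hconj : ∃ k : SLtwo F, k * upper s * k⁻¹ = lower (-(τ ^ 2 / s)) := by
    by_cases hc : c₀ = 0
    · have h0 : τ = 0 := (div_eq_zero_iff.1 hc).resolve_right hs
      exfalso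
      -- trace zero forces order four
      have h4 : z ^ 4 = 1 := by
        have h2 : z * z = -1 := by
          have hdet := SL2.det_entries z
          have hz11 : z 1 1 = -z 0 0 := by rw [hτ] at h0; linear_combination h0
          apply SL2.ext_entries <;>
            simp [SL2.mul_00, SL2.mul_01, SL2.mul_10, SL2.mul_11, hz11] <;>
            first
              | ring1
              | linear_combination -hdet + (z 0 0) * hz11
              | linear_combination -hdet
        rw [show (4 : ℕ) = 2 + 2 from rfl, pow_add, sq, h2]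
        simp
      have h := orderOf_dvd_of_pow_eq_one h4
      rw [hzo] at h
      have := Nat.le_of_dvd (by norm_num) h
      interval_cases m
      · norm_num at h
      · exact absurd hm (by decide)
    · refine ⟨SL2.weyl * SL2.diag (Units.mk0 c₀ hc), ?_⟩
      rw [mul_inv_eq_iff_eq_mul]
      apply SL2.ext_entries <;>
        simp [Matrix.mul_apply, Fin.sum_univ_two]
      all_goals (simp [hc₀]; field_simp)
  obtain ⟨k, hk⟩ := hconj
  refine ⟨k, ?_⟩
  rw [hk]
  set M : SLtwo F := upper s * lower (-(τ ^ 2 / s)) with hM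
  -- compare with `-z²`
  let gM : GL (Fin 2) F := Matrix.SpecialLinearGroup.toGL M
  let gZ : GL (Fin 2) F := Matrix.SpecialLinearGroup.toGL (-(z * z))
  have hzsq : orderOf (z * z) = m := by
    rw [← sq, Nat.Coprime.orderOf_pow, hzo]
    rw [hzo]
    exact Nat.Coprime.pow_right 1 (Nat.coprime_two_right.2 hm) |> fun h => by simpa using h
  have hns1 : ¬ SL2.IsScalarMat (gM : Matrix (Fin 2) (Fin 2) F) := fun h => by
    have h01 := h.1
    simp [gM, hM, Matrix.mul_apply, Fin.sum_univ_two] at h01
    exact hs h01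
  have hns2 : ¬ SL2.IsScalarMat (gZ : Matrix (Fin 2) (Fin 2) F) := fun h => by
    have h' : (-(z * z)) ∈ Subgroup.center (SLtwo F) := (SL2.isScalarMat_iff_mem_center _).1 h
    have h2 : (-(z * z)) ^ 2 = 1 := by
      obtain ⟨r, hr, hr'⟩ := Matrix.SpecialLinearGroup.mem_center_iff.1 h'
      have hr2 : r ^ 2 = 1 := by simpa using hr
      apply Subtype.ext
      rw [Matrix.SpecialLinearGroup.coe_pow, ← hr', ← map_pow, hr2, map_one]
      rfl
    have h4 : (z * z) ^ 2 = 1 := by simpa using h2
    have h5 := orderOf_dvd_of_pow_eq_one h4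
    rw [hzsq] at h5
    have := Nat.le_of_dvd (by norm_num) h5
    omega
  have htr : (gM : Matrix (Fin 2) (Fin 2) F) 0 0 + (gM : Matrix (Fin 2) (Fin 2) F) 1 1 =
      (gZ : Matrix (Fin 2) (Fin 2) F) 0 0 + (gZ : Matrix (Fin 2) (Fin 2) F) 1 1 := by
    have hdet := SL2.det_entries z
    show M 0 0 + M 1 1 = (-(z * z)) 0 0 + (-(z * z)) 1 1
    have e1 : M 0 0 + M 1 1 = 2 - τ ^ 2 := by
      rw [hM, SL2.mul_00, SL2.mul_11]
      simp
      field_simp
      ring
    rw [e1, hτ]
    simp [Matrix.mul_apply, Fin.sum_univ_two]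
    linear_combination (-2 : F) * hdet
  obtain ⟨u, hu⟩ := isConj_iff.1 (SL2.isConj_GL hns1 hns2 htr
    ((Matrix.SpecialLinearGroup.det_coe M).trans
      (Matrix.SpecialLinearGroup.det_coe (-(z * z))).symm))
  have hinj : Function.Injective
      (Matrix.SpecialLinearGroup.toGL : SLtwo F → GL (Fin 2) F) :=
    Matrix.SpecialLinearGroup.toGL_injective
  rw [← orderOf_injective Matrix.SpecialLinearGroup.toGL hinj]
  have h1 : Matrix.SpecialLinearGroup.toGL ((-(z * z)) ^ 2) = u * gM ^ 2 * u⁻¹ := by
    rw [map_pow, ← conj_pow, hu]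
  have h2 : orderOf (u * gM ^ 2 * u⁻¹) = orderOf (gM ^ 2) :=
    (MulAut.conj u).orderOf_eq (gM ^ 2)
  rw [map_pow, show Matrix.SpecialLinearGroup.toGL M = gM from rfl, ← h2, ← h1,
    orderOf_injective _ hinj, show (-(z * z)) ^ 2 = (z * z) ^ 2 by simp, Nat.Coprime.orderOf_pow,
    hzsq]
  rw [hzsq]
  exact Nat.coprime_two_right.2 hm

variable {G : Type*} [Group G] [Finite G] {p : ℕ} [Fact p.Prime]

/-- An element of prime power order `m` moving `V` needs `|V : C_V| ≥ p^j`, `m ∣ p^j - 1`. -/
theorem relIndex_ge_of_element (V : Subgroup G) (hV : IsPGroup p V) {x : G}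
    (hxV : x ∈ normalizer (V : Set G))
    (hfaith : ∀ z ∈ zpowers x, z ∈ centralizer (V : Set G) → z = 1) (hx1 : x ≠ 1) {m r : ℕ} (hr : r.Prime)
    (hm : orderOf x = m) (hmr : ∃ e, m = r ^ e) (hmp : ¬ p ∣ m) (n : ℕ)
    (hord : ∀ j : ℕ, m ∣ p ^ j - 1 → j = 0 ∨ 2 * n ≤ j) :
    ∃ y ∈ zpowers x, p ^ (2 * n) ≤ (V ⊓ centralizer ({y} : Set G)).relIndex V := by
  classical
  obtain ⟨e, he⟩ := hmr
  cases e with
  | zero =>
    have : x = 1 := orderOf_eq_one_iff.1 (by rw [hm, he, pow_zero])
    exact absurd this hx1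
  | succ e =>
    -- the element of prime order
    set y := x ^ r ^ e with hy
    refine ⟨y, pow_mem (mem_zpowers x) _, ?_⟩
    set C := V ⊓ centralizer ({y} : Set G) with hC
    let act : zpowers x → ↥(V : Subgroup G) → ↥(V : Subgroup G) := fun g v =>
      ⟨(g : G) * v * (g : G)⁻¹,
        (mem_normalizer_iff.1 ((zpowers_le.2 hxV) g.2) v).1 v.2⟩
    letI : MulAction (zpowers x) (V : Subgroup G) :=
      { smul := act
        one_smul := fun v => Subtype.ext (by show (1 : G) * v * (1 : G)⁻¹ = v; simp)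
        mul_smul := fun a b v => Subtype.ext (by
          show (a : G) * b * v * ((a : G) * b)⁻¹ = a * (b * v * (b : G)⁻¹) * (a : G)⁻¹
          group) }
    letI : Fintype ↥V := Fintype.ofFinite _
    -- elements outside `C` have regular orbits
    have hstab : ∀ v : V, (v : G) ∉ C → MulAction.stabilizer (zpowers x) v = ⊥ := by
      intro v hv
      by_contra hne
      obtain ⟨g, hg, hg1⟩ := ((MulAction.stabilizer (zpowers x) v).bot_or_exists_ne_one).resolve_left hne
      have hgfix : (g : G) * v * (g : G)⁻¹ = v := congrArg Subtype.val hg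
      -- `y` is a power of `g`
      have hyg : y ∈ zpowers (g : G) := by
        obtain ⟨i, hi⟩ := (mem_zpowers_iff).1 g.2
        have hcard : Nat.card (zpowers x) = r ^ (e + 1) := by rw [Nat.card_zpowers, hm, he]
        have hd : Nat.card (zpowers (g : G)) ∣ r ^ (e + 1) :=
          hcard ▸ Subgroup.card_dvd_of_le (zpowers_le.2 g.2)
        obtain ⟨j, hj, hjc⟩ := (Nat.dvd_prime_pow hr).1 hd
        have hj0 : j ≠ 0 := fun h0 => hg1 (Subtype.ext (orderOf_eq_one_iff.1
          (by rw [← Nat.card_zpowers, hjc, h0, pow_zero])))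
        have hyo : orderOf y = r := by
          rw [hy, orderOf_pow_of_dvd (pow_ne_zero _ hr.ne_zero) (by rw [hm, he]; exact pow_dvd_pow _ (Nat.le_succ e)),
            hm, he, pow_succ, Nat.mul_div_cancel_left _ (pow_pos hr.pos e)]
        have hle : zpowers (g : G) ≤ zpowers x := zpowers_le.2 g.2
        have hcyc : IsCyclic (zpowers x) := inferInstance
        -- in a cyclic group the subgroup of order `r` is in every nontrivial subgroup
        have h1 : (zpowers y).subgroupOf (zpowers x) ≤ (zpowers (g : G)).subgroupOf (zpowers x) := by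
          haveI := hcyc
          obtain ⟨g', hg'⟩ : ∃ g' : zpowers x, orderOf g' = r ∧ g' ∈ (zpowers (g : G)).subgroupOf (zpowers x) := by
            refine ⟨g ^ r ^ (j - 1), ?_, ?_⟩
            · have hgo : orderOf g = r ^ j := by rw [← Subgroup.orderOf_coe, ← Nat.card_zpowers, hjc]
              rw [orderOf_pow_of_dvd (pow_ne_zero _ hr.ne_zero) (hgo ▸ pow_dvd_pow _ (Nat.sub_le j 1)),
                hgo, Nat.pow_div (Nat.sub_le j 1) hr.pos, show j - (j - 1) = 1 by omega, pow_one]
            · exact mem_subgroupOf.2 (by rw [SubgroupClass.coe_pow]; exact pow_mem (mem_zpowers _) _)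
          have hh : (zpowers y).subgroupOf (zpowers x) = zpowers g' := by
            refine Cfsg.Agent.Lib.OddLocal.subgroup_eq_of_card_eq_of_isCyclic ?_
            rw [Nat.card_zpowers, hg'.1,
              Nat.card_congr (subgroupOfEquivOfLe (zpowers_le.2 (pow_mem (mem_zpowers x) _))).toEquiv,
              Nat.card_zpowers, hyo]
          rw [hh, zpowers_le]
          exact hg'.2
        exact h1 (show (⟨y, pow_mem (mem_zpowers x) _⟩ : zpowers x) ∈ (zpowers y).subgroupOf _ from
          mem_zpowers y)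
      refine hv ⟨v.2, mem_centralizer_singleton_iff.2 ?_⟩
      have hvc : Commute (g : G) v := mul_inv_eq_iff_eq_mul.1 hgfix
      obtain ⟨i, hi⟩ := mem_zpowers_iff.1 hyg
      rw [← hi]
      exact ((hvc.zpow_left i).eq).symm
    -- count the outside
    set O : Finset V := Finset.univ.filter fun v : V => (v : G) ∉ C with hO
    have hinv : ∀ g : zpowers x, ∀ v : V, (v : G) ∈ C → ((g • v : V) : G) ∈ C := by
      intro g v hv
      refine ⟨(g • v).2, mem_centralizer_singleton_iff.2 ?_⟩
      have h1 := mem_centralizer_singleton_iff.1 hv.2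
      have h2 : Commute (g : G) y := by
        obtain ⟨i, hi⟩ := mem_zpowers_iff.1 g.2
        rw [← hi, hy]
        exact ((Commute.refl x).zpow_left i).pow_right _
      show (g : G) * v * (g : G)⁻¹ * y = y * ((g : G) * v * (g : G)⁻¹)
      exact ((Commute.mul_left (Commute.mul_left h2 h1) h2.inv_left)).eq
    letI : MulAction (zpowers x) {v : V // (v : G) ∉ C} :=
      { smul := fun g v => ⟨g • v.1, fun h => v.2 (by
          have := hinv g⁻¹ _ h
          rwa [inv_smul_smul] at this)⟩
        one_smul := fun v => Subtype.ext (one_smul _ v.1)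
        mul_smul := fun a b v => Subtype.ext (mul_smul a b v.1) }
    have hdiv : m ∣ Nat.card {v : V // (v : G) ∉ C} := by
      letI : Fintype {v : V // (v : G) ∉ C} := Fintype.ofFinite _
      letI : Fintype (MulAction.orbitRel.Quotient (zpowers x) {v : V // (v : G) ∉ C}) :=
        Fintype.ofFinite _
      rw [Nat.card_congr (MulAction.selfEquivSigmaOrbits' (zpowers x) {v : V // (v : G) ∉ C}),
        Nat.card_sigma]
      refine Finset.dvd_sum fun ω _ => ?_
      induction ω using Quotient.inductionOn' with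
      | _ v =>
        rw [MulAction.orbitRel.Quotient.orbit_mk,
          Nat.card_congr (MulAction.orbitEquivQuotientStabilizer (zpowers x) v)]
        have : MulAction.stabilizer (zpowers x) v = ⊥ := by
          rw [← hstab v.1 v.2]
          ext g
          simp only [MulAction.mem_stabilizer_iff, Subtype.ext_iff]
          rfl
        rw [this, Nat.card_congr (QuotientGroup.quotientBot (G := zpowers x)).toEquiv,
          Nat.card_zpowers, hm]
    -- sizes
    obtain ⟨a, ha⟩ := hV.exists_card_eq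
    obtain ⟨b, hb⟩ := (hV.to_le (inf_le_left : C ≤ V)).exists_card_eq
    have hcnt : Nat.card {v : V // (v : G) ∉ C} = p ^ a - p ^ b := by
      rw [← ha, ← hb, ← Nat.card_congr (subgroupOfEquivOfLe (inf_le_left : C ≤ V)).toEquiv]
      rw [Nat.card_eq_fintype_card, Nat.card_eq_fintype_card, Nat.card_eq_fintype_card]
      rw [show Fintype.card {v : V // (v : G) ∉ C} =
        Fintype.card {v : V // ¬ v ∈ C.subgroupOf V} from Fintype.card_congr (Equiv.refl _),
        Fintype.card_subtype_compl]
    have hidx : C.relIndex V = p ^ (a - b) := by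
      have h1 := (C.subgroupOf V).card_mul_index
      rw [Nat.card_congr (subgroupOfEquivOfLe (inf_le_left : C ≤ V)).toEquiv, hb, ha] at h1
      have hab : b ≤ a := by
        by_contra h
        have h2 : p ^ b ∣ p ^ a := Dvd.intro _ h1
        exact h ((Nat.pow_dvd_pow_iff_le_right (Fact.out : p.Prime).one_lt).1 h2)
      rw [← Nat.add_sub_cancel' hab, pow_add] at h1
      exact Nat.eq_of_mul_eq_mul_left (pow_pos (Fact.out : p.Prime).pos b) h1
    rw [hidx]
    refine Nat.pow_le_pow_right (Fact.out : p.Prime).pos ?_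
    rw [hcnt] at hdiv
    have hab : b ≤ a := by
      have h2 : p ^ b ∣ p ^ a := hb ▸ ha ▸ Subgroup.card_dvd_of_le (inf_le_left : C ≤ V)
      exact (Nat.pow_dvd_pow_iff_le_right (Fact.out : p.Prime).one_lt).1 h2
    rw [← Nat.add_sub_cancel' hab, pow_add, ← Nat.mul_sub_one] at hdiv
    refine (hord _ ?_).resolve_left fun h0 => ?_
    · exact Nat.Coprime.dvd_of_dvd_mul_left
        (((Fact.out : p.Prime).coprime_iff_not_dvd.2 hmp).symm.pow_right b) hdiv
    · -- no outside at all
      have hVC : V ≤ C := by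
        refine (Subgroup.eq_of_le_of_card_ge (inf_le_left : C ≤ V) ?_).ge
        rw [ha, hb, show a = b by omega]
      have hy1 : y = 1 := hfaith y (pow_mem (mem_zpowers x) _) fun v hv => by
        exact mem_centralizer_singleton_iff.1 (hVC hv).2
      have hle := orderOf_dvd_of_pow_eq_one (hy ▸ hy1 : x ^ r ^ e = 1)
      rw [hm, he] at hle
      have := (Nat.pow_dvd_pow_iff_le_right hr.one_lt).1 hle
      omega

/-- An element of order `p` of `SL₂(pⁿ)` fixes at most a subgroup of index `pⁿ` of a faithful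
module. -/
theorem index_fixed_ge (V H : Subgroup G) (hV : IsPGroup p V)
    (hHV : H ≤ normalizer (V : Set G)) (hf : H ⊓ centralizer (V : Set G) = ⊥)
    {F : Type*} [Field F] [Fintype F] (n : ℕ) (hF : Fintype.card F = p ^ n)
    (e : ↥H ≃* SLtwo F) (S : Sylow p ↥H) {a : G}
    (ha : a ∈ (S : Subgroup ↥H).map H.subtype) (ha1 : a ≠ 1) :
    p ^ n ≤ (V ⊓ centralizer ({a} : Set G)).relIndex V := by
  classical
  have hp : p.Prime := Fact.out
  haveI : CharP F p := charP_of_card_eq_prime_pow (f := n) hF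
  have hn0 : n ≠ 0 := fun h => by
    have := Fintype.one_lt_card (α := F)
    rw [hF, h, pow_zero] at this
    omega
  have haH : a ∈ H := Subgroup.map_subtype_le _ ha
  set i := (V ⊓ centralizer ({a} : Set G)).relIndex V with hi
  -- the index is a nontrivial power of `p`
  have hip : p ≤ i := by
    obtain ⟨c, hc⟩ := hV.exists_card_eq
    have hd : i ∣ p ^ c := hc ▸ Subgroup.index_dvd_card _
    obtain ⟨b, -, hb⟩ := (Nat.dvd_prime_pow hp).1 hd
    rcases Nat.eq_zero_or_pos b with rfl | hb0
    · exfalso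
      rw [pow_zero, hi, Subgroup.relIndex_eq_one] at hb
      have : a ∈ H ⊓ centralizer (V : Set G) := ⟨haH, fun v hv =>
        mem_centralizer_singleton_iff.1 (hb hv).2⟩
      rw [hf, mem_bot] at this
      exact ha1 this
    · rw [hb]
      exact Nat.le_self_pow (by omega) p
  rcases Nat.lt_or_ge n 2 with hn | hn
  · rw [show n = 1 by omega, pow_one]
    exact hip
  obtain ⟨m, r, hr, hr2, hm3, hmodd, hmd, hme, hord⟩ := exists_modulus hp hn
  -- `a` is conjugate to an upper unitriangular element
  obtain ⟨g, hg⟩ := LinGroup.exists_conj_upperSub p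
    (S.mapSurjective (f := e.toMonoidHom) e.surjective)
  obtain ⟨a', ha', haa'⟩ := ha
  have h1 : e a' ∈ MulAut.conj g • (LinGroup.upperSub : Subgroup (SLtwo F)) := by
    rw [← hg]
    exact mem_map_of_mem e.toMonoidHom ha'
  obtain ⟨u, hu, hu'⟩ := h1
  obtain ⟨s, rfl⟩ := LinGroup.mem_upperSub_iff.1 hu
  have hu' : g * upper s * g⁻¹ = e a' := hu'
  have hs : s ≠ 0 := fun h => by
    rw [h, SL2.upper_zero, mul_one, mul_inv_cancel] at hu'
    have : a' = 1 := e.injective (by rw [map_one, ← hu'])
    exact ha1 (by rw [← haa', this, map_one])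
  obtain ⟨k, hk⟩ := exists_partner hmodd hm3 (hF ▸ hmd) hs
  set k' : ↥H := e.symm (g * k * g⁻¹) with hk'
  set b : G := (k' : G) * a * (k' : G)⁻¹ with hb
  set x' : ↥H := (a' * (k' * a' * k'⁻¹)) ^ 2 with hx'
  have hx'o : orderOf x' = m := by
    rw [← e.orderOf_eq, ← hk, hx']
    simp only [map_pow, map_mul, map_inv, hk', MulEquiv.apply_symm_apply, ← hu']
    rw [← (MulAut.conj g).orderOf_eq ((upper s * (k * upper s * k⁻¹)) ^ 2)]
    congr 1
    rw [map_pow, MulAut.conj_apply]
    congr 1
    group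
  set x : G := ((x' : ↥H) : G) with hx
  have hxval : x = (a * b) ^ 2 := by
    rw [hx, hx', hb]
    simp [← haa']
  have hxo : orderOf x = m := by rw [hx, Subgroup.orderOf_coe, hx'o]
  have hmp : ¬ p ∣ m := fun h => by
    have h2 : p ∣ p ^ n + 1 := h.trans hmd
    have h3 : p ∣ p ^ n := dvd_pow_self p hn0
    exact hp.not_dvd_one ((Nat.dvd_add_right h3).1 h2)
  obtain ⟨y, hy, hbig⟩ := relIndex_ge_of_element V hV (hHV x'.2)
    (fun z hz hzc => mem_bot.1 (hf ▸ (⟨(zpowers_le.2 x'.2) hz, hzc⟩ :
      z ∈ H ⊓ centralizer (V : Set G))))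
    (fun h => by rw [show x = 1 from h, orderOf_one] at hxo; omega) hr hxo hme hmp n hord
  -- both fixed point groups fix `y`
  set Ca := V ⊓ centralizer ({a} : Set G)
  set Cb := V ⊓ centralizer ({b} : Set G) with hCb
  have hle : Ca ⊓ Cb ≤ V ⊓ centralizer ({y} : Set G) := fun v hv => by
    refine ⟨hv.1.1, mem_centralizer_singleton_iff.2 ?_⟩
    have hca : Commute v a := (mem_centralizer_singleton_iff.1 hv.1.2)
    have hcb : Commute v b := (mem_centralizer_singleton_iff.1 hv.2.2)
    obtain ⟨j, hj⟩ := mem_zpowers_iff.1 hy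
    rw [← hj, show ((x' : ↥H) : G) = (a * b) ^ 2 from hxval]
    exact (((hca.mul_right hcb).pow_right 2).zpow_right j).eq
  have hCbi : Cb.relIndex V = i := by
    have hVk : V.map (MulAut.conj (k' : G)).toMonoidHom = V := by
      refine le_antisymm ?_ fun v hv => ?_
      · rintro _ ⟨v, hv, rfl⟩
        exact (mem_normalizer_iff.1 (hHV k'.2) v).1 hv
      · exact ⟨(k' : G)⁻¹ * v * (k' : G), (mem_normalizer_iff.1 (hHV k'.2) _).2
          (by rw [show (k' : G) * ((k' : G)⁻¹ * v * k') * (k' : G)⁻¹ = v by group]; exact hv),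
          by simp; group⟩
    have hCk : Ca.map (MulAut.conj (k' : G)).toMonoidHom = Cb := by
      rw [hCb, Subgroup.map_inf _ _ _ (MulAut.conj (k' : G)).injective, hVk]
      congr 1
      refine le_antisymm ?_ fun v hv => ?_
      · rintro _ ⟨v, hv, rfl⟩
        refine mem_centralizer_singleton_iff.2 ?_
        have := mem_centralizer_singleton_iff.1 hv
        show (k' : G) * v * (k' : G)⁻¹ * b = b * ((k' : G) * v * (k' : G)⁻¹)
        rw [hb]
        calc (k' : G) * v * (k' : G)⁻¹ * ((k' : G) * a * (k' : G)⁻¹)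
            = (k' : G) * (v * a) * (k' : G)⁻¹ := by group
          _ = (k' : G) * (a * v) * (k' : G)⁻¹ := by rw [this]
          _ = _ := by group
      · refine ⟨(k' : G)⁻¹ * v * (k' : G), mem_centralizer_singleton_iff.2 ?_, by simp; group⟩
        have := mem_centralizer_singleton_iff.1 hv
        rw [hb] at this
        calc (k' : G)⁻¹ * v * (k' : G) * a
            = (k' : G)⁻¹ * (v * ((k' : G) * a * (k' : G)⁻¹)) * (k' : G) := by group
          _ = (k' : G)⁻¹ * ((k' : G) * a * (k' : G)⁻¹ * v) * (k' : G) := by rw [this]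
          _ = _ := by group
    rw [← hCk, hi]
    conv_lhs => rw [← hVk]
    exact Subgroup.relIndex_map_map_of_injective _ _ (MulAut.conj (k' : G)).injective
  have h2 : p ^ (2 * n) ≤ i * i := by
    refine hbig.trans ((Nat.le_of_dvd ?_ ?_).trans ((Subgroup.relIndex_inf_le (H := Ca) (K := Cb)
      (L := V)).trans (le_of_eq (by rw [hCbi]))))
    · exact Nat.pos_of_ne_zero Subgroup.index_ne_zero_of_finite
    · exact Subgroup.relIndex_dvd_of_le_left _ hle
  rw [show 2 * n = n + n by omega, pow_add] at h2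
  exact Nat.mul_self_le_mul_self_iff.1 h2

end Cfsg.Agent.Lib.LocalChar.SL2Fix
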