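import Mathlib
import Cfsg.Agent.Lib.Qd.Involved
import Cfsg.Agent.Lib.Qd.Basic
import Cfsg.Agent.Lib.Involves.Basic

/-!
# An involved Qd(p) gives a p-local involving SL₂(p)
-/

set_option autoImplicit false

namespace Cfsg.Agent.Lib.LocalChar.SL2Free

open Cfsg Subgroup Cfsg.Agent.Lib

variable {G : Type*} [Group G] [Finite G] {p : ℕ} [Fact p.Prime]

/-- If Qd(p) is involved in `G` then SL₂(p) is involved in the normalizer of some nontrivial
`p`-subgroup. -/
theorem exists_local_involves_sl2 (h : Cfsg.Involves ↥(Cfsg.qd p) G) :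
    ∃ P : Subgroup G, IsPGroup p P ∧ P ≠ ⊥ ∧
      Cfsg.Involves (Matrix.SpecialLinearGroup (Fin 2) (ZMod p))
        ↥(normalizer (P : Set G)) := by
  obtain ⟨K, f, hf⟩ := Involves.exists_surjective h
  let g : K →* Matrix.SpecialLinearGroup (Fin 2) (ZMod p) :=
    (Qd.blockHom (F := ZMod p)).comp f
  have hg : Function.Surjective g := (Qd.blockHom_surjective (F := ZMod p)).comp hf
  set W := g.ker with hW
  obtain ⟨P⟩ : Nonempty (Sylow p W) := inferInstance
  have hsup := Sylow.normalizer_sup_eq_top P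
  set P₁ := (P : Subgroup W).map W.subtype with hP₁
  set P₂ := P₁.map K.subtype with hP₂
  have hne : (P : Subgroup W) ≠ ⊥ := by
    refine Sylow.ne_bot_of_dvd_card P ?_
    let v : Qd.transl (ZMod p) :=
      ⟨Qd.mk 1 ![1, 0], Qd.mk_mem_transl _⟩
    obtain ⟨w, hw⟩ := hf v.1
    have hwW : w ∈ W := by
      show g w = 1
      rw [show g w = Qd.blockHom (F := ZMod p) (f w) from rfl, hw]
      exact v.2
    have h1 : orderOf (v : Cfsg.qdOver (ZMod p)) = p := by
      refine orderOf_eq_prime ?_ ?_
      · have key : ∀ n : ℕ, (Qd.mk 1 ![(1 : ZMod p), 0]) ^ n = Qd.mk 1 ![(n : ZMod p), 0] := by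
          intro n
          induction n with
          | zero =>
            rw [pow_zero, ← Qd.mk_one_zero, Nat.cast_zero]
            congr 1
            ext i; fin_cases i <;> rfl
          | succ n ih =>
            rw [pow_succ, ih, Qd.mk_mul, one_mul]
            congr 1
            ext i; fin_cases i <;> simp [add_comm]
        rw [key, ZMod.natCast_self, ← Qd.mk_one_zero]
        congr 1
        ext i; fin_cases i <;> rfl
      · intro he
        have := congrArg Qd.vec he
        rw [← Qd.mk_one_zero, Qd.vec_mk, Qd.vec_mk] at this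
        simpa using congrFun this 0
    have h2 : p ∣ orderOf (⟨w, hwW⟩ : W) := by
      conv_lhs => rw [← h1, ← hw]
      rw [Subgroup.orderOf_mk]
      exact orderOf_map_dvd f w
    exact h2.trans (orderOf_dvd_natCard _)
  refine ⟨P₂, (P.2.map _).map _, ?_, ?_⟩
  · rw [hP₂, hP₁, Ne, map_eq_bot_iff_of_injective _ K.subtype_injective,
      map_eq_bot_iff_of_injective _ W.subtype_injective]
    exact hne
  let K₁ : Subgroup ↥(normalizer (P₂ : Set G)) := K.subgroupOf (normalizer (P₂ : Set G))
  let i : K₁ →* K :=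
    { toFun := fun x => ⟨x.1.1, x.2⟩
      map_one' := rfl
      map_mul' := fun _ _ => rfl }
  refine Involves.of_surjective (g.comp i) fun s => ?_
  obtain ⟨k, rfl⟩ := hg s
  have hk : k ∈ normalizer (P₁ : Set K) ⊔ W := hsup.symm ▸ mem_top k
  rw [mem_sup_of_normal_right] at hk
  obtain ⟨n, hn, w, hw, rfl⟩ := hk
  have hn' : (n : G) ∈ normalizer (P₂ : Set G) :=
    le_normalizer_map K.subtype ⟨n, hn, rfl⟩
  refine ⟨⟨⟨(n : G), hn'⟩, n.2⟩, ?_⟩
  show g n = g (n * w)
  rw [map_mul, show g w = 1 from hw, mul_one]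

end Cfsg.Agent.Lib.LocalChar.SL2Free
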