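import Mathlib
import Cfsg.Prelude.Def_TwoFusion
import Cfsg.Agent.Lib.ZJ.Main

/-!
# Glauberman's ZJ theorem for strongly closed subgroups
-/

set_option autoImplicit false

namespace Cfsg.Agent.Lib.LocalChar.StrongClosedZJ

open Subgroup Cfsg Cfsg.Agent.Lib Cfsg.Agent.Lib.ZJ
open scoped commutatorElement

variable {G : Type*} [Group G] {p m : ℕ}

theorem le_normalizer_of_closed [Finite G] {U S : Subgroup G} (hU : IsStronglyClosed U S) :
    S ≤ normalizer (U : Set G) := fun s hs =>
  mem_normalizer_of_conj_le fun x hx =>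
    hU.2 x hx s (S.mul_mem (S.mul_mem hs (hU.1 hx)) (S.inv_mem hs))

/-- Abelian subgroups of `S` normalised by a normal `p`-subgroup act inside the `p`-core. -/
def AbelianStable (p : ℕ) (S : Subgroup G) : Prop :=
  ∀ (W : Subgroup G) [W.Normal], IsPGroup p W → ∀ A : Subgroup G,
    (∀ x ∈ A, ∀ y ∈ A, Commute x y) → A ≤ S → W ≤ normalizer (A : Set G) →
    A.map (QuotientGroup.mk' (centralizer (W : Set G))) ≤ pCore p (G ⧸ centralizer (W : Set G))

theorem abelianStable_of_stableOn {S : Subgroup G} (h : ZJ.StableOn p S) : AbelianStable p S := by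
  intro W _ hW A hA hAS hWA
  refine h W hW A hAS ?_
  have h1 : ⁅W, A⁆ ≤ A := Subgroup.commutator_le.2 fun x hx y hy => by
    rw [commutatorElement_def]
    exact A.mul_mem ((mem_normalizer_iff.1 (hWA hx) y).1 hy) (A.inv_mem hy)
  refine le_bot_iff.1 ((commutator_mono h1 le_rfl).trans (le_of_eq ?_))
  rw [commutator_eq_bot_iff_le_centralizer]
  exact fun x hx => mem_centralizer_iff.2 fun y hy => (hA y hy x hx).eq

variable [Finite G] [Fact p.Prime]

theorem inf_zj_normal_of_closed (hp : p ≠ 2) (hm : m = 0 ∨ m = p) (S : Sylow p G) {U : Subgroup G}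
    (hU : IsStronglyClosed U (S : Subgroup G)) (hst : AbelianStable p (S : Subgroup G)) :
    ∀ (B : Subgroup G), B.Normal → IsPGroup p B → (B ⊓ zj m U).Normal := by
  have hSU := le_normalizer_of_closed hU
  intro B
  induction hn : Nat.card B using Nat.strong_induction_on generalizing B with
  | _ n IH =>
  intro hBn hBp
  subst hn
  have hm' : m = 0 ∨ Odd m := hm.imp_right fun (h : m = p) => h.symm ▸ (Fact.out : p.Prime).odd_of_ne_two hp
  set Z := zj m U with hZ
  have hBS : B ≤ (S : Subgroup G) :=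
    (PSolvable.le_pCore (hN := hBn) hBp).trans (PSolvable.pCore_le_sylow S)
  have hSZ : (S : Subgroup G) ≤ normalizer (Z : Set G) :=
    hSU.trans (ZJ.normalizer_le m U)
  have hSB : (S : Subgroup G) ≤ normalizer ((B ⊓ Z : Subgroup G) : Set G) := fun s hs =>
    mem_normalizer_of_conj_le fun x hx =>
      ⟨hBn.conj_mem x hx.1 s, (mem_normalizer_iff.1 (hSZ hs) x).1 hx.2⟩
  have smaller : ∀ C : Subgroup G, C.Normal → C ≤ B → C ≠ B → (C ⊓ Z).Normal := fun C hC hle hne =>
    IH _ (lt_of_le_of_ne (card_le_of_le hle) fun h => hne (eq_of_le_of_card_ge hle h.ge)) C rfl hC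
      (hBp.to_le hle)
  by_cases hB0 : B = ⊥
  · rw [hB0, bot_inf_eq]; infer_instance
  set Z₀ := B ⊓ Z with hZ₀
  by_contra hnot
  have hB1 : normalClosure (Z₀ : Set G) = B := by
    by_contra h
    have hle : normalClosure (Z₀ : Set G) ≤ B := normalClosure_le_normal inf_le_left
    refine hnot ?_
    have h1 := smaller _ normalClosure_normal hle h
    rwa [show normalClosure (Z₀ : Set G) ⊓ Z = Z₀ from
      le_antisymm (inf_le_inf_right _ hle) (le_inf le_normalClosure inf_le_right)] at h1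
  have hB'le : ⁅B, B⁆ ≤ B := commutator_le_self B
  have hB'ne : ⁅B, B⁆ ≠ B := by
    intro h
    have : Nontrivial B := (nontrivial_iff_ne_bot B).2 hB0
    have : Group.IsNilpotent B := hBp.isNilpotent
    refine (Group.IsSolvable.commutator_lt_top_of_nontrivial B).ne ?_
    apply map_injective B.subtype_injective
    rw [map_subtype_commutator, h]
    simp [← MonoidHom.range_eq_map]
  have hKn := smaller _ inferInstance hB'le hB'ne
  set K := ⁅B, B⁆ ⊓ Z with hK
  have hB'Z : ⁅B, B⁆ ≤ Z := by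
    have hBfn : (B.map (QuotientGroup.mk' K)).Normal :=
      Normal.map hBn _ (QuotientGroup.mk'_surjective K)
    have hTn : ((centralizer ((B.map (QuotientGroup.mk' K) : Subgroup (G ⧸ K)) :
        Set (G ⧸ K))).comap (QuotientGroup.mk' K)).Normal := Normal.comap inferInstance _
    have hZT : (Z₀ : Set G) ⊆ (centralizer ((B.map (QuotientGroup.mk' K) : Subgroup (G ⧸ K)) :
        Set (G ⧸ K))).comap (QuotientGroup.mk' K) := by
      intro z hz
      rw [SetLike.mem_coe, mem_comap, mem_centralizer_iff]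
      rintro _ ⟨b, hb, rfl⟩
      have h1 : ⁅b, z⁆ ∈ K := by
        refine ⟨commutator_mem_commutator hb hz.1, ?_⟩
        rw [commutatorElement_def]
        exact Z.mul_mem ((mem_normalizer_iff.1 (hSZ (hBS hb)) z).1 hz.2) (Z.inv_mem hz.2)
      rw [← QuotientGroup.eq_one_iff, ← QuotientGroup.mk'_apply, map_commutatorElement,
        commutatorElement_eq_one_iff_commute] at h1
      exact h1
    have hle : B ≤ _ := hB1.ge.trans (normalClosure_le_normal hZT)
    refine le_trans ?_ (inf_le_right : K ≤ Z)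
    refine Subgroup.commutator_le.2 fun x hx y hy => ?_
    rw [← QuotientGroup.eq_one_iff, ← QuotientGroup.mk'_apply, map_commutatorElement,
      commutatorElement_eq_one_iff_commute]
    exact (mem_centralizer_iff.1 (hle hy) _ (mem_map_of_mem _ hx))
  set L := normalCore (normalizer (Z₀ : Set G)) with hL
  have hfr := FusionMod.frattini_inf S L
  set T := (S : Subgroup G) ⊓ L with hT
  have hNT : normalizer (T : Set G) ≤ normalizer ((U ⊓ L : Subgroup G) : Set G) := by
    intro g hg
    refine mem_normalizer_of_conj_le fun x hx => ?_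
    have h1 : g * x * g⁻¹ ∈ T := (mem_normalizer_iff.1 hg x).1 ⟨hU.1 hx.1, hx.2⟩
    exact ⟨hU.2 x hx.1 g h1.1, h1.2⟩
  -- some member lies outside `L`
  have hex : ∃ A ∈ fam m U, ¬ A ≤ L := by
    by_contra! h
    refine hnot (normalizer_eq_top_iff.1 (top_le_iff.1 ?_))
    rw [← hfr]
    refine sup_le ?_ (normalCore_le _)
    have heq : fam m (U ⊓ L) = fam m U := by
      obtain ⟨A₀, hA₀⟩ := exists_mem_fam m U
      ext A
      constructor
      · rintro ⟨hA, hAe, hmax⟩
        exact ⟨hA.trans inf_le_left, hAe, fun C hC hCe =>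
          (hA₀.2.2 C hC hCe).trans (hmax A₀ (le_inf hA₀.1 (h A₀ hA₀)) hA₀.2.1)⟩
      · rintro ⟨hA, hAe, hmax⟩
        exact ⟨le_inf hA (h A ⟨hA, hAe, hmax⟩), hAe, fun C hC hCe => hmax C (hC.trans inf_le_left) hCe⟩
    intro g hg
    have hgZ : g ∈ normalizer (Z : Set G) := by
      have := ZJ.normalizer_le m (U ⊓ L) (hNT hg)
      rwa [show zj m (U ⊓ L) = Z by rw [hZ, zj, zj, heq]] at this
    exact mem_normalizer_of_conj_le fun x hx =>
      ⟨hBn.conj_mem x hx.1 g, (mem_normalizer_iff.1 hgZ x).1 hx.2⟩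
  obtain ⟨A, ⟨hA, hAL⟩, hmax⟩ := Set.exists_max_image
    {A : Subgroup G | A ∈ fam m U ∧ ¬ A ≤ L}
    (fun A => Nat.card (A ⊓ B : Subgroup G)) (Set.toFinite _) hex
  have hBA : ⁅B, B⁆ ≤ A := hB'Z.trans (zj_le_of_mem hA)
  have hBN : B ≤ normalizer (A : Set G) := by
    by_contra hnN
    -- replacement inside `S`
    set U₀ := U.subgroupOf (S : Subgroup G) with hU₀
    haveI : U₀.Normal := normal_subgroupOf_of_le_normalizer hSU
    have hfam : ∀ {C : Subgroup (S : Subgroup G)},
        C ∈ fam m U₀ ↔ C.map (S : Subgroup G).subtype ∈ fam m U := by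
      intro C
      have h := fam_map_iff (m := m) (S : Subgroup G).subtype
        (U := U₀) (Subgroup.subtype_injective _).injOn
        (B := C.map (S : Subgroup G).subtype)
      rw [hU₀, map_subgroupOf_eq_of_le hU.1] at h
      rw [h]
      exact ⟨fun hC => ⟨C, hC, rfl⟩, fun ⟨D, hD, he⟩ => map_injective (subtype_injective _) he ▸ hD⟩
    have hAtop : A.subgroupOf (S : Subgroup G) ∈ fam m U₀ := by
      rw [hfam, map_subgroupOf_eq_of_le (hA.1.trans hU.1)]; exact hA
    have : (B.subgroupOf (S : Subgroup G)).Normal := hBn.subgroupOf _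
    have hBA' : ⁅B.subgroupOf (S : Subgroup G), B.subgroupOf (S : Subgroup G)⁆ ≤
        A.subgroupOf (S : Subgroup G) := by
      refine Subgroup.commutator_le.2 fun x hx y hy => ?_
      exact hBA (commutator_mem_commutator (mem_subgroupOf.1 hx) (mem_subgroupOf.1 hy))
    have hn' : ¬ B.subgroupOf (S : Subgroup G) ≤
        normalizer (A.subgroupOf (S : Subgroup G) : Set (S : Subgroup G)) := fun h => hnN fun x hx => by
      refine mem_normalizer_of_conj_le fun a ha => ?_
      exact (mem_normalizer_iff.1 (@h ⟨x, hBS hx⟩ hx) ⟨a, hU.1 (hA.1 ha)⟩).1 ha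
    obtain ⟨A', hA', -, hlt, hltB, -⟩ :=
      exists_replacement S.2 hp hm' U₀ (B.subgroupOf (S : Subgroup G)) hAtop hBA' hn'
    rw [hfam] at hA'
    set A'' := A'.map (S : Subgroup G).subtype with hA''
    have hlt' : A ⊓ B < A'' ⊓ B := by
      have h := (map_lt_map_iff_of_injective (subtype_injective (S : Subgroup G))).2 hlt
      rwa [map_inf _ _ _ (subtype_injective _), map_inf _ _ _ (subtype_injective _),
        map_subgroupOf_eq_of_le (hA.1.trans hU.1), map_subgroupOf_eq_of_le hBS] at h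
    have hltB' : A'' ⊓ B < B := by
      have h := (map_lt_map_iff_of_injective (subtype_injective (S : Subgroup G))).2 hltB
      rwa [map_inf _ _ _ (subtype_injective _), map_subgroupOf_eq_of_le hBS] at h
    have hA''L : A'' ≤ L := by
      by_contra h
      exact absurd (hmax A'' ⟨hA', h⟩) (not_le_of_gt (Set.ncard_lt_ncard hlt' (Set.toFinite _)))
    refine hltB'.ne (inf_eq_right.2 ?_)
    have hA''T : A'' ∈ fam m (U ⊓ L) := ⟨le_inf hA'.1 hA''L, hA'.2.1,
      fun C hC hCe => hA'.2.2 C (hC.trans inf_le_left) hCe⟩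
    have hsub : Z₀ ≤ zj m (U ⊓ L) := fun z hz => mem_zj.2 fun C hC => zj_le_of_mem
      ⟨hC.1.trans inf_le_left, hC.2.1, fun D hD hDe =>
        (hA'.2.2 D hD hDe).trans (hC.2.2 A'' hA''T.1 hA''T.2.1)⟩ hz.2
    refine hB1.ge.trans ((closure_le _).2 fun w hw => ?_)
    obtain ⟨z, hz, hzw⟩ := Group.mem_conjugatesOfSet_iff.mp hw
    obtain ⟨c, rfl⟩ := isConj_iff.mp hzw
    obtain ⟨g, hg, l, hl, rfl⟩ := mem_sup_of_normal_right.1 (hfr ▸ mem_top c :
      c ∈ normalizer (T : Set G) ⊔ L)
    have h1 : l * z * l⁻¹ ∈ Z₀ := (mem_normalizer_iff.mp (normalCore_le _ hl) z).mp hz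
    have h2 := (mem_normalizer_iff.mp (ZJ.normalizer_le m (U ⊓ L) (hNT hg)) _).mp (hsub h1)
    refine zj_le_of_mem hA''T ?_
    rw [show g * l * z * (g * l)⁻¹ = g * (l * z * l⁻¹) * g⁻¹ by group]
    exact h2
  -- `p`-stability
  have hquad : ⁅⁅B, A⁆, A⁆ = ⊥ := by
    have h1 : ⁅B, A⁆ ≤ A := Subgroup.commutator_le.2 fun x hx y hy => by
      rw [commutatorElement_def]
      exact A.mul_mem ((mem_normalizer_iff.1 (hBN hx) y).1 hy) (A.inv_mem hy)
    refine le_bot_iff.1 ((commutator_mono h1 le_rfl).trans (le_of_eq ?_))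
    rw [commutator_eq_bot_iff_le_centralizer]
    exact fun x hx => mem_centralizer_iff.2 fun y hy => (hA.2.1.1 y hy x hx).eq
  set C := centralizer (B : Set G) with hC
  set D := (pCore p (G ⧸ C)).comap (QuotientGroup.mk' C) with hD
  have hDn : D.Normal := Normal.comap inferInstance _
  have hAD : A ≤ D := map_le_iff_le_comap.1 (hst B hBp A hA.2.1.1 (hA.1.trans hU.1) hBN)
  refine hAL (hAD.trans (normal_le_normalCore.2 fun d hd => ?_))
  have hmap : ((S : Subgroup G) ⊓ D).map (QuotientGroup.mk' C) = D.map (QuotientGroup.mk' C) := by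
    rw [← FusionMod.map_sylowInf S D]
    refine PSolvable.map_sylow_eq _ _ ?_
    rw [hD, map_comap_eq_self_of_surjective (QuotientGroup.mk'_surjective C)]
    exact PSolvable.pCore_isPGroup
  obtain ⟨s, hs, hsd⟩ := hmap.ge (mem_map_of_mem _ hd)
  have hsC : s⁻¹ * d ∈ C := QuotientGroup.eq.1 hsd
  rw [show d = s * (s⁻¹ * d) by group]
  refine mul_mem (hSB hs.1) (mem_normalizer_of_conj_le fun x hx => ?_)
  rwa [← mem_centralizer_iff.1 hsC x hx.1, mul_inv_cancel_right]

/-- Glauberman's `ZJ` theorem. -/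
theorem zj_normal_of_closed (hp : p ≠ 2) (hm : m = 0 ∨ m = p)
    (hc : centralizer (pCore p G : Set G) ≤ pCore p G) (S : Sylow p G)
    {U : Subgroup G} (hU : IsStronglyClosed U (S : Subgroup G))
    (hst : AbelianStable p (S : Subgroup G)) : (zj m U).Normal := by
  set Z := zj m U with hZ
  have hQS : pCore p G ≤ (S : Subgroup G) := PSolvable.pCore_le_sylow S
  have hQZ : pCore p G ≤ normalizer (Z : Set G) :=
    hQS.trans ((le_normalizer_of_closed hU).trans (ZJ.normalizer_le m _))
  have hquad : ⁅⁅pCore p G, Z⁆, Z⁆ = ⊥ := by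
    have h1 : ⁅pCore p G, Z⁆ ≤ Z := Subgroup.commutator_le.2 fun x hx y hy => by
      rw [commutatorElement_def]
      exact Z.mul_mem ((mem_normalizer_iff.1
        (((le_normalizer_of_closed hU).trans (ZJ.normalizer_le m _)) (hQS hx)) y).1 hy) (Z.inv_mem hy)
    refine le_bot_iff.1 ((commutator_mono h1 le_rfl).trans (le_of_eq ?_))
    rw [commutator_eq_bot_iff_le_centralizer]
    exact fun x hx => mem_centralizer_iff.2 fun y hy => ((abExp_zj m _).1 y hy x hx).eq
  have hZQ : Z ≤ pCore p G := by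
    set f := QuotientGroup.mk' (centralizer (pCore p G : Set G)) with hf
    have hDn : ((pCore p (G ⧸ centralizer (pCore p G : Set G))).comap f).Normal :=
      Normal.comap inferInstance _
    refine (map_le_iff_le_comap.1 (hst (pCore p G) PSolvable.pCore_isPGroup Z (abExp_zj m _).1 ((zj_le m _).trans hU.1) hQZ)).trans
      (PSolvable.le_pCore (hN := hDn) ?_)
    refine PSolvable.pCore_isPGroup.comap_of_ker_isPGroup f ?_
    rw [QuotientGroup.ker_mk']
    exact PSolvable.pCore_isPGroup.to_le hc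
  have h := inf_zj_normal_of_closed hp hm S hU hst (pCore p G) inferInstance PSolvable.pCore_isPGroup
  rwa [inf_eq_right.2 hZQ] at h

end Cfsg.Agent.Lib.LocalChar.StrongClosedZJ
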