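import Mathlib
import Cfsg.Agent.Lib.LocalChar.StrongClosedZJ
import Cfsg.Agent.Lib.Qd.ZJFunctor
import Cfsg.Agent.Lib.Qd.Involved
import Cfsg.Agent.Lib.Functor.Reduction
import Cfsg.Agent.Lib.PReduced.Kieler
import Cfsg.Agent.Lib.Involves.Basic

/-!
# The ZJ of a strongly closed subgroup controls strong fusion in Qd(p)-free groups
-/

set_option autoImplicit false

namespace Cfsg.Agent.Lib.LocalChar.StrongClosedFusion

open Subgroup Cfsg Cfsg.Agent.Lib Cfsg.Agent.Lib.Functor
open Cfsg.Agent.Lib.LocalChar.StrongClosedZJ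

universe u

/-- Conjugation of `B` by `g` is induced by an element of `N`. -/
def InducedBy {G : Type u} [Group G] (N B : Subgroup G) (g : G) : Prop :=
  ∃ x ∈ N, ∀ b ∈ B, x * b * x⁻¹ = g * b * g⁻¹

variable {G : Type u} [Group G]

theorem InducedBy.of_mem {N B : Subgroup G} {g : G} (hg : g ∈ N) : InducedBy N B g :=
  ⟨g, hg, fun _ _ => rfl⟩

theorem InducedBy.congr {N B : Subgroup G} {g g' : G}
    (h : ∀ b ∈ B, g * b * g⁻¹ = g' * b * g'⁻¹) : InducedBy N B g → InducedBy N B g' :=
  fun ⟨x, hx, hxb⟩ => ⟨x, hx, fun b hb => (hxb b hb).trans (h b hb)⟩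

theorem inducedBy_isFusionProp (N S : Subgroup G) : IsFusionProp S (InducedBy N) where
  bot g := ⟨1, one_mem N, fun b hb => by rw [mem_bot] at hb; simp [hb]⟩
  comp := by
    rintro B g h - - - ⟨x, hx, hxb⟩ ⟨y, hy, hyb⟩
    refine ⟨y * x, mul_mem hy hx, fun b hb => ?_⟩
    calc y * x * b * (y * x)⁻¹ = y * (x * b * x⁻¹) * y⁻¹ := by group
      _ = h * (g * b * g⁻¹) * h⁻¹ := by rw [hxb b hb, hyb _ (conj_mem_cj hb)]
      _ = h * g * b * (h * g)⁻¹ := by group
  symm := by
    rintro B g - - ⟨x, hx, hxb⟩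
    refine ⟨x⁻¹, inv_mem hx, ?_⟩
    rintro _ ⟨b, hb, rfl⟩
    simp only [MulEquiv.coe_toMonoidHom, MulAut.conj_apply]
    calc x⁻¹ * (g * b * g⁻¹) * x⁻¹⁻¹ = x⁻¹ * (x * b * x⁻¹) * x⁻¹⁻¹ := by rw [hxb b hb]
      _ = g⁻¹ * (g * b * g⁻¹) * g⁻¹⁻¹ := by group
  restrict := by
    rintro B B' g - - hle ⟨x, hx, hxb⟩
    exact ⟨x, hx, fun b hb => hxb b (hle hb)⟩

theorem isStronglyClosed_subgroupOf {D S H T : Subgroup G} (hD : IsStronglyClosed D S)
    (hT : T = S ⊓ H) : IsStronglyClosed (D.subgroupOf H) (T.subgroupOf H) := by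
  subst hT
  refine ⟨fun x hx => mem_subgroupOf.2 ⟨hD.1 (mem_subgroupOf.1 hx), x.2⟩, fun x hx g hg => ?_⟩
  exact mem_subgroupOf.2 (hD.2 (x : G) (mem_subgroupOf.1 hx) (g : G) (mem_subgroupOf.1 hg).1)

variable [Finite G] {p m : ℕ} [Fact p.Prime]

theorem isStronglyClosed_map_of_pGroup_ker {X : Type*} [Group X] {f : G →* X}
    (hf : Function.Surjective f) {D S : Subgroup G} (hD : IsStronglyClosed D S) (hk : f.ker ≤ S) :
    IsStronglyClosed (D.map f) (S.map f) := by
  refine ⟨map_mono hD.1, ?_⟩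
  rintro _ ⟨d, hd, rfl⟩ y hy
  obtain ⟨g, rfl⟩ := hf y
  rw [← map_inv, ← map_mul, ← map_mul, ← mem_comap, comap_map_eq, sup_eq_left.2 hk] at hy
  rw [← map_inv, ← map_mul, ← map_mul]
  exact mem_map_of_mem f (hD.2 d hd g hy)

theorem isStronglyClosed_map_of_coprime_ker {X : Type*} [Group X] {f : G →* X}
    (hf : Function.Surjective f) (hco : (Nat.card f.ker).Coprime p) {D S : Subgroup G}
    (hS : Functor.IsSylowIn p ⊤ S) (hD : IsStronglyClosed D S) :
    IsStronglyClosed (D.map f) (S.map f) := by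
  refine ⟨map_mono hD.1, ?_⟩
  rintro _ ⟨d, hd, rfl⟩ y hy
  obtain ⟨g, rfl⟩ := hf y
  rw [← map_inv, ← map_mul, ← map_mul] at hy ⊢
  set u := g * d * g⁻¹ with hu
  have hle : zpowers u ≤ S ⊔ f.ker := zpowers_le.2 (comap_map_eq f S ▸ mem_comap.2 hy)
  have hup : IsPGroup p (zpowers u) := by
    refine (isPGroup_cj (g := g) (hS.isPGroup.to_le hD.1)).to_le (zpowers_le.2 ?_)
    exact conj_mem_cj hd
  obtain ⟨x, hx, hxle⟩ := (hS.inter (K := S ⊔ f.ker) le_sup_left le_top).exists_cj_le hle hup
  obtain ⟨s, hs, k, hk, rfl⟩ := mem_sup_of_normal_right.1 hx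
  have h1 : k * u * k⁻¹ ∈ S := by
    have := hxle (conj_mem_cj (mem_zpowers u))
    simpa [mul_assoc] using S.mul_mem (S.mul_mem (S.inv_mem hs) this) hs
  have h2 : (k * g) * d * (k * g)⁻¹ ∈ D := by
    refine hD.2 d hd _ ?_
    rwa [show k * g * d * (k * g)⁻¹ = k * u * k⁻¹ by rw [hu]; group]
  refine ⟨_, h2, ?_⟩
  simp [hu, MonoidHom.mem_ker.mp hk]

/-- Lift control of fusion through a kernel of order prime to `p`. -/
theorem inducedBy_of_coprime_ker {X : Type u} [Group X] {f : G →* X}
    (hf' : Function.Surjective f) (hco : (Nat.card f.ker).Coprime p) (S : Sylow p G)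
    {D : Subgroup G} (hD : IsStronglyClosed D (S : Subgroup G)) {B : Subgroup G} {g : G}
    (hB : B ≤ (S : Subgroup G)) (hgB : cj g B ≤ (S : Subgroup G)) {y : X}
    (hy : y ∈ normalizer (ZJ.zj m (D.map f) : Set X))
    (hyb : ∀ b ∈ B.map f, y * b * y⁻¹ = f g * b * (f g)⁻¹) :
    InducedBy (normalizer (ZJ.zj m D : Set G)) B g := by
  have : Finite X := Finite.of_surjective f hf'
  have hS := isSylowIn_top_of_sylow S
  set N := normalizer (ZJ.zj m D : Set G) with hN
  have hSN : (S : Subgroup G) ≤ N := (le_normalizer_of_closed hD).trans (ZJ.normalizer_le m D)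
  have hinj : Set.InjOn f (S : Subgroup G) := injOn_of_coprime_ker hco S.2
  have hinjD : Set.InjOn f D := hinj.mono hD.1
  rw [ZJ.zj_map f hinjD] at hy
  obtain ⟨n0, hn0, hfn⟩ := exists_normalizer_preimage hf' hco
    (S.2.to_le ((ZJ.zj_le m D).trans hD.1)) hy
  have key : ∀ b ∈ B, f (n0 * b * n0⁻¹) = f (g * b * g⁻¹) := by
    intro b hb
    rw [map_mul, map_mul, map_inv, hfn, hyb _ (mem_map_of_mem f hb)]
    simp
  have hB' : cj n0 B ≤ ((S : Subgroup G) ⊔ f.ker) ⊓ N := by
    rw [cj_le_iff]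
    intro b hb
    refine ⟨?_, N.mul_mem (N.mul_mem hn0 (hSN (hB hb))) (N.inv_mem hn0)⟩
    rw [← comap_map_eq]
    show f (n0 * b * n0⁻¹) ∈ (S : Subgroup G).map f
    rw [key b hb]
    exact mem_map_of_mem f (hgB (conj_mem_cj hb))
  obtain ⟨x, hx, hxle⟩ := (hS.inter (K := ((S : Subgroup G) ⊔ f.ker) ⊓ N)
    (le_inf le_sup_left hSN) le_top).exists_cj_le hB' (isPGroup_cj (S.2.to_le hB))
  obtain ⟨w, hw, k, hk, rfl⟩ := mem_sup_of_normal_right.mp hx.1
  have hn1 : k * n0 ∈ N := by
    refine N.mul_mem ?_ hn0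
    simpa using N.mul_mem (N.inv_mem (hSN hw)) hx.2
  refine ⟨k * n0, hn1, fun b hb => hinj (?_ : _ ∈ (S : Subgroup G)) (hgB (conj_mem_cj hb)) ?_⟩
  · have := hxle (conj_mem_cj (g := w * k) (conj_mem_cj (g := n0) hb))
    simpa [mul_assoc] using
      (S : Subgroup G).mul_mem ((S : Subgroup G).mul_mem ((S : Subgroup G).inv_mem hw) this) hw
  · rw [← key b hb]
    simp [MonoidHom.mem_ker.mp hk, mul_assoc]

/-- In a `Qd(p)`-free group `N_G(zj D)` controls strong fusion, for `D` strongly closed. -/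
theorem inducedBy_normalizer_zj (hp : p ≠ 2) (hm : m = 0 ∨ m = p)
    (hfree : ¬ Cfsg.Involves ↥(Cfsg.qd p) G) (S : Sylow p G) {D : Subgroup G}
    (hD : IsStronglyClosed D (S : Subgroup G)) (hD1 : D ≠ ⊥) :
    ∀ (B : Subgroup G) (g : G), B ≤ (S : Subgroup G) → cj g B ≤ (S : Subgroup G) →
      InducedBy (normalizer (ZJ.zj m D : Set G)) B g := by
  suffices H : ∀ n : ℕ, ∀ (G : Type u) [Group G] [Finite G], Nat.card G < n →
      ¬ Cfsg.Involves ↥(Cfsg.qd p) G → ∀ (S : Sylow p G) {D : Subgroup G},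
      IsStronglyClosed D (S : Subgroup G) → D ≠ ⊥ →
      ∀ (B : Subgroup G) (g : G), B ≤ (S : Subgroup G) → cj g B ≤ (S : Subgroup G) →
        InducedBy (normalizer (ZJ.zj m D : Set G)) B g from
    H _ G (Nat.lt_succ_self _) hfree S hD hD1
  clear hfree S hD hD1 D
  intro n
  induction n with
  | zero => intro G _ _ hn; omega
  | succ n ih =>
    intro G _ _ hn hfree S D hD hD1
    set N := normalizer (ZJ.zj m D : Set G) with hN
    have hS := isSylowIn_top_of_sylow S
    have hSD : (S : Subgroup G) ≤ normalizer (D : Set G) := le_normalizer_of_closed hD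
    have hSN : (S : Subgroup G) ≤ N := hSD.trans (ZJ.normalizer_le m D)
    by_cases hNtop : N = ⊤
    · intro B g _ _
      exact InducedBy.of_mem (hNtop.symm ▸ mem_top g)
    by_cases hcons : centralizer ((pCore p G : Subgroup G) : Set G) ≤ pCore p G
    · refine absurd (normalizer_eq_top_iff.2 ?_) hNtop
      exact zj_normal_of_closed hp hm hcons S hD (abelianStable_of_stableOn (ZJ.stableOn_of_isPStableOn (fun P _ hP =>
        Qd.isPStableOn_of_isNormalizerPStable
          (Qd.isNormalizerPStable_of_not_involves hp hfree) P hP) _))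
    -- local subgroups
    have hlocal : ∀ H : Subgroup G, H ≠ ⊤ →
        Functor.IsSylowIn p H ((S : Subgroup G) ⊓ H) → D ⊓ H ≠ ⊥ →
        ∀ g ∈ H, ∀ B : Subgroup G, B ≤ (S : Subgroup G) ⊓ H → cj g B ≤ (S : Subgroup G) ⊓ H →
          InducedBy (normalizer (ZJ.zj m (D ⊓ H) : Set G)) B g := by
      intro H hH hT hne g hg B hB hgB
      obtain ⟨T', hT'⟩ := hT.exists_sylow
      have hlt : Nat.card H < Nat.card G := lt_of_le_of_ne (card_le_card_group H)
        fun he => hH (eq_top_of_card_eq H he)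
      have hcl : IsStronglyClosed (D.subgroupOf H) (T' : Subgroup H) :=
        hT'.symm ▸ isStronglyClosed_subgroupOf hD rfl
      have hne' : D.subgroupOf H ≠ ⊥ := fun h => hne (by
        rw [← subgroupOf_map_subtype, h, Subgroup.map_bot])
      obtain ⟨x, hx, hxb⟩ := ih H (by omega)
        (fun h => hfree (Involves.of_injective H.subtype H.subtype_injective h)) T' hcl hne'
        (B.subgroupOf H) ⟨g, hg⟩ (by rw [hT']; exact comap_mono hB) (by
          rw [hT', cj_le_iff]
          intro b hb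
          exact mem_subgroupOf.2 (hgB (conj_mem_cj (mem_subgroupOf.1 hb))))
      refine ⟨(x : G), ?_, fun b hb => ?_⟩
      · rw [← subgroupOf_map_subtype D H,
          ZJ.zj_map H.subtype H.subtype_injective.injOn]
        exact le_normalizer_map H.subtype ⟨x, hx, rfl⟩
      · exact congrArg Subtype.val (hxb ⟨b, (hB hb).2⟩ hb)
    -- subgroups above `S`
    have hover : ∀ H : Subgroup G, H ≠ ⊤ → (S : Subgroup G) ≤ H →
        ∀ g ∈ H, ∀ B : Subgroup G, B ≤ (S : Subgroup G) → cj g B ≤ (S : Subgroup G) →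
          InducedBy N B g := by
      intro H hH hSH g hg B hB hgB
      have hDH : D ⊓ H = D := inf_eq_left.2 (hD.1.trans hSH)
      have hSH' : (S : Subgroup G) ⊓ H = (S : Subgroup G) := inf_eq_left.2 hSH
      have h := hlocal H hH (by rw [hSH']; exact hS.inter hSH le_top) (by rwa [hDH]) g hg B
        (by rwa [hSH']) (by rwa [hSH'])
      rwa [hDH] at h
    haveI hKn : (pPrimeCore p G).Normal :=
      @Subgroup.normal_of_characteristic _ _ _ Cfsg.Agent.Lib.PSolvable.pPrimeCore_characteristic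
    haveI hPn : (pCore p G).Normal :=
      @Subgroup.normal_of_characteristic _ _ _ Cfsg.Agent.Lib.PSolvable.pCore_characteristic
    have hquot : ∀ M : Subgroup G, [M.Normal] → M ≠ ⊥ → Nat.card (G ⧸ M) < n := by
      intro M _ hM
      have h1 : 1 < Nat.card M := one_lt_card_iff_ne_bot M |>.mpr hM
      have h2 := card_eq_card_quotient_mul_card_subgroup M
      have h3 : 0 < Nat.card (G ⧸ M) := Nat.card_pos
      nlinarith
    by_cases hK : pPrimeCore p G = ⊥
    swap
    · intro B g hB hgB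
      set f := QuotientGroup.mk' (pPrimeCore p G) with hf
      have hf' : Function.Surjective f := QuotientGroup.mk'_surjective _
      have hco : (Nat.card f.ker).Coprime p := by
        rw [QuotientGroup.ker_mk']; exact Cfsg.Agent.Lib.PSolvable.pPrimeCore_coprime
      have hinj : Set.InjOn f (S : Subgroup G) := injOn_of_coprime_ker hco S.2
      have hinjD : Set.InjOn f D := hinj.mono hD.1
      let S' : Sylow p (G ⧸ pPrimeCore p G) := S.mapSurjective hf'
      have hcl : IsStronglyClosed (D.map f) (S' : Subgroup (G ⧸ pPrimeCore p G)) :=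
        isStronglyClosed_map_of_coprime_ker hf' hco hS hD
      have hne : D.map f ≠ ⊥ := fun h => hD1 ((eq_bot_iff_forall _).2 fun d hd => by
        refine hinjD hd (one_mem D) ?_
        rw [map_one]
        exact (mem_bot).1 (h ▸ mem_map_of_mem f hd))
      obtain ⟨y, hy, hyb⟩ := ih (G ⧸ pPrimeCore p G) (hquot _ hK)
        (fun h => hfree (Involves.of_quotient f hf' h)) S' hcl hne (B.map f) (f g)
        (map_mono hB) (by
          rw [cj_le_iff]
          rintro _ ⟨b, hb, rfl⟩
          exact ⟨g * b * g⁻¹, hgB (conj_mem_cj hb), by simp⟩)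
      exact inducedBy_of_coprime_ker hf' hco S hD hB hgB hy hyb
    by_cases hP : pCore p G = ⊥
    · refine (engine hS (inducedBy_isFusionProp N _)
        fun U hU hUS hUN ihU _ g hg B hB hgB => ?_).1
      set H := normalizer (U : Set G) with hH
      have hne := normalizer_ne_top_of_not_le_pCore (S.2.to_le hUS)
        (fun hle => hU (le_bot_iff.mp (hle.trans hP.le)))
      have hDH1 : D ⊓ H ≠ ⊥ := by
        obtain ⟨z, hz, hz1, -, hzc⟩ := PReduced.exists_order_p_central S.2 hD.1 hSD hD1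
        intro hb
        refine hz1 (mem_bot.1 (hb ▸ ⟨hz, ?_⟩ : z ∈ (⊥ : Subgroup G)))
        refine centralizer_le_normalizer _ ?_
        exact fun u hu => hzc u (hUS hu)
      have h := hlocal H hne hUN hDH1 g hg B hB hgB
      by_cases hQ : (S : Subgroup G) ⊓ H = (S : Subgroup G)
      · rwa [inf_eq_left.2 (hD.1.trans (inf_eq_left.1 hQ))] at h
      obtain ⟨x, hx, hxb⟩ := h
      set W := ZJ.zj m (D ⊓ H) with hW
      set Q := (S : Subgroup G) ⊓ H with hQdef
      have hQN : normalizer (Q : Set G) ⊓ (S : Subgroup G) ≤ normalizer (W : Set G) := by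
        intro s hs
        refine ZJ.normalizer_le m _ (mem_normalizer_of_cj_le (cj_le_iff.2 fun d hd => ?_))
        refine ⟨?_, ((mem_normalizer_iff.1 hs.1 d).1 ⟨hD.1 hd.1, hd.2⟩).2⟩
        exact (mem_normalizer_iff.1 (hSD hs.2) d).1 hd.1
      have hQW : Q ≤ (S : Subgroup G) ⊓ normalizer (W : Set G) :=
        le_inf inf_le_left ((le_inf le_normalizer inf_le_left).trans hQN)
      have hlt : Nat.card Q < Nat.card ↥((S : Subgroup G) ⊓ normalizer (W : Set G)) :=
        Set.Finite.card_lt_card (Set.toFinite _) (lt_of_lt_of_le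
          (lt_inf_normalizer S.2 inf_le_left hQ)
          (le_inf inf_le_left (by rw [inf_comm]; exact hQN)))
      have hW1 : W ≠ ⊥ := ZJ.zj_ne_bot (p := p) (S.2.to_le (inf_le_left.trans hD.1)) hDH1 hm
      have hxgB : cj x B = cj g B := cj_congr hxb
      refine InducedBy.congr hxb (ihU W hW1 ((ZJ.zj_le m _).trans (inf_le_left.trans hD.1)) hlt x hx
        B (hB.trans hQW) ?_)
      rw [hxgB]
      exact hgB.trans hQW
    have hPp : IsPGroup p (pCore p G) := Cfsg.Agent.Lib.PSolvable.pCore_isPGroup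
    have hPS : pCore p G ≤ S := hS.le_of_normal hPp
    refine rel_of_core hS (inducedBy_isFusionProp N _) (fun B g g' he => InducedBy.congr he) hPp
      ?_ ?_
    · intro g hg B hB hgB
      refine hover _ (normalizer_ne_top_of_not_le_pCore (S.2.to_le inf_le_left) ?_) ?_ g hg B hB hgB
      · intro hle
        exact hcons (centralizer_le_of_inf_eq hS hK (le_antisymm hle (le_inf hPS le_sup_left)))
      · intro s hs
        refine mem_normalizer_of_cj_le (cj_le_iff.mpr fun b hb => ⟨?_, ?_⟩)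
        · exact S.1.mul_mem (S.1.mul_mem hs hb.1) (S.1.inv_mem hs)
        · exact (inferInstance : Subgroup.Normal _).conj_mem b hb.2 s
    · intro B g _ hB hgB
      set f := QuotientGroup.mk' (pCore p G) with hf
      have hf' : Function.Surjective f := QuotientGroup.mk'_surjective _
      have hkS : f.ker ≤ (S : Subgroup G) := by rw [QuotientGroup.ker_mk']; exact hPS
      let S' : Sylow p (G ⧸ pCore p G) := S.mapSurjective hf'
      have hcl : IsStronglyClosed (D.map f) (S' : Subgroup (G ⧸ pCore p G)) :=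
        isStronglyClosed_map_of_pGroup_ker hf' hD hkS
      have hne : D.map f ≠ ⊥ := by
        intro h
        refine hNtop (normalizer_eq_top_iff.2 ?_)
        have hDP : D ≤ pCore p G := by
          rwa [Subgroup.map_eq_bot_iff, QuotientGroup.ker_mk'] at h
        have hDn : normalizer (D : Set G) = ⊤ := top_le_iff.1 fun x _ =>
          mem_normalizer_of_cj_le (cj_le_iff.2 fun d hd =>
            hD.2 d hd x (hPS (hPn.conj_mem d (hDP hd) x)))
        exact normalizer_eq_top_iff.1 (top_le_iff.1 (hDn ▸ ZJ.normalizer_le m D))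
      obtain ⟨y, hy, hyb⟩ := ih (G ⧸ pCore p G) (hquot _ hP)
        (fun h => hfree (Involves.of_quotient f hf' h)) S' hcl hne (B.map f) (f g)
        (map_mono hB) (by
          rw [cj_le_iff]
          rintro _ ⟨b, hb, rfl⟩
          exact ⟨g * b * g⁻¹, hgB (conj_mem_cj hb), by simp⟩)
      obtain ⟨x, rfl⟩ := hf' y
      set W' := (ZJ.zj m (D.map f)).comap f with hW'
      have hW'S : W' ≤ (S : Subgroup G) := by
        refine (comap_mono ((ZJ.zj_le m _).trans (map_mono hD.1))).trans ?_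
        rw [comap_map_eq, sup_eq_left.2 hkS]
      have hWne : normalizer (W' : Set G) ≠ ⊤ := by
        intro htop
        have hle : W' ≤ pCore p G :=
          @Cfsg.Agent.Lib.PSolvable.le_pCore G _ p _ (normalizer_eq_top_iff.mp htop)
            (S.2.to_le hW'S)
        refine ZJ.zj_ne_bot (p := p) (S'.2.to_le hcl.1) hne hm ?_
        rw [← map_comap_eq_self_of_surjective hf' (ZJ.zj m (D.map f)), Subgroup.map_eq_bot_iff,
          QuotientGroup.ker_mk']
        exact hle
      have hxW : x ∈ normalizer (W' : Set G) := le_normalizer_comap f hy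
      have hSW : (S : Subgroup G) ≤ normalizer (W' : Set G) := fun s hs =>
        le_normalizer_comap f (ZJ.normalizer_le m _
          (le_normalizer_of_closed hcl (mem_map_of_mem f hs)))
      have hmem : ∀ b ∈ B, (x * b * x⁻¹)⁻¹ * (g * b * g⁻¹) ∈ pCore p G := by
        intro b hb
        rw [← QuotientGroup.eq]
        show f (x * b * x⁻¹) = f (g * b * g⁻¹)
        simpa using hyb _ (mem_map_of_mem f hb)
      have hxB : cj x B ≤ (S : Subgroup G) := by
        rw [cj_le_iff]
        intro b hb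
        have h1 : (g * b * g⁻¹)⁻¹ * (x * b * x⁻¹) ∈ (S : Subgroup G) := by
          have := (S : Subgroup G).inv_mem (hPS (hmem b hb))
          simpa [mul_assoc] using this
        simpa [mul_assoc] using (S : Subgroup G).mul_mem (hgB (conj_mem_cj hb)) h1
      exact ⟨x, hxB, hover _ hWne hSW x hxW B hB hxB, hmem⟩

end Cfsg.Agent.Lib.LocalChar.StrongClosedFusion

namespace Cfsg.Agent.Lib.LocalChar.StrongClosedFusion

open Subgroup Cfsg Cfsg.Agent.Lib

theorem zj_prime_eq_omega {G : Type*} [Group G] [Finite G] {p : ℕ} [Fact p.Prime] {U : Subgroup G}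
    (hU : IsPGroup p U) : ZJ.zj p U = omegaOne p (centerThompsonOf p U) := by
  rw [ZJ.zj_prime_eq hU, omegaCenterThompson, ← Amalgam.omegaOne_map' _ U.subtype_injective,
    Amalgam.inf_centralizer_map _ _ U.subtype_injective]
  rfl

/-- Both control statements, in the subset form. -/
theorem controlsStrongFusionOf_zj {G : Type*} [Group G] [Finite G] {p m : ℕ} [Fact p.Prime]
    (hp : p ≠ 2) (hm : m = 0 ∨ m = p) (hfree : ¬ Cfsg.Involves ↥(Cfsg.qd p) G) (S : Sylow p G)
    {D : Subgroup G} (hD : IsStronglyClosed D (S : Subgroup G)) (A : Set G)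
    (hA : A ⊆ (S : Subgroup G)) :
    ControlsStrongFusionOf (normalizer (ZJ.zj m D : Set G)) (S : Subgroup G) A := by
  refine ⟨hA, fun g hg => ?_⟩
  by_cases hD1 : D = ⊥
  · refine ⟨g, ?_, fun a _ => rfl⟩
    have hb : ZJ.zj m D = ⊥ := le_bot_iff.1 ((ZJ.zj_le m D).trans hD1.le)
    rw [hb, normalizer_eq_top_iff.2 inferInstance]
    exact mem_top g
  obtain ⟨x, hx, hxb⟩ := inducedBy_normalizer_zj hp hm hfree S hD hD1 (closure A) g
    ((closure_le _).2 hA) (by
      show (closure A).map _ ≤ _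
      rw [MonoidHom.map_closure, closure_le]
      rintro _ ⟨a, ha, rfl⟩
      exact hg ⟨a, ha, rfl⟩)
  exact ⟨x, hx, fun a ha => (hxb a (subset_closure ha)).symm⟩

end Cfsg.Agent.Lib.LocalChar.StrongClosedFusion
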