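import Mathlib
import Cfsg.Agent.Lib.LocalChar.StrongClosedFusion
import Cfsg.Agent.Lib.ZJ.Constrained
import Cfsg.Agent.S3836

/-!
# Strong fusion control by `ZJ(D)` in p-stable groups with p-constrained locals
-/

set_option autoImplicit false

namespace Cfsg.Agent.Lib.LocalChar.StrongClosedFusion

open Subgroup Cfsg Cfsg.Agent.Lib Cfsg.Agent.Lib.Functor
open Cfsg.Agent.Lib.LocalChar.StrongClosedZJ

universe u

variable {G : Type u} [Group G] [Finite G] {p m : ℕ} [Fact p.Prime]

/-- Stability passes to the quotient by a normal `p'`-subgroup. -/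
theorem stableOn_quotient (hst : IsNormalizerPStable p G) (K : Subgroup G) [K.Normal]
    (hK : (Nat.card K).Coprime p) (S : Sylow p G) :
    ZJ.StableOn p ((S : Subgroup G).map (QuotientGroup.mk' K)) := by
  set f := QuotientGroup.mk' K with hf
  have hf' : Function.Surjective f := QuotientGroup.mk'_surjective K
  intro W _ hW A hA hq
  have hWS : W ≤ (S : Subgroup G).map f :=
    (PSolvable.le_pCore hW).trans (PSolvable.pCore_le_sylow (S.mapSurjective hf'))
  have lift : ∀ {V : Subgroup (G ⧸ K)}, V ≤ (S : Subgroup G).map f →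
      ((S : Subgroup G) ⊓ V.comap f).map f = V := by
    intro V hV
    refine le_antisymm ((Subgroup.map_mono inf_le_right).trans (map_comap_le f V)) fun v hv => ?_
    obtain ⟨s, hs, rfl⟩ := hV hv
    exact ⟨s, ⟨hs, hv⟩, rfl⟩
  set W' := (S : Subgroup G) ⊓ W.comap f with hW'
  set A' := (S : Subgroup G) ⊓ A.comap f with hA'
  have hSW : (S : Subgroup G) ≤ normalizer (W' : Set G) := fun s hs =>
    mem_normalizer_of_cj_le (cj_le_iff.2 fun b hb =>
      ⟨(S : Subgroup G).mul_mem ((S : Subgroup G).mul_mem hs hb.1) ((S : Subgroup G).inv_mem hs),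
        (inferInstance : (W.comap f).Normal).conj_mem b hb.2 s⟩)
  have hq' : ⁅⁅W', A'⁆, A'⁆ = ⊥ := by
    refine le_bot_iff.1 ?_
    have h1 : ⁅⁅W', A'⁆, A'⁆ ≤ f.ker := by
      rw [← Subgroup.map_eq_bot_iff, map_commutator, map_commutator, lift hWS, lift hA, hq]
    have h2 : ⁅⁅W', A'⁆, A'⁆ ≤ (S : Subgroup G) := by
      refine (commutator_mono ((commutator_mono inf_le_left inf_le_left).trans
        (commutator_le_self _)) inf_le_left).trans (commutator_le_self _)
    refine (le_inf h2 h1).trans ?_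
    rw [QuotientGroup.ker_mk', PSolvable.inf_eq_bot_of_isPGroup_of_coprime S.2 hK]
  have hAW : A' ≤ normalizer (W' : Set G) := inf_le_left.trans hSW
  have hat : PSolvable.StableAt p A' W' := by
    rintro _ ⟨x, hx, rfl⟩
    refine hst W' (S.2.to_le inf_le_left) (x : G) x.2 (le_bot_iff.1 (le_of_le_of_eq ?_ hq'))
    exact commutator_mono (commutator_mono le_rfl (zpowers_le.2 hx)) (zpowers_le.2 hx)
  have h := (PSolvable.stableAt_map_iff K hK (S.2.to_le inf_le_left) hAW).1 hat
  rw [lift hWS, lift hA] at h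
  exact ZJ.map_le_pCore_of_stableAt W h

/-- In a `p`-constrained `p`-stable group `N(ZJ(D))` controls strong fusion. -/
theorem inducedBy_of_constrained (hp : p ≠ 2) (hm : m = 0 ∨ m = p)
    (hst : IsNormalizerPStable p G) (hc : IsPConstrained p G) (S : Sylow p G)
    {D : Subgroup G} (hD : IsStronglyClosed D (S : Subgroup G))
    {B : Subgroup G} {g : G} (hB : B ≤ (S : Subgroup G)) (hgB : cj g B ≤ (S : Subgroup G)) :
    InducedBy (normalizer (ZJ.zj m D : Set G)) B g := by
  haveI : (pPrimeCore p G).Normal :=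
    @Subgroup.normal_of_characteristic _ _ _ Cfsg.Agent.Lib.PSolvable.pPrimeCore_characteristic
  set f := QuotientGroup.mk' (pPrimeCore p G) with hf
  have hf' : Function.Surjective f := QuotientGroup.mk'_surjective _
  have hco : (Nat.card f.ker).Coprime p := by
    rw [QuotientGroup.ker_mk']; exact Cfsg.Agent.Lib.PSolvable.pPrimeCore_coprime
  let S' : Sylow p (G ⧸ pPrimeCore p G) := S.mapSurjective hf'
  have hcq := (PSolvable.isPConstrained_iff_of_pPrimeCore_eq_bot
    PSolvable.pPrimeCore_quotient_eq_bot).1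
    ((PSolvable.isPConstrained_iff_quotient_of_coprime (pPrimeCore p G)
      PSolvable.pPrimeCore_coprime).1 hc)
  have hn := zj_normal_of_closed (m := m) hp hm hcq S'
    (isStronglyClosed_map_of_coprime_ker hf' hco (isSylowIn_top_of_sylow S) hD)
    (abelianStable_of_stableOn (stableOn_quotient hst _ PSolvable.pPrimeCore_coprime S))
  exact inducedBy_of_coprime_ker hf' hco S hD hB hgB (y := f g)
    (normalizer_eq_top_iff.2 hn ▸ mem_top (f g)) fun _ _ => rfl

/-- `N(ZJ(D))` controls strong fusion if all the locals are `p`-constrained. -/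
theorem inducedBy_of_locals (hp : p ≠ 2) (hm : m = 0 ∨ m = p)
    (hst : IsNormalizerPStable p G) (S : Sylow p G)
    (hc : ∀ U : Subgroup G, U ≤ (S : Subgroup G) → U ≠ ⊥ →
      IsPConstrained p ↥(normalizer (U : Set G)))
    {D : Subgroup G} (hD : IsStronglyClosed D (S : Subgroup G)) (hD1 : D ≠ ⊥) :
    ∀ (B : Subgroup G) (g : G), B ≤ (S : Subgroup G) → cj g B ≤ (S : Subgroup G) →
      InducedBy (normalizer (ZJ.zj m D : Set G)) B g := by
  have hS := isSylowIn_top_of_sylow S
  have hSD : (S : Subgroup G) ≤ normalizer (D : Set G) := le_normalizer_of_closed hD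
  refine (engine hS (inducedBy_isFusionProp _ _)
    fun U hU hUS hUN ihU _ g hg B hB hgB => ?_).1
  set H := normalizer (U : Set G) with hH
  obtain ⟨T', hT'⟩ := hUN.exists_sylow
  have hcl : IsStronglyClosed (D.subgroupOf H) (T' : Subgroup H) :=
    hT'.symm ▸ isStronglyClosed_subgroupOf hD rfl
  obtain ⟨x', hx', hxb'⟩ := inducedBy_of_constrained (m := m) hp hm (S3836.result hst H)
    (hc U hUS hU) T' hcl (B := B.subgroupOf H) (g := ⟨g, hg⟩) (by rw [hT']; exact comap_mono hB)
    (by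
      rw [hT', cj_le_iff]
      intro b hb
      exact mem_subgroupOf.2 (hgB (conj_mem_cj (mem_subgroupOf.1 hb))))
  set W := ZJ.zj m (D ⊓ H) with hW
  set x : G := (x' : G) with hxdef
  have hx : x ∈ normalizer (W : Set G) := by
    rw [hW, ← subgroupOf_map_subtype D H, ZJ.zj_map H.subtype H.subtype_injective.injOn]
    exact le_normalizer_map H.subtype ⟨x', hx', rfl⟩
  have hxb : ∀ b ∈ B, x * b * x⁻¹ = g * b * g⁻¹ := fun b hb =>
    congrArg Subtype.val (hxb' ⟨b, (hB hb).2⟩ hb)
  set Q := (S : Subgroup G) ⊓ H with hQdef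
  by_cases hQ : Q = (S : Subgroup G)
  · rw [hW, inf_eq_left.2 (hD.1.trans (inf_eq_left.1 hQ))] at hx
    exact ⟨x, hx, hxb⟩
  have hDH1 : D ⊓ H ≠ ⊥ := by
    obtain ⟨z, hz, hz1, -, hzc⟩ := PReduced.exists_order_p_central S.2 hD.1 hSD hD1
    intro hb
    refine hz1 (mem_bot.1 (hb ▸ ⟨hz, ?_⟩ : z ∈ (⊥ : Subgroup G)))
    exact centralizer_le_normalizer _ fun u hu => hzc u (hUS hu)
  have hQN : normalizer (Q : Set G) ⊓ (S : Subgroup G) ≤ normalizer (W : Set G) := by
    intro s hs
    refine ZJ.normalizer_le m _ (mem_normalizer_of_cj_le (cj_le_iff.2 fun d hd => ?_))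
    exact ⟨(mem_normalizer_iff.1 (hSD hs.2) d).1 hd.1,
      ((mem_normalizer_iff.1 hs.1 d).1 ⟨hD.1 hd.1, hd.2⟩).2⟩
  have hQW : Q ≤ (S : Subgroup G) ⊓ normalizer (W : Set G) :=
    le_inf inf_le_left ((le_inf le_normalizer inf_le_left).trans hQN)
  have hlt : Nat.card Q < Nat.card ↥((S : Subgroup G) ⊓ normalizer (W : Set G)) :=
    Set.Finite.card_lt_card (Set.toFinite _) (lt_of_lt_of_le
      (lt_inf_normalizer S.2 inf_le_left hQ)
      (le_inf inf_le_left (by rw [inf_comm]; exact hQN)))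
  have hW1 : W ≠ ⊥ := ZJ.zj_ne_bot (p := p) (S.2.to_le (inf_le_left.trans hD.1)) hDH1 hm
  have hxgB : cj x B = cj g B := cj_congr hxb
  refine InducedBy.congr hxb (ihU W hW1 ((ZJ.zj_le m _).trans (inf_le_left.trans hD.1)) hlt x hx
    B (hB.trans hQW) ?_)
  rw [hxgB]
  exact hgB.trans hQW

/-- The subset form of `inducedBy_of_locals`. -/
theorem controlsStrongFusionOf_of_locals (hp : p ≠ 2) (hm : m = 0 ∨ m = p)
    (hst : IsNormalizerPStable p G) (S : Sylow p G)
    (hc : ∀ U : Subgroup G, U ≤ (S : Subgroup G) → U ≠ ⊥ →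
      IsPConstrained p ↥(normalizer (U : Set G)))
    {D : Subgroup G} (hD : IsStronglyClosed D (S : Subgroup G)) (A : Set G)
    (hA : A ⊆ (S : Subgroup G)) :
    ControlsStrongFusionOf (normalizer (ZJ.zj m D : Set G)) (S : Subgroup G) A := by
  refine ⟨hA, fun g hg => ?_⟩
  by_cases hD1 : D = ⊥
  · refine ⟨g, ?_, fun a _ => rfl⟩
    have hb : ZJ.zj m D = ⊥ := le_bot_iff.1 ((ZJ.zj_le m D).trans hD1.le)
    rw [hb, normalizer_eq_top_iff.2 inferInstance]
    exact mem_top g
  obtain ⟨x, hx, hxb⟩ := inducedBy_of_locals hp hm hst S hc hD hD1 (closure A) g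
    ((closure_le _).2 hA) (by
      show (closure A).map _ ≤ _
      rw [MonoidHom.map_closure, closure_le]
      rintro _ ⟨a, ha, rfl⟩
      exact hg ⟨a, ha, rfl⟩)
  exact ⟨x, hx, fun a ha => (hxb a (subset_closure ha)).symm⟩

end Cfsg.Agent.Lib.LocalChar.StrongClosedFusion
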