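import Cfsg.Agent.Lib.LocalChar.TrivialCore
import Cfsg.Agent.Lib.Coprime.Quotient

/-!
A `p`-subgroup `Y` acting on a subnormal subgroup `L` of `F*(X)` whose Fitting part has order
prime to `p`: `L = [L,Y] C_L(Y)` and `[L,Y,Y] = [L,Y]`.
-/

set_option autoImplicit false

namespace Cfsg.Agent.Lib.LocalChar

open Subgroup
open scoped commutatorElement Pointwise

universe u

variable {X : Type u} [Group X] [Finite X]

/-- A nilpotent subnormal subgroup lies in the Fitting subgroup. -/
theorem le_fittingSubgroup_of_isSubnormal {S : Subgroup X} (hS : S.IsSubnormal)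
    (hn : Group.IsNilpotent ↥S) : S ≤ fittingSubgroup X := by
  have h := map_mono (f := S.subtype) (Components.nilpotent_normal_le_iSup_pCore
    (G := ↥S) (N := ⊤) inferInstance (Group.isNilpotent_congr Subgroup.topEquiv |>.mpr hn))
  rw [← MonoidHom.range_eq_map, range_subtype, Subgroup.map_iSup] at h
  refine h.trans (iSup_le fun q => ?_)
  haveI : Fact (q : ℕ).Prime := ⟨Nat.prime_of_mem_primeFactors q.2⟩
  exact (pCoreOf_le_pCore_of_isSubnormal hS).trans (Components.pCore_le_fittingSubgroup _)

theorem map_fittingSubgroup_le_of_isSubnormal {K : Subgroup X} (hK : K.IsSubnormal) :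
    (fittingSubgroup ↥K).map K.subtype ≤ fittingSubgroup X :=
  le_fittingSubgroup_of_isSubnormal
    ((Components.fittingSubgroup_normal (G := ↥K)).isSubnormal.trans' hK)
    (haveI := Components.fittingSubgroup_isNilpotent (G := ↥K)
     Group.nilpotent_of_surjective _ (K.subtype.subgroupMap_surjective _))

theorem map_genFitting_le_of_isSubnormal {K : Subgroup X} (hK : K.IsSubnormal) :
    (generalizedFittingSubgroup ↥K).map K.subtype ≤ generalizedFittingSubgroup X := by
  show (layer ↥K ⊔ fittingSubgroup ↥K).map K.subtype ≤ layer X ⊔ fittingSubgroup X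
  rw [Subgroup.map_sup]
  exact sup_le_sup (Components.map_layer_le_layer hK) (map_fittingSubgroup_le_of_isSubnormal hK)

/-- The join of the components inside `L`. -/
theorem componentsIn_le_layer (L : Subgroup X) :
    sSup {K : Subgroup X | IsComponent K ∧ K ≤ L} ≤ layer X :=
  sSup_le fun _ h => Components.isComponent_le_layer h.1

theorem normalizer_le_normalizer_componentsIn (L : Subgroup X) :
    normalizer (L : Set X) ≤
      normalizer ((sSup {K : Subgroup X | IsComponent K ∧ K ≤ L} : Subgroup X) : Set X) := by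
  intro g hg
  refine mem_normalizer_of_conj_map_le ?_
  rw [map_le_iff_le_comap]
  refine sSup_le fun K hK => ?_
  rw [← map_le_iff_le_comap]
  refine le_sSup (a := K.map (MulAut.conj g).toMonoidHom) ⟨Components.isComponent_conj hK.1 g, ?_⟩
  exact (map_mono hK.2).trans (conj_map_eq_of_mem hg).le

/-- `L = E(L) (L ∩ F(X))` for a subnormal subgroup `L` of `F*(X)`. -/
theorem exists_mul_eq_of_le_genFitting {L : Subgroup X} (hL : L.IsSubnormal)
    (hLF : L ≤ generalizedFittingSubgroup X) {x : X} (hx : x ∈ L) :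
    ∃ e ∈ sSup {K : Subgroup X | IsComponent K ∧ K ≤ L}, ∃ f ∈ L ⊓ fittingSubgroup X,
      x = e * f := by
  set E := sSup {K : Subgroup X | IsComponent K ∧ K ≤ L} with hE
  set E' := sSup {K : Subgroup X | IsComponent K ∧ ¬ K ≤ L} with hE'
  haveI hFn := Components.fittingSubgroup_normal (G := X)
  have hEL : E ≤ L := sSup_le fun _ h => h.2
  have hE'C : E' ≤ centralizer (L : Set X) := sSup_le fun _ h =>
    Components.isComponent_le_centralizer_of_not_le h.1 hL h.2
  have hlay : layer X ≤ E ⊔ E' := Components.layer_le_iff.mpr fun K hK => by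
    by_cases h : K ≤ L
    · exact (le_sSup (show K ∈ {K : Subgroup X | IsComponent K ∧ K ≤ L} from ⟨hK, h⟩)).trans
        le_sup_left
    · exact (le_sSup (show K ∈ {K : Subgroup X | IsComponent K ∧ ¬ K ≤ L} from ⟨hK, h⟩)).trans
        le_sup_right
  have hE'lay : E' ≤ layer X := sSup_le fun _ h => Components.isComponent_le_layer h.1
  obtain ⟨l, hl, f, hf, rfl⟩ : x ∈ ((layer X : Subgroup X) : Set X) *
      ((fittingSubgroup X : Subgroup X) : Set X) := by
    rw [← mul_normal]; exact hLF hx
  dsimp only at hx ⊢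
  have hE'N : E' ≤ normalizer (E : Set X) :=
    (hE'C.trans (Components.centralizer_le_normalizer_self L)).trans
      (normalizer_le_normalizer_componentsIn L)
  obtain ⟨e', he', e, he, hee⟩ : l ∈ (E' : Set X) * (E : Set X) := by
    rw [← coe_mul_of_left_le_normalizer_right E' E hE'N, sup_comm]; exact hlay hl
  dsimp only at hee
  have hcomm : e' * e = e * e' := (mem_centralizer_iff.mp (hE'C he') e (hEL he)).symm
  have hefL : e' * f ∈ L := by
    have h : e⁻¹ * (l * f) ∈ L := mul_mem (inv_mem (hEL he)) hx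
    have heq : e⁻¹ * (l * f) = e' * f := by rw [← hee, hcomm]; group
    rwa [heq] at h
  have hlayF := Components.layer_le_centralizer_fittingSubgroup (G := X)
  have he'c : e' ∈ centralizer (layer X : Set X) := by
    refine mem_centralizer_iff.mpr fun a ha => ?_
    have hE'1 : E' ≤ centralizer ({e'} : Set X) := by
      intro b hb
      rw [mem_centralizer_singleton_iff]
      have h1 := mem_centralizer_iff.mp (hE'C hb) _ hefL
      have h2 := mem_centralizer_iff.mp (hlayF (hE'lay hb)) f hf
      have h3 : e' * b * f = b * e' * f := by rw [mul_assoc, ← h2, ← mul_assoc, h1, ← mul_assoc]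
      exact (mul_right_cancel h3).symm
    have hE1 : E ≤ centralizer ({e'} : Set X) := fun b hb =>
      mem_centralizer_singleton_iff.mpr (mem_centralizer_iff.mp (hE'C he') b (hEL hb))
    exact mem_centralizer_singleton_iff.mp ((hlay.trans (sup_le hE1 hE'1)) ha)
  haveI := Components.layer_normal (G := X)
  have he'F : e' ∈ fittingSubgroup X := by
    refine Components.le_fittingSubgroup (N := layer X ⊓ centralizer (layer X : Set X))
      inferInstance ?_ ⟨hE'lay he', he'c⟩
    refine isNilpotent_of_lowerCentralSeries_eq_bot (n := 1) ?_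
    rw [Subgroup.lowerCentralSeries_succ, Subgroup.lowerCentralSeries_zero, commutator_eq_bot_iff_le_centralizer]
    exact fun a ha => mem_centralizer_iff.mpr fun b hb => mem_centralizer_iff.mp ha.2 b hb.1
  refine ⟨e, he, e' * f, ⟨hefL, mul_mem he'F hf⟩, ?_⟩
  rw [← hee, hcomm, mul_assoc]

variable {p : ℕ}

theorem isSubnormal_commutator {E Y : Subgroup X} (hE : E.IsSubnormal)
    (hY : Y ≤ normalizer (E : Set X)) : IsSubnormal ⁅E, Y⁆ :=
  Subgroup.IsSubnormal.step _ E (le_normalizer_iff_commutator_le_left.mp hY) hE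
    (normal_subgroupOf_of_le_normalizer (normalizer_commutator_ge_left E Y))

/-- A component inside `E` lies in `[E,Y]` or is centralised by `Y`. -/
theorem component_le_centralizer_of_not_le_commutator {E Y : Subgroup X} (hE : E.IsSubnormal)
    (hY : Y ≤ normalizer (E : Set X)) {K : Subgroup X}
    (hK : IsComponent K) (hKE : K ≤ E) (hnot : ¬ K ≤ ⁅E, Y⁆) :
    K ≤ centralizer (Y : Set X) := by
  have hKD := Components.isComponent_le_centralizer_of_not_le hK (isSubnormal_commutator hE hY) hnot
  by_cases hnorm : Y ≤ normalizer (K : Set X)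
  · have h1 : ⁅⁅K, Y⁆, K⁆ = ⊥ := commutator_eq_bot_iff_le_centralizer.mpr
      ((commutator_mono hKE le_rfl).trans (le_centralizer_iff.mp hKD))
    have h2 : ⁅⁅Y, K⁆, K⁆ = ⊥ := by rw [commutator_comm Y K, h1]
    have h0 := commutator_commutator_eq_bot_of_rotate h1 h2
    rw [Components.isComponent_commutator_self hK] at h0
    exact commutator_eq_bot_iff_le_centralizer.mp h0
  · exfalso
    obtain ⟨y, hy, hyK⟩ := SetLike.not_le_iff_exists.mp hnorm
    have hne : K ≠ K.map (MulAut.conj y).toMonoidHom := fun h =>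
      hyK (mem_normalizer_of_conj_map_le h.symm.le)
    have hc := Components.isComponent_le_centralizer hK (Components.isComponent_conj hK y) hne
    refine Components.isComponent_not_le_centralizer hK fun k' hk' => ?_
    refine mem_centralizer_iff.mpr fun k hk => ?_
    have hk'y : Commute k' (y * k⁻¹ * y⁻¹) :=
      (mem_centralizer_iff.mp (hc hk') _ (conj_mem_conj_map (inv_mem hk))).symm
    have hk'c : Commute k' ⁅k, y⁆ :=
      (mem_centralizer_iff.mp (hKD hk') _ (commutator_mem_commutator (hKE hk) hy)).symm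
    have h : Commute k' (⁅k, y⁆ * (y * k⁻¹ * y⁻¹)⁻¹) := hk'c.mul_right hk'y.inv_right
    rw [show ⁅k, y⁆ * (y * k⁻¹ * y⁻¹)⁻¹ = k by rw [commutatorElement_def]; group] at h
    exact h.eq.symm

/-- On a join of components, `[E,Y]` is reproduced by `Y` and `E = [E,Y] C_E(Y)`. -/
theorem componentsIn_commutator {L Y : Subgroup X} (hL : L.IsSubnormal)
    (hYL : Y ≤ normalizer (L : Set X)) :
    let E := sSup {K : Subgroup X | IsComponent K ∧ K ≤ L}
    ⁅E, Y⁆ ≤ ⁅⁅E, Y⁆, Y⁆ ∧ E ≤ ⁅E, Y⁆ ⊔ (E ⊓ centralizer (Y : Set X)) := by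
  intro E
  have hYE : Y ≤ normalizer (E : Set X) := hYL.trans (normalizer_le_normalizer_componentsIn L)
  have hEL : E ≤ L := sSup_le fun _ h => h.2
  have hEsn : E.IsSubnormal :=
    Subgroup.IsSubnormal.step _ L hEL hL (normal_subgroupOf_of_le_normalizer
      (Subgroup.le_normalizer.trans (normalizer_le_normalizer_componentsIn L)))
  set D := ⁅E, Y⁆ with hD
  set E1 := sSup {K : Subgroup X | IsComponent K ∧ K ≤ L ∧ K ≤ D} with hE1
  have hDsn : D.IsSubnormal := isSubnormal_commutator hEsn hYE
  have hYD : Y ≤ normalizer (D : Set X) := normalizer_commutator_ge_right E Y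
  have hDE : D ≤ E := le_normalizer_iff_commutator_le_left.mp hYE
  set M := ⁅D, Y⁆ with hM
  have hMsn : M.IsSubnormal := isSubnormal_commutator hDsn hYD
  have hYM : Y ≤ normalizer (M : Set X) := normalizer_commutator_ge_right D Y
  have hsplit : E ≤ E1 ⊔ (E ⊓ centralizer (Y : Set X)) := sSup_le fun K hK => by
    by_cases h : K ≤ D
    · exact (le_sSup (show K ∈ {K : Subgroup X | IsComponent K ∧ K ≤ L ∧ K ≤ D} from
        ⟨hK.1, hK.2, h⟩)).trans le_sup_left
    · exact (le_inf (le_sSup hK) (component_le_centralizer_of_not_le_commutator hEsn hYE hK.1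
        (le_sSup hK) h)).trans le_sup_right
  have hE1D : E1 ≤ D := sSup_le fun _ h => h.2.2
  refine ⟨?_, hsplit.trans (sup_le_sup hE1D le_rfl)⟩
  -- every component of `E` normalizes `M`
  have hEM : E ≤ normalizer (M : Set X) := sSup_le fun K hK => by
    by_cases h : K ≤ M
    · exact h.trans Subgroup.le_normalizer
    · exact (Components.isComponent_le_centralizer_of_not_le hK.1 hMsn h).trans
        (Components.centralizer_le_normalizer_self M)
  -- `[D, D] ≤ M`
  have key : ∀ e ∈ E, ∀ y ∈ Y, ∀ d ∈ D, ⁅⁅e, y⁆, d⁆ ∈ M := by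
    intro e he y hy d hd
    set c := ⁅e, y⁆ with hc
    have hcD : c ∈ D := commutator_mem_commutator he hy
    have hd1 : e⁻¹ * d * e ∈ D := conj_mem_of_mem_normalizer' (normalizer_commutator_ge_left E Y he) hd
    set m1 := y * (e⁻¹ * d * e) * y⁻¹ * (e⁻¹ * d * e)⁻¹ with hm1
    have hm1M : m1 ∈ M := by
      have := inv_mem (commutator_mem_commutator hd1 hy : ⁅e⁻¹ * d * e, y⁆ ∈ M)
      simpa [commutatorElement_def, hm1, mul_assoc] using this
    set m2 := y * d * y⁻¹ * d⁻¹ with hm2
    have hm2M : m2 ∈ M := by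
      have := inv_mem (commutator_mem_commutator hd hy : ⁅d, y⁆ ∈ M)
      simpa [commutatorElement_def, hm2, mul_assoc] using this
    have h1 : e * m1 * e⁻¹ ∈ M := conj_mem_of_mem_normalizer (hEM he) hm1M
    have hcd : c * d * c⁻¹ * d⁻¹ = (c * m2 * c⁻¹)⁻¹ * (e * m1 * e⁻¹) := by
      simp only [hc, hm1, hm2, commutatorElement_def]
      group
    show c * d * c⁻¹ * d⁻¹ ∈ M
    rw [hcd]
    exact mul_mem (inv_mem (conj_mem_of_mem_normalizer (hEM (hDE hcD)) hm2M)) h1
  let S : Subgroup X :=
    { carrier := {x | x ∈ normalizer (M : Set X) ∧ ∀ d ∈ D, ⁅x, d⁆ ∈ M}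
      one_mem' := ⟨one_mem _, fun d _ => by simp⟩
      mul_mem' := fun {a b} ha hb => ⟨mul_mem ha.1 hb.1, fun d hd => by
        rw [commutatorElement_mul_left_eq_conj_mul]
        exact mul_mem (conj_mem_of_mem_normalizer ha.1 (hb.2 d hd)) (ha.2 d hd)⟩
      inv_mem' := fun {a} ha => ⟨inv_mem ha.1, fun d hd => by
        have h := conj_mem_of_mem_normalizer' ha.1 (inv_mem (ha.2 d hd))
        rw [show a⁻¹ * ⁅a, d⁆⁻¹ * a = ⁅a⁻¹, d⁆ by simp only [commutatorElement_def]; group] at h
        exact h⟩ }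
  have hDS : D ≤ S := commutator_le.mpr fun e he y hy =>
    ⟨hEM (hDE (commutator_mem_commutator he hy)), key e he y hy⟩
  have hDD : ⁅D, D⁆ ≤ M := commutator_le.mpr fun a ha d hd => (hDS ha).2 d hd
  have hE1M : E1 ≤ M := sSup_le fun K hK => by
    rw [← Components.isComponent_commutator_self hK.1]
    exact (commutator_mono hK.2.2 hK.2.2).trans hDD
  refine commutator_le.mpr fun x hx y hy => ?_
  have hE1E : E1 ≤ E := sSup_le fun K hK => le_sSup (show K ∈ {K : Subgroup X |
    IsComponent K ∧ K ≤ L} from ⟨hK.1, hK.2.1⟩)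
  have hn : E ⊓ centralizer (Y : Set X) ≤ normalizer (E1 : Set X) := by
    refine (inf_le_left.trans (componentsIn_le_layer L)).trans fun l hl => ?_
    refine mem_normalizer_of_conj_map_le ?_
    rw [map_le_iff_le_comap]
    refine sSup_le fun K hK => ?_
    rw [← map_le_iff_le_comap, conj_map_eq_of_mem (Components.layer_le_normalizer_component hK.1 hl)]
    exact le_sSup hK
  obtain ⟨c, hc, e1, he1, rfl⟩ : x ∈ ((E ⊓ centralizer (Y : Set X) : Subgroup X) : Set X) *
      (E1 : Set X) := by
    rw [← coe_mul_of_left_le_normalizer_right _ E1 hn, sup_comm]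
    exact hsplit hx
  have h1 : ⁅e1, y⁆ ∈ M := by
    have := mul_mem (hE1M he1) (conj_mem_of_mem_normalizer (hYM hy) (inv_mem (hE1M he1)))
    simpa [commutatorElement_def, mul_assoc] using this
  have h2 : ⁅c, y⁆ = 1 :=
    commutatorElement_eq_one_iff_mul_comm.mpr (mem_centralizer_iff.mp hc.2 y hy).symm
  rw [commutatorElement_mul_left_eq_conj_mul, h2, mul_one]
  exact conj_mem_of_mem_normalizer (hEM hc.1) h1

variable [hp : Fact p.Prime]

/-- `L = [L,Y] C_L(Y)` and `[L,Y,Y] = [L,Y]`. -/
theorem genFitting_commutator {L Y : Subgroup X} (hL : L.IsSubnormal)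
    (hLF : L ≤ generalizedFittingSubgroup X)
    (hcop : ∀ x ∈ L ⊓ fittingSubgroup X, Nat.Coprime (orderOf x) p)
    (hY : IsPGroup p ↥Y) (hYL : Y ≤ normalizer (L : Set X)) :
    ⁅L, Y⁆ ⊔ (L ⊓ centralizer (Y : Set X)) = L ∧ ⁅⁅L, Y⁆, Y⁆ = ⁅L, Y⁆ := by
  set E := sSup {K : Subgroup X | IsComponent K ∧ K ≤ L} with hE
  set F := L ⊓ fittingSubgroup X with hF
  have hEL : E ≤ L := sSup_le fun _ h => h.2
  obtain ⟨hE2, hE1⟩ := componentsIn_commutator hL hYL
  haveI := Components.fittingSubgroup_normal (G := X)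
  have hYF : Y ≤ normalizer (F : Set X) :=
    le_normalizer_inf_of_le hYL (by rw [normalizer_eq_top]; exact le_top)
  have hFY : ⁅F, Y⁆ ≤ F := le_normalizer_iff_commutator_le_left.mp hYF
  have hc : (Nat.card Y).Coprime (Nat.card (⁅F, Y⁆ : Subgroup X)) := by
    obtain ⟨n, hn⟩ := IsPGroup.iff_card.mp hY
    rw [hn]
    exact (((coprime_card_of_forall hcop).coprime_dvd_left
      (card_dvd_of_le hFY)).symm).pow_left n
  have hF1 := Coprime.commutator_sup_centralizer hYF hc (Or.inl (haveI := hY.isNilpotent; inferInstance))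
  have hF2 := Coprime.commutator_commutator_eq hYF hc
  have hEF : ∀ e ∈ E, ∀ f ∈ F, e * f = f * e := fun e he f hf =>
    (mem_centralizer_iff.mp
      (Components.layer_le_centralizer_fittingSubgroup (componentsIn_le_layer L he)) f hf.2).symm
  have hLE : L ≤ E ⊔ F := fun x hx => by
    obtain ⟨e, he, f, hf, rfl⟩ := exists_mul_eq_of_le_genFitting hL hLF hx
    exact mul_mem_sup he hf
  have hLY : ⁅L, Y⁆ ≤ L := le_normalizer_iff_commutator_le_left.mp hYL
  refine ⟨le_antisymm (sup_le hLY inf_le_left) (hLE.trans (sup_le ?_ ?_)), ?_⟩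
  · exact hE1.trans (sup_le_sup (commutator_mono hEL le_rfl) (inf_le_inf_right _ hEL))
  · refine hF1.symm.le.trans ?_
    exact sup_le_sup (commutator_mono inf_le_left le_rfl) (inf_le_inf_right _ inf_le_left)
  · refine le_antisymm (commutator_mono hLY le_rfl) (commutator_le.mpr fun x hx y hy => ?_)
    obtain ⟨e, he, f, hf, rfl⟩ := exists_mul_eq_of_le_genFitting hL hLF hx
    rw [commutatorElement_mul_left_eq_conj_mul]
    have hfy : ⁅f, y⁆ ∈ F := hFY (commutator_mem_commutator hf hy)
    rw [hEF e he _ hfy, mul_inv_cancel_right]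
    refine mul_mem ?_ ?_
    · exact commutator_mono (commutator_mono inf_le_left le_rfl) le_rfl
        (hF2.symm.le (commutator_mem_commutator hf hy))
    · exact commutator_mono (commutator_mono hEL le_rfl) le_rfl
        (hE2 (commutator_mem_commutator he hy))

/-- A component of `L` lies in `[L,Y]` or is centralised by `Y`. -/
theorem component_le_commutator_or_centralized {L Y : Subgroup X} (hL : L.IsSubnormal)
    (hYL : Y ≤ normalizer (L : Set X)) {K : Subgroup X} (hK : IsComponent K) (hKL : K ≤ L) :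
    K ≤ ⁅L, Y⁆ ∨ K ≤ centralizer (Y : Set X) :=
  or_iff_not_imp_left.mpr fun h => component_le_centralizer_of_not_le_commutator hL hYL hK hKL h

end Cfsg.Agent.Lib.LocalChar
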