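import Mathlib
import Cfsg.Agent.Lib.ThompsonNPC.ZJ
import Cfsg.Agent.Lib.ThompsonNPC.GlaubermanThompson
import Cfsg.Agent.Lib.Qd.ZJFunctor

/-!
# The centre of the elementary Thompson subgroup controls strong fusion under stability
-/

set_option autoImplicit false

namespace Cfsg.Agent.Lib.LocalChar.ZJeFunctor

open Subgroup Cfsg Cfsg.Agent.Lib
open scoped commutatorElement

universe u

/-- `Z(J_e(Q))` as a functor. -/
def zjeFun (p : ℕ) (Q : Type u) [Group Q] : Subgroup Q := centerThompsonOf p (⊤ : Subgroup Q)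

theorem zjeFun_isCharPFunctor (p : ℕ) [Fact p.Prime] : IsCharPFunctor.{u} p (zjeFun p) := by
  refine ⟨fun Q _ _ hQ hne => ?_, fun Q R _ _ _ _ φ => ?_⟩
  · exact ThompsonNPC.centerThompsonOf_ne_bot (hQ.to_subgroup ⊤) bot_ne_top.symm
  · rw [zjeFun, OddStability.centerThompsonOf_map_of_injOn φ.toMonoidHom _ φ.injective.injOn,
      zjeFun, map_top_of_surjective _ φ.surjective]

variable {G : Type u} [Group G] [Finite G] {p : ℕ}

theorem inducedFunctor_zjeFun (P : Subgroup G) :
    inducedFunctor (zjeFun p) P = centerThompsonOf p P := by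
  rw [inducedFunctor, zjeFun,
    OddStability.centerThompsonOf_map_of_injOn P.subtype _ P.subtype_injective.injOn,
    ← MonoidHom.range_eq_map, range_subtype]

theorem controlsStrongFusion_centerThompsonOf [Fact p.Prime] (hp : p ≠ 2)
    (hst : ∀ (K R : Subgroup G) [(R.subgroupOf K).Normal],
      IsNormalizerPStable p (↥K ⧸ R.subgroupOf K))
    (S : Sylow p G) : ControlsStrongFusion p (centerThompsonOf p (S : Subgroup G)) := by
  rw [← inducedFunctor_zjeFun]
  refine KInfinity.controlsStrongFusion_of_normal (zjeFun_isCharPFunctor p)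
    (fun Y _ _ hY hc T => ?_) S
  rw [inducedFunctor_zjeFun]
  refine ThompsonNPC.centerThompsonOf_normal_of_stable hp T hc fun W _ hW A hA _ hWA => ?_
  rintro _ ⟨a, ha, rfl⟩
  refine Qd.isPStableOn_of_isNormalizerPStable (KInfinity.stable_of_involves hst hY) W hW a
    (le_bot_iff.1 ?_)
  have h1 : ⁅W, zpowers a⁆ ≤ A := Subgroup.commutator_le.2 fun x hx y hy => by
    rw [commutatorElement_def]
    have hy' : y ∈ A := zpowers_le.2 ha hy
    exact A.mul_mem ((mem_normalizer_iff.1 (hWA hx) y).1 hy') (A.inv_mem hy')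
  refine (commutator_mono h1 (zpowers_le.2 ha)).trans (le_of_eq ?_)
  rw [commutator_eq_bot_iff_le_centralizer]
  exact fun x hx => mem_centralizer_iff.2 fun y hy =>
    congrArg Subtype.val (hA.1.1 ⟨y, hy⟩ ⟨x, hx⟩)

end Cfsg.Agent.Lib.LocalChar.ZJeFunctor
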